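import Mathlib

/-! Dense affine opens in schemes with finitely many irreducible components. -/

set_option linter.style.haveILetI false
universe u

open CategoryTheory AlgebraicGeometry

namespace Groth.Chow

/-- Through every point there is a dense affine open, if there are finitely many irreducible components. -/
theorem exists_dense_affine {X : Scheme.{u}} (hirr : (irreducibleComponents X).Finite) (x : X) :
    ∃ U : X.Opens, IsAffineOpen U ∧ x ∈ U ∧ Dense (U : Set X) := by
  classical
  obtain ⟨_, ⟨V, hV, rfl⟩, hxV, -⟩ :=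
    X.isBasis_affineOpens.exists_subset_of_mem_open (Set.mem_univ x) isOpen_univ
  haveI := hirr.fintype
  let κ := {C : irreducibleComponents X // Disjoint (C.1 : Set X) (V : Set X)}
  have hG : ∀ C : irreducibleComponents X, ∃ W : X.Opens, IsAffineOpen W ∧ (W : Set X).Nonempty ∧
      ∀ C' : irreducibleComponents X, C' ≠ C → Disjoint (W : Set X) C'.1 := by
    intro C
    let G : X.Opens := ⟨(⋃ C' ∈ ({C' | C' ≠ C} : Set (irreducibleComponents X)), C'.1)ᶜ,
      ((Set.toFinite _).isClosed_biUnion fun C' _ =>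
        isClosed_of_mem_irreducibleComponents _ C'.2).isOpen_compl⟩
    have hne : (G : Set X).Nonempty := by
      by_contra hcon
      rw [Set.not_nonempty_iff_eq_empty] at hcon
      have hsub : C.1 ⊆ ⋃₀ ↑((Finset.univ.filter (fun C' => C' ≠ C)).image
          (fun C' : irreducibleComponents X => C'.1)) := by
        intro z hz
        have : z ∉ (G : Set X) := by rw [hcon]; exact Set.notMem_empty z
        simpa [G] using this
      obtain ⟨C1, hC1, hCC1⟩ := isIrreducible_iff_sUnion_isClosed.mp C.2.1 _ (fun C1 hC1 => by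
        obtain ⟨C', -, rfl⟩ := Finset.mem_image.mp hC1
        exact isClosed_of_mem_irreducibleComponents _ C'.2) hsub
      obtain ⟨C', hC', rfl⟩ := Finset.mem_image.mp hC1
      refine (Finset.mem_filter.mp hC').2 (Subtype.ext ?_)
      exact C.2.eq_of_ge C'.2.1 hCC1
    obtain ⟨z, hz⟩ := hne
    obtain ⟨_, ⟨W, hW, rfl⟩, hzW, hWG⟩ :=
      X.isBasis_affineOpens.exists_subset_of_mem_open hz G.isOpen
    refine ⟨W, hW, ⟨z, hzW⟩, fun C' hC' => Set.disjoint_left.mpr fun w hw hwC => ?_⟩
    exact hWG hw (Set.mem_biUnion hC' hwC)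
  choose W hW hWne hWd using hG
  have hcov : ∀ z : X, ∃ C : irreducibleComponents X, z ∈ C.1 := fun z =>
    ⟨⟨_, irreducibleComponent_mem_irreducibleComponents z⟩, mem_irreducibleComponent⟩
  have hsubC : ∀ C, (W C : Set X) ⊆ C.1 := by
    intro C z hz
    obtain ⟨C', hC'⟩ := hcov z
    by_cases h : C' = C
    · exact h ▸ hC'
    · exact absurd hC' (Set.disjoint_left.mp (hWd C C' h) hz)
  let U' : Option κ → X.Opens := fun o => o.elim V (fun C => W C.1)
  refine ⟨⨆ o, U' o, IsAffineOpen.iSup_of_disjoint ?_ ?_,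
    TopologicalSpace.Opens.mem_iSup.mpr ⟨none, hxV⟩, ?_⟩
  · rintro (_ | C)
    · exact hV
    · exact hW _
  · rintro (_ | C) (_ | C') hne
    · exact absurd rfl hne
    all_goals rw [Function.onFun, ← TopologicalSpace.Opens.coe_disjoint]
    · exact (C'.2.mono_left (hsubC _)).symm
    · exact C.2.mono_left (hsubC _)
    · exact (hWd C'.1 C.1 (fun h => hne (congrArg some (Subtype.ext h)))).symm.mono_left (hsubC _)
  · intro z
    obtain ⟨C, hzC⟩ := hcov z
    have hmeet : ∃ o, ((U' o : Set X) ∩ C.1).Nonempty := by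
      by_cases h : Disjoint C.1 (V : Set X)
      · exact ⟨some ⟨C, h⟩, (hWne C).choose, (hWne C).choose_spec, hsubC C (hWne C).choose_spec⟩
      · obtain ⟨w, hw1, hw2⟩ := Set.not_disjoint_iff.mp h
        exact ⟨none, w, hw2, hw1⟩
    obtain ⟨o, w, hw1, hw2⟩ := hmeet
    refine closure_mono (s := C.1 ∩ (U' o : Set X)) ?_
      (subset_closure_inter_of_isPreirreducible_of_isOpen C.2.1.2 (U' o).isOpen ⟨w, hw2, hw1⟩ hzC)
    intro p hp
    exact TopologicalSpace.Opens.mem_iSup.mpr ⟨o, hp.2⟩

end Groth.Chow
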