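import Groth.Agent.Chow.ProjLocal
import Groth.Prelude.Def_RelProj

/-! Projective morphisms are H-projective over affine opens, hence proper. -/

set_option linter.style.haveILetI false
universe u

open CategoryTheory CategoryTheory.Limits AlgebraicGeometry TopologicalSpace Opposite

namespace Groth.Chow

theorem isHProjective_restrict_of_isProjective {X S : Scheme.{u}} {f : X ⟶ S}
    (hf : RelProj.IsProjective f) {U : S.Opens} (hU : IsAffineOpen U) :
    RelProj.IsHProjective (f ∣_ U) := by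
  classical
  obtain ⟨𝒮, P, p, chart, e, hgen, hft, hP, rfl⟩ := hf
  obtain ⟨T, hT, hspan⟩ := hft U hU
  haveI : IsAffine U.toScheme := hU
  let σ : Γ(U.toScheme, ⊤) ⟶ CommRingCat.of (𝒮.deg U hU 0) := U.topIso.hom ≫ 𝒮.strZero U hU
  let t : Fin (T.card + 1) → 𝒮.presheaf.obj (op U) := Fin.cons 0 fun a => (T.equivFin.symm a : _)
  have ht : ∀ j, t j ∈ 𝒮.deg U hU 1 := fun j => by
    induction j using Fin.cases with
    | zero => exact zero_mem _
    | succ a => exact hT (T.equivFin.symm a).2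
  have hsp : ∀ a ∈ 𝒮.deg U hU 1, ∃ c : Fin (T.card + 1) → Γ(U.toScheme, ⊤),
      a = ∑ l, (σ (c l) : 𝒮.presheaf.obj (op U)) * t l := by
    intro a ha
    obtain ⟨c, hc⟩ := hspan a ha
    refine ⟨Fin.cons 0 fun a => U.topIso.inv (c (T.equivFin.symm a)), ?_⟩
    rw [Fin.sum_univ_succ, hc, ← Finset.sum_coe_sort, ← T.equivFin.symm.sum_comp]
    simp only [t, Fin.cons_zero, Fin.cons_succ, mul_zero, zero_add]
    refine Finset.sum_congr rfl fun a _ => ?_
    show _ = (((U.topIso.hom ≫ 𝒮.strZero U hU).hom (U.topIso.inv (c (T.equivFin.symm a)))) :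
      𝒮.presheaf.obj (op U)) * _
    rw [CommRingCat.hom_comp, RingHom.comp_apply]
    erw [Iso.inv_hom_id_apply]
    rfl
  let Φ := PLoc.Φ σ t ht (hgen U hU) hsp
  haveI : IsClosedImmersion Φ := PLoc.isClosedImmersion_Φ σ t ht (hgen U hU) hsp
  let q : ((e.hom ≫ p) ⁻¹ᵁ U).toScheme ⟶ (p ⁻¹ᵁ U).toScheme := e.hom ∣_ (p ⁻¹ᵁ U)
  have hq : q ≫ (p ⁻¹ᵁ U).ι = ((e.hom ≫ p) ⁻¹ᵁ U).ι ≫ e.hom := morphismRestrict_ι e.hom (p ⁻¹ᵁ U)
  haveI : IsIso q := inferInstanceAs (IsIso (e.hom ∣_ (p ⁻¹ᵁ U)))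
  refine ⟨T.card, q ≫ (chart U hU).hom ≫ Φ, inferInstance, ?_⟩
  rw [← cancel_mono U.ι, morphismRestrict_ι, Category.assoc, Category.assoc, Category.assoc,
    reassoc_of% (PLoc.Φ_toBase σ t ht (hgen U hU) hsp)]
  have h : PLoc.toB σ ≫ U.ι =
      Proj.toSpecZero (𝒮.deg U hU) ≫ Spec.map (𝒮.strZero U hU) ≫ hU.fromSpec := by
    rw [PLoc.toB, Category.assoc, Category.assoc]
    congr 1
    rw [Spec.map_comp, Category.assoc]
    congr 1
  rw [h, hP.chart_over U hU, ← Category.assoc, hq, Category.assoc]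

theorem isProper_of_isHProjective {X S : Scheme.{u}} {f : X ⟶ S} (hf : RelProj.IsHProjective f) :
    IsProper f := by
  obtain ⟨n, i, hi, rfl⟩ := hf
  haveI := Groth.Variety2.isProper_projSpaceOver_toBase n S
  infer_instance

theorem isProper_of_isProjective {X S : Scheme.{u}} {f : X ⟶ S} (hf : RelProj.IsProjective f) :
    IsProper f := by
  refine (IsZariskiLocalAtTarget.iff_of_iSup_eq_top (P := @IsProper) (fun U : S.affineOpens => U.1)
    (iSup_affineOpens_eq_top S)).mpr fun U => ?_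
  exact isProper_of_isHProjective (isHProjective_restrict_of_isProjective hf U.2)

end Groth.Chow
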