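import Groth.Agent.Chow.VeryAmple
import Groth.Agent.Ega2Proj.RelAmple
import Groth.Agent.Ega2Proj.QuasiAffineAmple
import Groth.Agent.S9691
import Groth.Agent.S4380

/-! Composites of relatively ample modules. -/

universe u

open CategoryTheory AlgebraicGeometry Opposite TopologicalSpace

set_option backward.isDefEq.respectTransparency.types false

namespace Groth.Chow

open Groth.PicAux Groth.PropsBasic.Ample

theorem isUnit_of_gen_smul {X : Scheme.{u}} {M : X.Modules} {V : X.Opens} {g : Γ(M, V)} {c : Γ(X, V)}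
    (hg : Gen M V g) (h : Gen M V (c • g)) : IsUnit c := by
  obtain ⟨d, hd⟩ := h.exists_coeff le_rfl g
  rw [res_self, ← mul_smul] at hd
  refine IsUnit.of_mul_eq_one_right d (hg.smul_inj le_rfl ?_)
  rw [res_self, one_smul, ← hd]

theorem gen_smul_of_isUnit {X : Scheme.{u}} {M : X.Modules} {V : X.Opens} {g : Γ(M, V)} {c : Γ(X, V)}
    (hg : Gen M V g) (hc : IsUnit c) : Gen M V (c • g) := by
  intro W hW
  have e : (fun r : Γ(X, W) => r • res M hW (c • g)) =
      (fun r => r • res M hW g) ∘ (fun r => r * resX X hW c) := funext fun r => by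
    simp [res_smul, mul_smul]
  rw [e]
  obtain ⟨v, hv⟩ := hc.map (resX X hW)
  rw [← hv]
  exact (hg W hW).comp v.mulRight.bijective

theorem gen_restrict_iff {X : Scheme.{u}} {M : X.Modules} {U : X.Opens} (V : U.toScheme.Opens)
    (s : Γ(M.restrict U.ι, V)) :
    Gen (M.restrict U.ι) V s ↔ Gen M (U.ι ''ᵁ V) (s : Γ(M, U.ι ''ᵁ V)) := by
  constructor
  · intro hs A hA
    obtain ⟨A', rfl⟩ : ∃ A' : U.toScheme.Opens, U.ι ''ᵁ A' = A :=
      ⟨U.ι ⁻¹ᵁ A, by
        rw [Scheme.Hom.image_preimage_eq_opensRange_inf, Scheme.Opens.opensRange_ι]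
        exact inf_eq_right.2 (hA.trans (U.ι_image_le V))⟩
    have hA' : A' ≤ V := fun y hy => by
      obtain ⟨z, hz, hzy⟩ := hA ⟨y, hy, rfl⟩
      exact U.ι.isOpenEmbedding.injective hzy ▸ hz
    have e1 : (fun r : Γ(X, U.ι ''ᵁ A') => r • res M hA (s : Γ(M, U.ι ''ᵁ V))) =
        fun r : Γ(U.toScheme, A') => r • res (M.restrict U.ι) hA' s :=
      funext fun r => (restrict_smul U A' r _).symm
    exact (congrArg Function.Bijective e1).mpr (hs A' hA')
  · intro hs A hA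
    have e1 : (fun r : Γ(U.toScheme, A) => r • res (M.restrict U.ι) hA s) =
        fun r : Γ(X, U.ι ''ᵁ A) => r • res M (U.ι.image_mono hA) (s : Γ(M, U.ι ''ᵁ V)) :=
      funext fun r => restrict_smul U A r _
    exact (congrArg Function.Bijective e1).mpr (hs _ (U.ι.image_mono hA))

theorem le_image_gloc_restrict {X : Scheme.{u}} {M : X.Modules} {U : X.Opens}
    (s : Γ(M.restrict U.ι, ⊤)) {O : X.Opens} (hO : O ≤ U) (hO' : O ≤ U.ι ''ᵁ ⊤) :
    O ≤ U.ι ''ᵁ gloc (L := M.restrict U.ι) s ↔ Gen M O (res M hO' (s : Γ(M, U.ι ''ᵁ ⊤))) := by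
  obtain ⟨A, rfl⟩ : ∃ A : U.toScheme.Opens, U.ι ''ᵁ A = O :=
    ⟨U.ι ⁻¹ᵁ O, by
      rw [Scheme.Hom.image_preimage_eq_opensRange_inf, Scheme.Opens.opensRange_ι]
      exact inf_eq_right.2 hO⟩
  refine Iff.trans ?_ (gen_restrict_iff A (res (M.restrict U.ι) le_top s))
  constructor
  · intro h
    refine gen_gloc s fun y hy => ?_
    obtain ⟨z, hz, hzy⟩ := h ⟨y, hy, rfl⟩
    exact U.ι.isOpenEmbedding.injective hzy ▸ hz
  · exact fun h => U.ι.image_mono (le_gloc h)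

/-- Twisting a relatively ample module by a large power of an ample module of the base gives an ample module. -/
theorem exists_comp_isAmple {X Y : Scheme.{u}} (f : X ⟶ Y) [QuasiCompact f] {L : X.Modules} {K : Y.Modules}
    (hL : RelAmple.IsRelAmple f L) (hK : CohB1.IsAmple K) :
    ∃ n₀ : ℕ, ∀ n, n₀ ≤ n →
      CohB1.IsAmple (CohB1.tensorMod L ((Scheme.Modules.pullback f).obj (CohB1.tensorPow K n))) := by
  classical
  have hLi := Groth.Ega2Proj.isInvertible_of_isRelAmple hL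
  haveI : CompactSpace Y := hK.2.1
  haveI : CompactSpace X := QuasiCompact.compactSpace_of_compactSpace f
  haveI : IsSeparated f := Groth.Agent.S9691.result f L hL
  haveI := isSeparated_of_cover hK.1 hK.2.2
  haveI : X.IsSeparated := ⟨by
    rw [← Limits.terminal.comp_from f]
    infer_instance⟩
  have key : ∀ x : X, ∃ (O : X.Opens) (k N : ℕ), IsAffineOpen O ∧ x ∈ O ∧ ∀ n, N ≤ n →
      ∃ σ : Γ(CohB1.tensorPow (CohB1.tensorMod L ((Scheme.Modules.pullback f).obj (CohB1.tensorPow K n)))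
        (k + 1), ⊤), gloc σ = O := by
    intro x
    obtain ⟨W, hW, hxW, hWsec⟩ := exists_uniform_sections hK (f x)
    obtain ⟨m₁, hm₁⟩ := hWsec ∅
    obtain ⟨t, ht, -⟩ := hm₁ (m₁ + 1) (Nat.le_succ _)
    obtain ⟨hAi, -, hAcov⟩ := hL.2 ⟨W, hW⟩
    obtain ⟨k, s, hxs, hs⟩ := hAcov ⟨x, hxW⟩
    rw [genLocus_eq_gloc] at hxs hs
    obtain ⟨φ⟩ := Groth.Ega2Proj.exists_tensorPow_restrict (L := L) (f ⁻¹ᵁ W).ι (k + 1)
    let s₀ : Γ((CohB1.tensorPow L (k + 1)).restrict (f ⁻¹ᵁ W).ι, ⊤) := φ.inv.app ⊤ (gsec s)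
    have hs₀ : gloc (L := (CohB1.tensorPow L (k + 1)).restrict (f ⁻¹ᵁ W).ι) s₀ = gloc (gsec s) :=
      gloc_map φ.inv _
    have hM := isInvertible_tensorPow hLi (k + 1)
    have hP := isInvertible_tensorPow hK.1 (m₁ + 1)
    have hP' : PicF.IsInvertible ((Scheme.Modules.pullback f).obj (CohB1.tensorPow K (m₁ + 1))) :=
      isInvertible_pullback f hP
    let T : Γ((Scheme.Modules.pullback f).obj (CohB1.tensorPow K (m₁ + 1)), ⊤) := pullSec f _ t
    have hT : gloc T = f ⁻¹ᵁ W := by rw [gloc_pullSec f hP, ht]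
    have hT' : gloc T ≤ (f ⁻¹ᵁ W).ι ''ᵁ ⊤ := by rw [hT, Scheme.Opens.ι_image_top]
    obtain ⟨j₀, hj₀⟩ := exists_extend_sec hM hP' T
      (res (CohB1.tensorPow L (k + 1)) hT' (s₀ : Γ(CohB1.tensorPow L (k + 1), (f ⁻¹ᵁ W).ι ''ᵁ ⊤)))
    obtain ⟨b, hb⟩ := hj₀ j₀ le_rfl
    refine ⟨(f ⁻¹ᵁ W).ι ''ᵁ gloc (gsec s), k, (m₁ + 1) * j₀ + m₁, hs.image_of_isOpenImmersion _,
      ⟨⟨x, hxW⟩, hxs, rfl⟩, fun n hn => ?_⟩
    obtain ⟨d, hd⟩ : ∃ d, n * (k + 1) = (m₁ + 1) * j₀ + (m₁ + d) :=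
      ⟨n * (k + 1) - ((m₁ + 1) * j₀ + m₁), by
        have : n ≤ n * (k + 1) := Nat.le_mul_of_pos_right n (Nat.succ_pos k)
        omega⟩
    obtain ⟨u, hu, -⟩ := hm₁ (m₁ + d) (Nat.le_add_right _ _)
    obtain ⟨ψ⟩ : Nonempty (CohB1.tensorMod
        (CohB1.tensorMod (CohB1.tensorPow L (k + 1))
          (CohB1.tensorPow ((Scheme.Modules.pullback f).obj (CohB1.tensorPow K (m₁ + 1))) j₀))
        ((Scheme.Modules.pullback f).obj (CohB1.tensorPow K (m₁ + d))) ≅
          CohB1.tensorPow (CohB1.tensorMod L ((Scheme.Modules.pullback f).obj (CohB1.tensorPow K n))) (k + 1)) :=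
      ⟨(exists_associator _ _ _).choose ≪≫ PicGrp.tensorModIso (Iso.refl _)
          (PicGrp.tensorModIso (pullback_tensorPow f _ j₀).some.symm (Iso.refl _) ≪≫
            (exists_pullback_tensorMod f _ _).choose.symm ≪≫
            (Scheme.Modules.pullback f).mapIso (PicGrp.tensorModIso (tensorPow_mul K (m₁ + 1) j₀).some.symm
              (Iso.refl _) ≪≫ (tensorPow_add K _ _).some.symm ≪≫ eqToIso (by rw [hd]) ≪≫
              (tensorPow_mul K n (k + 1)).some) ≪≫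
            (pullback_tensorPow f _ (k + 1)).some) ≪≫
        (tensorPow_tensorMod L _ (k + 1)).some.symm⟩
    refine ⟨ψ.hom.app ⊤ (tmulSec b (pullSec f _ u)), ?_⟩
    have hi := isInvertible_tensorPow hP' j₀
    rw [gloc_map ψ.hom, gloc_tmulSec (isInvertible_tensorMod hM hi)
      (isInvertible_pullback f (isInvertible_tensorPow hK.1 _)),
      gloc_pullSec f (isInvertible_tensorPow hK.1 _), hu]
    -- on `gloc T` the section `b` is `s₀ ⊗ T^j₀`
    have hq : ∀ {V : X.Opens} (hV : V ≤ gloc T),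
        Gen _ V (res _ hV (powSec (res _ (le_top : gloc T ≤ ⊤) T) j₀)) :=
      fun hV => ((gen_gloc T le_rfl).pow j₀).res hV
    have hbV : ∀ {V : X.Opens} (hV : V ≤ gloc T), res _ (le_top : V ≤ ⊤) b = tmulSec
        (res (CohB1.tensorPow L (k + 1)) (hV.trans hT')
          (s₀ : Γ(CohB1.tensorPow L (k + 1), (f ⁻¹ᵁ W).ι ''ᵁ ⊤)))
        (res _ hV (powSec (res _ (le_top : gloc T ≤ ⊤) T) j₀)) := by
      intro V hV
      have := congrArg (res _ hV) hb
      rwa [res_res, res_tmulSec, res_res] at this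
    rw [← hs₀]
    refine le_antisymm (fun y hy => ?_) (le_inf ?_ (Scheme.Opens.ι_image_le _ _))
    · obtain ⟨U, e, -, hxU, he, -⟩ := PropsBasic.Ample.exists_gen_cover hM
      let V := gloc b ⊓ gloc T ⊓ U y
      have hVT : V ≤ gloc T := inf_le_left.trans inf_le_right
      have heV := (he y).res (inf_le_right : V ≤ U y)
      obtain ⟨c, hc⟩ := heV.exists_coeff le_rfl (res (CohB1.tensorPow L (k + 1)) (hVT.trans hT')
        (s₀ : Γ(CohB1.tensorPow L (k + 1), (f ⁻¹ᵁ W).ι ''ᵁ ⊤)))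
      rw [res_self] at hc
      have hg1 := heV.tensor (hq hVT)
      have hg2 := gen_gloc b (inf_le_left.trans inf_le_left : V ≤ gloc b)
      rw [hbV hVT, hc, tmulSec_smul_left] at hg2
      have hcu : IsUnit c := isUnit_of_gen_smul hg1 hg2
      have : Gen (CohB1.tensorPow L (k + 1)) V (res (CohB1.tensorPow L (k + 1)) (hVT.trans hT')
          (s₀ : Γ(CohB1.tensorPow L (k + 1), (f ⁻¹ᵁ W).ι ''ᵁ ⊤))) := by
        rw [hc]; exact gen_smul_of_isUnit heV hcu
      exact (le_image_gloc_restrict s₀ (hVT.trans hT.le) (hVT.trans hT')).mpr this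
        (show y ∈ V from ⟨⟨hy.1, hT.ge hy.2⟩, hxU y⟩)
    · have hOT : (f ⁻¹ᵁ W).ι ''ᵁ gloc (L := (CohB1.tensorPow L (k + 1)).restrict (f ⁻¹ᵁ W).ι) s₀ ≤ gloc T :=
        (Scheme.Opens.ι_image_le _ _).trans hT.ge
      refine le_gloc ?_
      rw [hbV hOT]
      exact ((le_image_gloc_restrict s₀ (Scheme.Opens.ι_image_le _ _) (hOT.trans hT')).mp le_rfl).tensor
        (hq hOT)
  choose O k N hO hxO hsec using key
  obtain ⟨T, hT⟩ := isCompact_univ.elim_finite_subcover (fun x => (O x : Set X))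
    (fun x => (O x).isOpen) (fun x _ => Set.mem_iUnion.2 ⟨x, hxO x⟩)
  refine ⟨T.sup N, fun n hn => ⟨isInvertible_tensorMod hLi
    (isInvertible_pullback f (isInvertible_tensorPow hK.1 n)), inferInstance, fun y => ?_⟩⟩
  obtain ⟨x, hx⟩ := Set.mem_iUnion₂.1 (hT (Set.mem_univ y))
  obtain ⟨σ, hσ⟩ := hsec x n ((Finset.le_sup hx.1).trans hn)
  refine ⟨k x, homOfSection σ, ?_⟩
  change y ∈ gloc σ ∧ IsAffineOpen (gloc σ)
  rw [hσ]
  exact ⟨hx.2, hO x⟩

end Groth.Chow
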