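import Groth.Agent.Chow.ProjPoints
import Mathlib

/-! Affine schemes of finite type over a base embed into a projective space over the base. -/

set_option linter.style.haveILetI false
universe u

open CategoryTheory CategoryTheory.Limits AlgebraicGeometry

namespace Groth.Chow

theorem isImmersion_of_pieces {T P : Scheme.{u}} (g : T ⟶ P) {κ : Type*} (R : κ → P.Opens)
    (hcov : ∀ x, ∃ i, g x ∈ R i) (hpiece : ∀ i, IsClosedImmersion (g ∣_ R i)) : IsImmersion g := by
  let O' : P.Opens := ⨆ i, R i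
  have htop : g ⁻¹ᵁ O' = ⊤ := top_le_iff.mp fun x _ => TopologicalSpace.Opens.mem_iSup.mpr (hcov x)
  haveI : IsClosedImmersion (g ∣_ O') := by
    refine IsZariskiLocalAtTarget.of_iSup_eq_top (fun i => O'.ι ⁻¹ᵁ R i) ?_ fun i => ?_
    · rw [← Scheme.Hom.preimage_iSup]
      exact top_le_iff.mp fun x _ => x.2
    · refine (MorphismProperty.arrow_mk_iso_iff @IsClosedImmersion
        (morphismRestrictRestrict g O' _)).mpr ?_
      rw [Scheme.Hom.image_preimage_eq_opensRange_inf, Scheme.Opens.opensRange_ι,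
        inf_eq_right.mpr (le_iSup R i)]
      exact hpiece i
  have hge : g = (T.topIso.inv ≫ (T.isoOfEq htop).inv) ≫ (g ∣_ O') ≫ O'.ι := by
    rw [morphismRestrict_ι, Category.assoc, Scheme.isoOfEq_inv_ι_assoc, ← Category.assoc]
    simp
  rw [hge]
  infer_instance

theorem isUnit_of_basicOpen_eq_top {X : Scheme.{u}} {r : Γ(X, ⊤)} (h : X.basicOpen r = ⊤) : IsUnit r := by
  refine RingedSpace.isUnit_of_isUnit_germ _ _ _ fun x hx => ?_
  refine (X.mem_basicOpen r x hx).mp ?_
  rw [h]; trivial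

/-- An affine scheme locally of finite type over `S` embeds in some `P^m_S`. -/
theorem exists_immersion_projSpaceOver {T S : Scheme.{u}} [IsAffine T] (f : T ⟶ S)
    [LocallyOfFiniteType f] :
    ∃ (m : ℕ) (e : T ⟶ CohB1.ProjSpaceOver m S),
      IsImmersion e ∧ e ≫ CohB1.ProjSpaceOver.toBase m S = f := by
  classical
  have key : ∀ x : T, ∃ (W : S.Opens) (h : Γ(T, ⊤)),
      IsAffineOpen W ∧ T.basicOpen h ≤ f ⁻¹ᵁ W ∧ x ∈ T.basicOpen h := by
    intro x
    obtain ⟨_, ⟨W, hW, rfl⟩, hxW, -⟩ :=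
      S.isBasis_affineOpens.exists_subset_of_mem_open (Set.mem_univ (f x)) isOpen_univ
    obtain ⟨h, hh, hxh⟩ := (isAffineOpen_top T).exists_basicOpen_le (V := f ⁻¹ᵁ W) ⟨x, hxW⟩ trivial
    exact ⟨W, h, hW, hh, hxh⟩
  choose W h hW hle hmem using key
  obtain ⟨t, ht⟩ := CompactSpace.isCompact_univ.elim_finite_subcover
    (fun x => (T.basicOpen (h x) : Set T)) (fun x => (T.basicOpen (h x)).isOpen)
    (fun x _ => Set.mem_iUnion.mpr ⟨x, hmem x⟩)
  have hgen : ∀ x : T, ∃ s : Finset Γ(T, T.basicOpen (h x)),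
      Subring.closure (Set.range (f.appLE (W x) (T.basicOpen (h x)) (hle x)) ∪ ↑s) = ⊤ := by
    intro x
    have hft := f.finiteType_appLE (hW x) ((isAffineOpen_top T).basicOpen (h x)) (hle x)
    letI : Algebra Γ(S, W x) Γ(T, T.basicOpen (h x)) :=
      (f.appLE (W x) (T.basicOpen (h x)) (hle x)).hom.toAlgebra
    haveI : Algebra.FiniteType Γ(S, W x) Γ(T, T.basicOpen (h x)) := hft
    obtain ⟨s, hs⟩ := Algebra.FiniteType.out (R := Γ(S, W x)) (A := Γ(T, T.basicOpen (h x)))
    refine ⟨s, ?_⟩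
    have h2 := congrArg Subalgebra.toSubring hs
    rw [Algebra.adjoin_eq_ring_closure, Algebra.top_toSubring] at h2
    exact h2
  choose s hs using hgen
  have hnum : ∀ (x : T) (g : Γ(T, T.basicOpen (h x))), ∃ (a : Γ(T, ⊤)) (n : ℕ),
      g * (T.presheaf.map (homOfLE le_top).op (h x)) ^ n = T.presheaf.map (homOfLE le_top).op a := by
    intro x g
    obtain ⟨⟨a, _, n, rfl⟩, hg⟩ := @IsLocalization.surj _ _ (Submonoid.powers (h x)) _ _ _
      ((isAffineOpen_top T).isLocalization_basicOpen (h x)) g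
    refine ⟨a, n, ?_⟩
    rw [← map_pow]
    exact hg
  choose a n ha using hnum
  let F : Finset Γ(T, ⊤) := t.image h ∪ t.biUnion (fun x => (s x).image (a x))
  let v : Fin (F.card + 1) → Γ(T, ⊤) := Fin.cases 1 (fun i => (F.equivFin.symm i : Γ(T, ⊤)))
  obtain ⟨α, hα⟩ := exists_ringHom.{u} (0 : Fin (F.card + 1)) v rfl
  have hidx : ∀ b ∈ F, ∃ i, α (q 0 i) = b := fun b hb =>
    ⟨(F.equivFin ⟨b, hb⟩).succ, by simp [hα, v]⟩
  let e : T ⟶ CohB1.ProjSpaceOver F.card S := pullback.lift (mor α) f (specULiftZIsTerminal.hom_ext _ _)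
  have hef : e ≫ CohB1.ProjSpaceOver.toBase F.card S = f := pullback.lift_snd _ _ _
  let pf : CohB1.ProjSpaceOver F.card S ⟶ CohB1.ProjSpace F.card Z.{u} := pullback.fst _ _
  let ps : CohB1.ProjSpaceOver F.card S ⟶ S := CohB1.ProjSpaceOver.toBase F.card S
  have h1 : e ≫ pf = (T.toSpecΓ ≫ Spec.map (CommRingCat.ofHom α)) ≫ qι 0 := by
    rw [Category.assoc]; exact pullback.lift_fst _ _ _
  refine ⟨F.card, e, ?_, hef⟩
  have hpc : ∀ x ∈ t, ∃ Ω : (CohB1.ProjSpaceOver F.card S).Opens,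
      e ⁻¹ᵁ Ω = T.basicOpen (h x) ∧ IsClosedImmersion (e ∣_ Ω) := by
    intro x hx
    obtain ⟨iy, hiy⟩ := hidx (h x) (Finset.mem_union_left _ (Finset.mem_image_of_mem h hx))
    let y : A.{u} F.card 0 := q 0 iy
    let B : (Spec (CommRingCat.of (A.{u} F.card 0))).Opens := PrimeSpectrum.basicOpen y
    have hBa : IsAffineOpen B := IsAffineOpen.Spec_basicOpen (R := CommRingCat.of (A.{u} F.card 0)) y
    let u₁ : B.toScheme ⟶ Spec (CommRingCat.of Z.{u}) := (B.ι ≫ qι 0) ≫ CohB1.ProjSpace.toSpec _ _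
    let u₂ : (W x).toScheme ⟶ Spec (CommRingCat.of Z.{u}) := (W x).ι ≫ specULiftZIsTerminal.from S
    let c : pullback u₁ u₂ ⟶ CohB1.ProjSpaceOver F.card S :=
      pullback.map u₁ u₂ (CohB1.ProjSpace.toSpec _ _) (specULiftZIsTerminal.from S)
        (B.ι ≫ qι 0) (W x).ι (𝟙 _) (Category.comp_id _) (Category.comp_id _)
    haveI : IsOpenImmersion c :=
      Scheme.pullback_map_isOpenImmersion _ _ _ _ _ _ _ _ _
    haveI : IsAffine B.toScheme := hBa
    haveI : IsAffine (W x).toScheme := hW x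
    haveI : IsAffineHom u₁ := inferInstance
    haveI : IsAffine (pullback u₁ u₂) := inferInstance
    let Ω := c.opensRange
    have hΩ : IsAffineOpen Ω := isAffineOpen_opensRange c
    haveI : IsAffine Ω.toScheme := hΩ
    let D := T.basicOpen (h x)
    haveI : IsAffine D.toScheme := (isAffineOpen_top T).basicOpen (h x)
    have hmorα : T.toSpecΓ ⁻¹ᵁ (Spec.map (CommRingCat.ofHom α) ⁻¹ᵁ B) = D := by
      show T.toSpecΓ ⁻¹ᵁ (PrimeSpectrum.basicOpen (α y)) = D
      rw [hiy, Scheme.toSpecΓ_preimage_basicOpen]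
    have hpre : e ⁻¹ᵁ Ω = D := by
      have hr : Set.range c = pf ⁻¹' Set.range (B.ι ≫ qι 0) ∩
          ps ⁻¹'
            Set.range (W x).ι := Scheme.Pullback.range_map _ _ _ _ _ _ _ _ _
      ext z
      change e z ∈ Set.range c ↔ z ∈ D
      rw [hr]
      have hf : ps (e z) = f z :=
        congrArg (fun k : T ⟶ S => k z) hef
      have hg : pf (e z) =
          qι 0 ((T.toSpecΓ ≫ Spec.map (CommRingCat.ofHom α)) z) :=
        congrArg (fun k : T ⟶ CohB1.ProjSpace F.card Z.{u} => k z) h1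
      simp only [Set.mem_inter_iff, Set.mem_preimage, hf, hg, Scheme.Opens.range_ι, SetLike.mem_coe]
      constructor
      · rintro ⟨⟨w, hw⟩, -⟩
        have := (qι.{u} (0 : Fin (F.card + 1))).isOpenEmbedding.injective hw
        rw [← hmorα]
        show (T.toSpecΓ ≫ Spec.map (CommRingCat.ofHom α)) z ∈ B
        rw [← this]
        exact w.2
      · intro hz
        refine ⟨⟨⟨(T.toSpecΓ ≫ Spec.map (CommRingCat.ofHom α)) z, ?_⟩, rfl⟩, hle x hz⟩
        rw [← hmorα] at hz
        exact hz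
    let l : D.toScheme ⟶ Ω.toScheme := IsOpenImmersion.lift Ω.ι (D.ι ≫ e) (by
      rintro _ ⟨z, rfl⟩
      rw [Scheme.Opens.range_ι]
      show z.1 ∈ e ⁻¹ᵁ Ω
      rw [hpre]; exact z.2)
    have hl : l ≫ Ω.ι = D.ι ≫ e := IsOpenImmersion.lift_fac _ _ _
    haveI : IsClosedImmersion l := by
      have hcr : ∀ w : Ω, ∃ z, c z = w.1 := fun w => w.2
      have hrk : Set.range (Ω.ι ≫ pf) ⊆
          Set.range (B.ι ≫ qι (0 : Fin (F.card + 1))) := by
        rintro _ ⟨w, rfl⟩
        obtain ⟨z, hz⟩ := hcr w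
        refine ⟨pullback.fst u₁ u₂ z, ?_⟩
        show _ = pf w.1
        rw [← hz]
        exact (congrArg (fun k : pullback u₁ u₂ ⟶ _ => k z) (pullback.lift_fst _ _ _ :
          c ≫ pf = pullback.fst u₁ u₂ ≫ B.ι ≫ qι 0)).symm
      have hrs : Set.range (Ω.ι ≫ ps) ⊆
          Set.range (W x).ι := by
        rintro _ ⟨w, rfl⟩
        obtain ⟨z, hz⟩ := hcr w
        refine ⟨pullback.snd u₁ u₂ z, ?_⟩
        show _ = ps w.1
        rw [← hz]
        exact (congrArg (fun k : pullback u₁ u₂ ⟶ _ => k z) (pullback.lift_snd _ _ _ :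
          c ≫ ps = pullback.snd u₁ u₂ ≫ (W x).ι)).symm
      let kB : Ω.toScheme ⟶ B.toScheme := IsOpenImmersion.lift (B.ι ≫ qι 0) _ hrk
      let k : Ω.toScheme ⟶ Spec (CommRingCat.of (A.{u} F.card 0)) := kB ≫ B.ι
      let sW : Ω.toScheme ⟶ (W x).toScheme := IsOpenImmersion.lift (W x).ι _ hrs
      have hlk : l ≫ k = D.ι ≫ T.toSpecΓ ≫ Spec.map (CommRingCat.ofHom α) := by
        rw [← cancel_mono (qι (0 : Fin (F.card + 1)))]
        simp only [k, kB, Category.assoc, IsOpenImmersion.lift_fac]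
        rw [← Category.assoc, hl, Category.assoc, h1, Category.assoc]
      have hls : l ≫ sW = f.resLE (W x) D (hle x) := by
        rw [← cancel_mono (W x).ι, Scheme.Hom.resLE_comp_ι, Category.assoc, IsOpenImmersion.lift_fac,
          ← Category.assoc, hl, Category.assoc]
        exact congrArg (D.ι ≫ ·) hef
      refine IsClosedImmersion.of_surjective_of_isAffine l ?_
      let K : Subring Γ(T, D) := l.appTop.hom.range.comap D.topIso.inv.hom
      have hres : ∀ r : Γ(T, ⊤), D.topIso.inv (T.presheaf.map (homOfLE (le_top : D ≤ ⊤)).op r) =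
          D.ι.appTop r := by
        intro r
        simp only [Scheme.Opens.ι_appTop, Scheme.Opens.topIso_inv]
        erw [← CommRingCat.comp_apply, ← Functor.map_comp]
        rfl
      have hcoord : ∀ z : A.{u} F.card 0, l.appTop (homOf k z) = D.ι.appTop (α z) := by
        intro z
        have h2 : homOf (l ≫ k) = (D.ι.appTop.hom).comp α := by
          rw [hlk, homOf_comp, homOf_toSpecΓ]
        exact RingHom.congr_fun h2 z
      have hu : IsUnit (homOf k y) := by
        apply isUnit_of_basicOpen_eq_top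
        rw [← Scheme.toSpecΓ_preimage_basicOpen]
        refine top_le_iff.mp fun z _ => ?_
        have h3 : k z ∈ B := (kB z).2
        rw [← toSpecΓ_homOf k] at h3
        exact h3
      have hhinv : ∀ b, b * T.presheaf.map (homOfLE (le_top : D ≤ ⊤)).op (h x) = 1 → b ∈ K := by
        intro b hb
        obtain ⟨w, hw⟩ := hu.exists_left_inv
        refine ⟨w, ?_⟩
        have h4 : D.topIso.inv b * D.ι.appTop (h x) = 1 := by
          rw [← hres, ← map_mul, hb, map_one]
        have h5 : l.appTop w * D.ι.appTop (h x) = 1 := by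
          rw [← hiy, ← hcoord, ← map_mul, hw, map_one]
        exact (IsUnit.of_mul_eq_one _ ((mul_comm _ _).trans h4)).mul_left_inj.mp (h5.trans h4.symm)
      have hKtop : K = ⊤ := by
        refine top_le_iff.mp ?_
        rw [← hs x, Subring.closure_le]
        rintro g (⟨r, rfl⟩ | hg)
        · refine ⟨sW.appTop ((W x).topIso.inv r), ?_⟩
          rw [← CommRingCat.comp_apply, ← Scheme.Hom.comp_appTop, hls, Scheme.Hom.appTop,
            Scheme.Hom.resLE_app_top]
          simp only [CommRingCat.comp_apply]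
          rw [Iso.inv_hom_id_apply]
        · have hU : IsUnit (T.presheaf.map (homOfLE (le_top : D ≤ ⊤)).op (h x)) :=
            RingedSpace.isUnit_res_basicOpen _ (h x)
          obtain ⟨b, hb⟩ := hU.exists_left_inv
          have hanum : T.presheaf.map (homOfLE (le_top : D ≤ ⊤)).op (a x g) ∈ K := by
            obtain ⟨i, hi⟩ := hidx (a x g) (Finset.mem_union_right _
              (Finset.mem_biUnion.mpr ⟨x, hx, Finset.mem_image_of_mem _ hg⟩))
            exact ⟨homOf k (q 0 i), by rw [hcoord, hi]; exact (hres _).symm⟩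
          have hg' : g = T.presheaf.map (homOfLE (le_top : D ≤ ⊤)).op (a x g) * b ^ n x g := by
            rw [← ha x g, mul_assoc, ← mul_pow, mul_comm _ b, hb, one_pow, mul_one]
          rw [hg']
          exact mul_mem hanum (pow_mem (hhinv b hb) _)
      intro z
      have hz : D.topIso.hom z ∈ K := hKtop ▸ Subring.mem_top _
      obtain ⟨w, hw⟩ := hz
      exact ⟨w, hw.trans (Iso.hom_inv_id_apply D.topIso z)⟩
    refine ⟨Ω, hpre, ?_⟩
    have hel : e ∣_ Ω = (T.isoOfEq hpre).hom ≫ l := by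
      rw [← cancel_mono Ω.ι, morphismRestrict_ι, Category.assoc, hl, Scheme.isoOfEq_hom_ι_assoc]
    rw [hel]
    infer_instance
  choose Ω hΩpre hΩcl using hpc
  refine isImmersion_of_pieces e (fun x : t => Ω x.1 x.2) (fun z => ?_) fun x => hΩcl x.1 x.2
  obtain ⟨x, hx⟩ := Set.mem_iUnion.mp (ht (Set.mem_univ z))
  obtain ⟨hxt, hz⟩ := Set.mem_iUnion.mp hx
  refine ⟨⟨x, hxt⟩, ?_⟩
  show z ∈ e ⁻¹ᵁ Ω x hxt
  rw [hΩpre]; exact hz

end Groth.Chow
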