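import Groth.Agent.Chow.ExtendSec
import Groth.Agent.PropsBasic.AmpleBasis

/-!
# Sections of all large powers of an ample module
-/

universe u

open CategoryTheory AlgebraicGeometry Opposite TopologicalSpace

set_option backward.isDefEq.respectTransparency.types false

namespace Groth.Chow

open Groth.PicAux Groth.PropsBasic.Ample

variable {X : Scheme.{u}} {L : X.Modules}

theorem extend_raise {P : X.Modules} (t : Γ(P, ⊤)) {V : X.Opens} (g : Γ(X, V)) {k : ℕ}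
    (b : Γ(CohB1.tensorPow P k, ⊤))
    (hb : res _ (le_top : V ≤ ⊤) b = g • powSec (res P (le_top : V ≤ ⊤) t) k) :
    ∀ k', k ≤ k' → ∃ b' : Γ(CohB1.tensorPow P k', ⊤),
      res _ (le_top : V ≤ ⊤) b' = g • powSec (res P (le_top : V ≤ ⊤) t) k' := by
  intro k' hk
  induction hk with
  | refl => exact ⟨b, hb⟩
  | @step k' _ ih =>
    obtain ⟨b', hb'⟩ := ih
    refine ⟨tmulSec b' t, ?_⟩
    change res (CohB1.tensorMod (CohB1.tensorPow P k') P) le_top (tmulSec b' t) =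
      g • tmulSec (powSec (res P le_top t) k') (res P le_top t)
    rw [res_tmulSec, hb', tmulSec_smul_left]
    rfl

/-- Around every point there is an affine `W` such that, for all large `n`, it is the locus of a section
of `L^n` over which given functions on `W` extend to sections of `L^n`. -/
theorem exists_uniform_sections_le (hA : CohB1.IsAmple L) (x : X) (O : X.Opens) (hxO : x ∈ O) :
    ∃ W : X.Opens, IsAffineOpen W ∧ x ∈ W ∧ W ≤ O ∧ ∀ G : Finset Γ(X, W), ∃ n₀ : ℕ, ∀ n, n₀ ≤ n →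
      ∃ σ : Γ(CohB1.tensorPow L n, ⊤), gloc σ = W ∧
        ∀ g ∈ G, ∃ b : Γ(CohB1.tensorPow L n, ⊤),
          res _ (le_top : W ≤ ⊤) b = g • res _ (le_top : W ≤ ⊤) σ := by
  classical
  have hB := isBasis_of_isAmple hA
  obtain ⟨hL, hc, hcov⟩ := hA
  have := hc
  have := isSeparated_of_cover hL hcov
  obtain ⟨U, e, hU, hxU, he⟩ := exists_affine_gen_mem hL x
  obtain ⟨_, ⟨m, s, rfl⟩, hxs, hsUO⟩ := Opens.isBasis_iff_nbhd.1 hB (show x ∈ U ⊓ O from ⟨hxU, hxO⟩)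
  have hsU := hsUO.trans inf_le_left
  have hsO := hsUO.trans inf_le_right
  have hW : IsAffineOpen (CohB1.genLocus _ s) := by
    have h := isAffineOpen_gloc_inf (isInvertible_tensorPow hL (m + 1)) s hU
    rwa [inf_eq_left.2 hsU] at h
  rw [genLocus_eq_gloc] at hxs hsU hW hsO
  clear hsUO
  generalize gsec s = t at hxs hsU hW hsO
  clear hxU s
  have hP := isInvertible_tensorPow hL (m + 1)
  refine ⟨gloc t, hW, hxs, hsO, fun G => ?_⟩
  obtain ⟨k₀, hk₀⟩ := exists_extend_sec hL hP t (res L hsU e)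
  obtain ⟨b₀, hb₀⟩ := hk₀ k₀ le_rfl
  let τ₀ : Γ(CohB1.tensorMod (CohB1.tensorMod L (CohB1.tensorPow (CohB1.tensorPow L (m + 1)) k₀))
    (CohB1.tensorPow L (m + 1)), ⊤) := tmulSec b₀ t
  have hτ₀ : gloc τ₀ = gloc t := by
    rw [show gloc τ₀ = gloc b₀ ⊓ gloc t from
      gloc_tmulSec (isInvertible_tensorMod hL (isInvertible_tensorPow hP k₀)) hP b₀ t, inf_eq_right]
    refine le_gloc ?_
    rw [hb₀]
    exact (he.res hsU).tensor ((gen_gloc t le_rfl).pow k₀)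
  obtain ⟨φ⟩ : Nonempty (CohB1.tensorMod (CohB1.tensorMod L
      (CohB1.tensorPow (CohB1.tensorPow L (m + 1)) k₀)) (CohB1.tensorPow L (m + 1)) ≅
        CohB1.tensorPow L (1 + (m + 1) * (k₀ + 1))) :=
    ⟨(exists_associator _ _ _).choose ≪≫
      PicGrp.tensorModIso (tensorPow_one L).some.symm (tensorPow_mul L (m + 1) (k₀ + 1)).some.symm ≪≫
      (tensorPow_add L 1 _).some.symm⟩
  obtain ⟨τ, hτ⟩ : ∃ τ : Γ(CohB1.tensorPow L (1 + (m + 1) * (k₀ + 1)), ⊤), gloc τ = gloc t :=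
    ⟨φ.hom.app ⊤ τ₀, (gloc_map φ.hom τ₀).trans hτ₀⟩
  choose kf bf hbf using fun g : Γ(X, gloc t) => exists_extend hP t g
  let K := G.sup kf + 1
  refine ⟨(m + 1) * ((m + 1) * (k₀ + 1) + K) + 1, fun n hn => ?_⟩
  obtain ⟨q, r, hr, hn'⟩ : ∃ q r, r < m + 1 ∧ n = (m + 1) * q + r + 1 :=
    ⟨(n - 1) / (m + 1), (n - 1) % (m + 1), Nat.mod_lt _ (Nat.succ_pos _), by
      rw [Nat.div_add_mod]; omega⟩
  have hq : (r + 1) * (k₀ + 1) + K ≤ q := by
    by_contra hlt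
    push Not at hlt
    have h1 : (r + 1) * (k₀ + 1) ≤ (m + 1) * (k₀ + 1) := Nat.mul_le_mul_right _ hr
    have h2 : q + 1 ≤ (m + 1) * (k₀ + 1) + K := by omega
    have h3 : (m + 1) * (q + 1) ≤ (m + 1) * ((m + 1) * (k₀ + 1) + K) := Nat.mul_le_mul_left _ h2
    rw [Nat.mul_succ] at h3
    omega
  obtain ⟨j, rfl⟩ := Nat.exists_eq_add_of_le hq
  have hj : n = (1 + (m + 1) * (k₀ + 1)) * (r + 1) + (m + 1) * (K + j) := by rw [hn']; ring
  subst hj
  obtain ⟨ψ⟩ : Nonempty (CohB1.tensorMod (CohB1.tensorPow (CohB1.tensorPow L (1 + (m + 1) * (k₀ + 1))) (r + 1))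
      (CohB1.tensorPow (CohB1.tensorPow L (m + 1)) (K + j)) ≅
        CohB1.tensorPow L ((1 + (m + 1) * (k₀ + 1)) * (r + 1) + (m + 1) * (K + j))) :=
    ⟨PicGrp.tensorModIso (tensorPow_mul L _ _).some.symm (tensorPow_mul L _ _).some.symm ≪≫
      (tensorPow_add L _ _).some.symm⟩
  refine ⟨ψ.hom.app ⊤ (tmulSec (powSec τ (r + 1)) (powSec t (K + j))), ?_, fun g hg => ?_⟩
  · rw [gloc_map ψ.hom, gloc_tmulSec (isInvertible_tensorPow (isInvertible_tensorPow hL _) _)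
      (isInvertible_tensorPow hP _), gloc_powSec (isInvertible_tensorPow hL _) _ (Nat.succ_pos _),
      gloc_powSec hP _ (show 0 < K + j by omega), hτ, inf_idem]
  · obtain ⟨b', hb'⟩ := extend_raise t g (bf g) (hbf g) (K + j)
      ((Finset.le_sup (f := kf) hg).trans (show G.sup kf ≤ K + j by omega))
    refine ⟨ψ.hom.app ⊤ (tmulSec (powSec τ (r + 1)) b'), ?_⟩
    rw [← app_res, ← app_res, ← Scheme.Modules.Hom.app_smul]
    congr 1
    rw [res_tmulSec, res_tmulSec, hb', tmulSec_smul_right, res_powSec (s := t)]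

theorem exists_uniform_sections (hA : CohB1.IsAmple L) (x : X) :
    ∃ W : X.Opens, IsAffineOpen W ∧ x ∈ W ∧ ∀ G : Finset Γ(X, W), ∃ n₀ : ℕ, ∀ n, n₀ ≤ n →
      ∃ σ : Γ(CohB1.tensorPow L n, ⊤), gloc σ = W ∧
        ∀ g ∈ G, ∃ b : Γ(CohB1.tensorPow L n, ⊤),
          res _ (le_top : W ≤ ⊤) b = g • res _ (le_top : W ≤ ⊤) σ := by
  obtain ⟨W, hW, hxW, -, h⟩ := exists_uniform_sections_le hA x ⊤ trivial
  exact ⟨W, hW, hxW, h⟩

end Groth.Chow
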