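import Groth.Agent.Chow.ToPn
import Groth.Agent.Chow.VeryAmple
import Groth.Agent.Chow.AffineImm
import Groth.Agent.Chow.ProjEmb.Data
import Groth.Agent.Ega2Proj.TwistGen
import Groth.Agent.S9815
import Groth.Prelude.Def_LCI2

/-!
# Ample modules and immersions into projective space over an affine base
-/

set_option linter.style.haveILetI false
universe u

open CategoryTheory CategoryTheory.Limits AlgebraicGeometry Opposite TopologicalSpace

namespace Groth.Chow

open Groth.PicAux Groth.PropsBasic.Ample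

variable {X Y : Scheme.{u}}

theorem isAmple_of_iso {L M : X.Modules} (φ : L ≅ M) (hL : CohB1.IsAmple L) : CohB1.IsAmple M := by
  refine ⟨isInvertible_of_iso hL.1 φ, hL.2.1, fun x => ?_⟩
  obtain ⟨n, s, hx, hs⟩ := hL.2.2 x
  obtain ⟨ψ⟩ := nonempty_tensorPow_iso φ (n + 1)
  rw [genLocus_eq_gloc] at hx hs
  refine ⟨n, homOfSection (ψ.hom.app ⊤ (gsec s)), ?_⟩
  change x ∈ gloc (ψ.hom.app ⊤ (gsec s)) ∧ IsAffineOpen (gloc (ψ.hom.app ⊤ (gsec s)))
  rw [gloc_map ψ.hom]
  exact ⟨hx, hs⟩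

theorem isAmple_of_tensorPow {L : X.Modules} (hL : PicF.IsInvertible L) {n : ℕ} (hn : 0 < n)
    (h : CohB1.IsAmple (CohB1.tensorPow L n)) : CohB1.IsAmple L := by
  refine ⟨hL, h.2.1, fun x => ?_⟩
  obtain ⟨k, s, hx, hs⟩ := h.2.2 x
  rw [genLocus_eq_gloc] at hx hs
  obtain ⟨c, hc⟩ := exists_gloc_transport n (k + 1) (gsec s)
  have key : ∀ N N' : ℕ, N = N' → ∀ c : Γ(CohB1.tensorPow L N, ⊤),
      ∃ c' : Γ(CohB1.tensorPow L N', ⊤), gloc c' = gloc c := by
    rintro N _ rfl c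
    exact ⟨c, rfl⟩
  obtain ⟨c', hc'⟩ := key _ (n * (k + 1) - 1 + 1) (by
    have : n ≤ n * (k + 1) := Nat.le_mul_of_pos_right n (Nat.succ_pos k)
    omega) c
  refine ⟨n * (k + 1) - 1, homOfSection c', ?_⟩
  change x ∈ gloc c' ∧ IsAffineOpen (gloc c')
  rw [hc', hc]
  exact ⟨hx, hs⟩

theorem isAmple_pullback_of_isAffineHom (f : Y ⟶ X) [IsAffineHom f] {L : X.Modules}
    (hL : CohB1.IsAmple L) : CohB1.IsAmple ((Scheme.Modules.pullback f).obj L) := by
  obtain ⟨hI, hc, hcov⟩ := hL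
  haveI := hc
  refine ⟨isInvertible_pullback f hI, QuasiCompact.compactSpace_of_compactSpace f, fun y => ?_⟩
  obtain ⟨n, s, hx, hs⟩ := hcov (f y)
  rw [genLocus_eq_gloc] at hx hs
  obtain ⟨φ⟩ := pullback_tensorPow f L (n + 1)
  refine ⟨n, homOfSection (φ.hom.app ⊤ (pullSec f _ (gsec s))), ?_⟩
  change y ∈ gloc (φ.hom.app ⊤ (pullSec f _ (gsec s))) ∧ IsAffineOpen (gloc (φ.hom.app ⊤ (pullSec f _ (gsec s))))
  rw [show gloc (φ.hom.app ⊤ (pullSec f _ (gsec s))) = f ⁻¹ᵁ gloc (gsec s) from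
    (gloc_map φ.hom _).trans (gloc_pullSec f (isInvertible_tensorPow hI _) _)]
  exact ⟨hx, hs.preimage f⟩

theorem isAmple_O1 (m : ℕ) (R : Type u) [CommRing R] : CohB1.IsAmple (ToPn.O1 m R) := by
  classical
  refine Groth.Ega2Proj.isAmple_twist_one
    (Finset.univ.image fun i : Fin (m + 1) => (MvPolynomial.X i : MvPolynomial (Fin (m + 1)) R)) ?_ ?_
  · simp only [Finset.mem_image, Finset.mem_univ, true_and, forall_exists_index, forall_apply_eq_imp_iff]
    exact fun i => ToPn.X_mem i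
  · rw [Finset.coe_image, Finset.coe_univ, Set.image_univ]
    exact ToPn.irrelevant_le_span_X

instance isAffineHom_prZ (m : ℕ) [IsAffine Y] : IsAffineHom (PEmb.prZ m Y) :=
  MorphismProperty.pullback_fst (P := @IsAffineHom) _ _ inferInstance

theorem isAmple_of_immersion [IsAffine Y] (q : X ⟶ Y) [QuasiCompact q] (L : X.Modules) (m : ℕ)
    (i : X ⟶ CohB1.ProjSpaceOver m Y) [IsImmersion i]
    (e : L ≅ (Scheme.Modules.pullback i).obj (Twist.twistOver m Y 1)) : CohB1.IsAmple L := by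
  haveI : CompactSpace X := QuasiCompact.compactSpace_of_compactSpace q
  refine isAmple_of_iso e.symm (Groth.Agent.S9815.result i i.isEmbedding _ ?_)
  exact isAmple_pullback_of_isAffineHom (PEmb.prZ m Y) (isAmple_O1 m Z.{u})

theorem isAffineOpen_prZ_inf (m : ℕ) (j : Fin (m + 1)) {B : Y.Opens} (hB : IsAffineOpen B) :
    IsAffineOpen (PEmb.prZ m Y ⁻¹ᵁ Proj.basicOpen (CohB1.polyGrading m Z.{u}) (MvPolynomial.X j) ⊓
      CohB1.ProjSpaceOver.toBase m Y ⁻¹ᵁ B) := by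
  have h := PEmb.isAffineOpen_W (𝟙 (CohB1.ProjSpaceOver m Y)) j hB
  have e : Proj.basicOpen (CohB1.polyGrading m Z.{u}) (MvPolynomial.X j) = (qι.{u} j).opensRange :=
    (Proj.opensRange_awayι (pg.{u} m) _ (X_mem j) one_pos).symm
  simp only [PEmb.W, PEmb.Xo, PEmb.pf, PEmb.strMap, Category.id_comp] at h
  rw [e]
  exact h

/-- Sections with affine loci whose coefficient functions generate give an immersion into `P^m_Y`. -/
theorem isRelVeryAmplePn_of_localCharts (q : X ⟶ Y) {L : X.Modules} {m : ℕ}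
    (s : Fin (m + 1) → Γ(L, ⊤)) {κ : Type*} (idx : κ → Fin (m + 1)) (W : κ → X.Opens) (B : κ → Y.Opens) (hB : ∀ a, IsAffineOpen (B a))
    (hWB : ∀ a, W a ≤ q ⁻¹ᵁ B a)
    (hWs : ∀ a, gloc (s (idx a)) = W a) (hW : ∀ a, IsAffineOpen (W a)) (hcov : ∀ x, ∃ a, x ∈ W a)
    (hgen : ∀ a, Subring.closure (Set.range (q.appLE (B a) (W a) (hWB a)) ∪
      {g | ∃ j, res L (le_top : W a ≤ ⊤) (s j) = g • res L (le_top : W a ≤ ⊤) (s (idx a))}) = ⊤) :
    RelAmple.IsRelVeryAmplePn q L := by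
  obtain rfl : W = fun a => gloc (s (idx a)) := funext fun a => (hWs a).symm
  let q₀ : X ⟶ Spec (CommRingCat.of Z.{u}) := specULiftZIsTerminal.from X
  have hU : ⨆ j, ToPn.U L s j = ⊤ := top_le_iff.mp fun x _ => by
    obtain ⟨a, ha⟩ := hcov x
    exact Opens.mem_iSup.mpr ⟨idx a, ha⟩
  obtain ⟨r, hr⟩ := ToPn.exists_r q₀ L s hU
  obtain ⟨τ, -⟩ := ToPn.exists_tau hr hU
  let i : X ⟶ CohB1.ProjSpaceOver m Y := pullback.lift r q (specULiftZIsTerminal.hom_ext _ _)
  have hi1 : i ≫ PEmb.prZ m Y = r := pullback.lift_fst _ _ _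
  have hi2 : i ≫ CohB1.ProjSpaceOver.toBase m Y = q := pullback.lift_snd _ _ _
  refine ⟨m, i, ?_, hi2, ⟨τ.symm ≪≫ ((Scheme.Modules.pullbackComp i (PEmb.prZ m Y)).app _ ≪≫
    (Scheme.Modules.pullbackCongr hi1).app _).symm⟩⟩
  let D : Fin (m + 1) → (Proj (CohB1.polyGrading m Z.{u})).Opens := fun j =>
    Proj.basicOpen (CohB1.polyGrading m Z.{u}) (MvPolynomial.X j)
  let V : κ → (CohB1.ProjSpaceOver m Y).Opens := fun a =>
    PEmb.prZ m Y ⁻¹ᵁ D (idx a) ⊓ CohB1.ProjSpaceOver.toBase m Y ⁻¹ᵁ B a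
  have hpre : ∀ a, i ⁻¹ᵁ V a = ToPn.U L s (idx a) := fun a => by
    rw [Scheme.Hom.preimage_inf, ← Scheme.Hom.comp_preimage, ← Scheme.Hom.comp_preimage, hi1, hi2]
    refine (congrArg (· ⊓ q ⁻¹ᵁ B a) (ToPn.preimage_D hr hU (idx a))).trans ?_
    exact inf_eq_left.2 (hWB a)
  refine isImmersion_of_pieces i (fun a => V a) (fun x => ?_) fun a => ?_
  · obtain ⟨a, ha⟩ := hcov x
    exact ⟨a, (hpre a).ge ha⟩
  have hV : IsAffineOpen (V a) := isAffineOpen_prZ_inf m (idx a) (hB a)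
  haveI : IsAffine (V a).toScheme := hV
  haveI : IsAffine (i ⁻¹ᵁ V a).toScheme := by
    rw [hpre]; exact hW a
  have hUV : ToPn.U L s (idx a) ≤ i ⁻¹ᵁ V a := (hpre a).ge
  have hsurj : Function.Surjective (i.appLE (V a) (ToPn.U L s (idx a)) hUV) := by
    intro z
    suffices h : z ∈ (i.appLE (V a) (ToPn.U L s (idx a)) hUV).hom.range from h
    refine ((hgen a).ge.trans (Subring.closure_le.mpr ?_)) (Subring.mem_top z)
    rintro g (⟨b, rfl⟩ | ⟨j, hj⟩)
    · refine ⟨(CohB1.ProjSpaceOver.toBase m Y).appLE (B a) (V a) inf_le_right b, ?_⟩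
      have h := ConcreteCategory.congr_hom (Scheme.Hom.appLE_comp_appLE i (CohB1.ProjSpaceOver.toBase m Y)
        (B a) (V a) (ToPn.U L s (idx a)) inf_le_right hUV) b
      refine h.trans ?_
      have e : ∀ (f f' : X ⟶ Y) (_ : f = f') h h',
          f.appLE (B a) (ToPn.U L s (idx a)) h b = f'.appLE (B a) (ToPn.U L s (idx a)) h' b := by
        rintro f _ rfl h h'; rfl
      exact e _ _ hi2 _ _
    · have hg : g = ToPn.c L s (idx a) j := by
        refine (ToPn.gen_U L s (idx a)).smul_inj le_rfl ?_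
        rw [res_self]
        exact hj.symm.trans (ToPn.c_spec L s (idx a) j)
      let w := HomogeneousLocalization.Away.mk (CohB1.polyGrading m Z.{u}) (ToPn.X_mem (idx a)) 1
        (MvPolynomial.X j) (by rw [one_smul]; exact ToPn.X_mem j)
      refine ⟨(PEmb.prZ m Y).appLE (D (idx a)) (V a) inf_le_left
        (Proj.awayToSection _ (MvPolynomial.X (idx a)) w), ?_⟩
      have h := ConcreteCategory.congr_hom (Scheme.Hom.appLE_comp_appLE i (PEmb.prZ m Y)
        (D (idx a)) (V a) (ToPn.U L s (idx a)) inf_le_left hUV)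
          (Proj.awayToSection _ (MvPolynomial.X (idx a)) w)
      refine h.trans ?_
      have e : ∀ (f f' : X ⟶ Proj (CohB1.polyGrading m Z.{u})) (_ : f = f') h h' b,
          f.appLE (D (idx a)) (ToPn.U L s (idx a)) h b =
            f'.appLE (D (idx a)) (ToPn.U L s (idx a)) h' b := by
        rintro f _ rfl h h' b; rfl
      refine (e _ _ hi1 _ ((ToPn.preimage_D hr hU (idx a)).ge) _).trans ?_
      rw [ToPn.appLE_awayToSection hr (idx a), hg, ToPn.α, ToPn.chart_mk, MvPolynomial.eval₂_X]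
  rw [← Scheme.Hom.resLE_eq_morphismRestrict]
  refine IsClosedImmersion.of_surjective_of_isAffine _ fun z => ?_
  let z' := (i ⁻¹ᵁ V a).topIso.hom z
  obtain ⟨w, hw⟩ := hsurj (resX X hUV z')
  refine ⟨(V a).topIso.inv w, ?_⟩
  rw [Scheme.Hom.appTop, Scheme.Hom.resLE_app_top]
  simp only [CommRingCat.comp_apply]
  rw [Iso.inv_hom_id_apply]
  have hinj : ∀ (A : X.Opens) (h : A = ToPn.U L s (idx a)), Function.Injective (resX X h.ge) := by
    rintro A rfl p p' hpp
    rwa [resX_self, resX_self] at hpp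
  have : i.appLE (V a) (i ⁻¹ᵁ V a) le_rfl w = z' := by
    refine hinj _ (hpre a) ?_
    rw [← hw]
    exact ConcreteCategory.congr_hom (Scheme.Hom.appLE_map i le_rfl (homOfLE hUV).op) w
  rw [this]
  exact Iso.hom_inv_id_apply _ z

/-- Sections with affine loci whose coefficient functions generate give an immersion into `P^m_Y`. -/
theorem isRelVeryAmplePn_of_charts [IsAffine Y] (q : X ⟶ Y) {L : X.Modules} {m : ℕ}
    (s : Fin (m + 1) → Γ(L, ⊤)) {κ : Type*} (idx : κ → Fin (m + 1)) (W : κ → X.Opens)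
    (hWs : ∀ a, gloc (s (idx a)) = W a) (hW : ∀ a, IsAffineOpen (W a)) (hcov : ∀ x, ∃ a, x ∈ W a)
    (hgen : ∀ a, Subring.closure (Set.range (q.appLE ⊤ (W a) le_top) ∪
      {g | ∃ j, res L (le_top : W a ≤ ⊤) (s j) = g • res L (le_top : W a ≤ ⊤) (s (idx a))}) = ⊤) :
    RelAmple.IsRelVeryAmplePn q L :=
  isRelVeryAmplePn_of_localCharts q s idx W (fun _ => ⊤) (fun _ => isAffineOpen_top Y)
    (fun _ => le_top) hWs hW hcov hgen

/-- All large powers of an ample module are very ample. -/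
theorem exists_isRelVeryAmplePn (q : X ⟶ Y) [QuasiCompact q] [LocallyOfFiniteType q]
    {L : X.Modules} (hA : CohB1.IsAmple L) :
    ∃ n₀ : ℕ, ∀ n, n₀ ≤ n → RelAmple.IsRelVeryAmplePn q (CohB1.tensorPow L n) := by
  classical
  haveI : CompactSpace X := hA.2.1
  choose B hB hxB _ using fun x : X =>
    exists_isAffineOpen_mem_and_subset (x := q x) (U := (⊤ : Y.Opens)) trivial
  choose W hWaff hxW hWB hWsec using fun x : X => exists_uniform_sections_le hA x (q ⁻¹ᵁ B x) (hxB x)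
  obtain ⟨t, ht⟩ := isCompact_univ.elim_finite_subcover (fun x => (W x : Set X))
    (fun x => (W x).isOpen) (fun x _ => Set.mem_iUnion.2 ⟨x, hxW x⟩)
  have hft : ∀ x : X, ∃ G : Finset Γ(X, W x),
      Subring.closure (Set.range (q.appLE (B x) (W x) (hWB x)) ∪ ↑G) = ⊤ := by
    intro x
    have hft := q.finiteType_appLE (hB x) (hWaff x) (hWB x)
    letI : Algebra Γ(Y, B x) Γ(X, W x) := (q.appLE (B x) (W x) (hWB x)).hom.toAlgebra
    haveI : Algebra.FiniteType Γ(Y, B x) Γ(X, W x) := hft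
    obtain ⟨G, hG⟩ := Algebra.FiniteType.out (R := Γ(Y, B x)) (A := Γ(X, W x))
    refine ⟨G, ?_⟩
    have h2 := congrArg Subalgebra.toSubring hG
    rw [Algebra.adjoin_eq_ring_closure, Algebra.top_toSubring] at h2
    exact h2
  choose G hG using hft
  choose n₀ hn₀ using fun x => hWsec x (G x)
  refine ⟨t.sup n₀, fun n hn => ?_⟩
  choose σ hσ b hb using fun x : t => hn₀ x n ((Finset.le_sup x.2).trans hn)
  let ι' := (t : Type u) ⊕ (Σ x : t, (G x : Type u))
  let v : ι' → Γ(CohB1.tensorPow L n, ⊤) := Sum.elim σ fun p => b p.1 p.2.1 p.2.2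
  let s : Fin (Fintype.card ι' + 1) → Γ(CohB1.tensorPow L n, ⊤) :=
    Fin.cases 0 fun j => v ((Fintype.equivFin ι').symm j)
  have hs : ∀ k, s (Fintype.equivFin ι' k).succ = v k := fun k => by simp [s]
  refine isRelVeryAmplePn_of_localCharts q s (fun x : t => (Fintype.equivFin ι' (Sum.inl x)).succ)
    (fun x => W x) (fun x => B x) (fun x => hB x) (fun x => hWB x) (fun x => ?_) (fun x => hWaff x) (fun y => ?_) fun x => ?_
  · rw [hs]
    exact hσ x
  · obtain ⟨x, hx⟩ := Set.mem_iUnion₂.1 (ht (Set.mem_univ y))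
    exact ⟨⟨x, hx.1⟩, hx.2⟩
  · refine top_le_iff.mp ((hG x).ge.trans (Subring.closure_mono ?_))
    refine Set.union_subset_union le_rfl fun g hg => ?_
    refine ⟨(Fintype.equivFin ι' (Sum.inr ⟨x, g, hg⟩)).succ, ?_⟩
    rw [hs, hs]
    exact hb x g hg

end Groth.Chow
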