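import Groth.Agent.Chow.Core
import Groth.Agent.Chow.AffineImm
import Groth.Agent.Chow.DenseAffine

/-! Chow's lemma for schemes with finitely many irreducible components. -/

set_option linter.style.haveILetI false
universe u

open CategoryTheory CategoryTheory.Limits AlgebraicGeometry

namespace Groth.Chow

theorem exists_chow {X S : Scheme.{u}} (f : X ⟶ S) [IsSeparated f] [LocallyOfFiniteType f]
    [CompactSpace X] [QuasiSeparatedSpace X] (hirr : (irreducibleComponents X).Finite) :
    ∃ (N : ℕ) (X' : Scheme.{u}) (π : X' ⟶ X) (j : X' ⟶ CohB1.ProjSpaceOver N S),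
      IsImmersion j ∧ j ≫ CohB1.ProjSpaceOver.toBase N S = π ≫ f ∧ IsProper π ∧ Surjective π ∧
      (∃ U : X.Opens, Dense (U : Set X) ∧ Dense ((π ⁻¹ᵁ U : X'.Opens) : Set X') ∧ IsIso (π ∣_ U)) ∧
      (IsReduced X → IsReduced X') ∧ (IrreducibleSpace X → IrreducibleSpace X') := by
  classical
  choose W hW hxW hd using exists_dense_affine hirr
  obtain ⟨t, ht⟩ := CompactSpace.isCompact_univ.elim_finite_subcover
    (fun x => (W x : Set X)) (fun x => (W x).isOpen) (fun x _ => Set.mem_iUnion.mpr ⟨x, hxW x⟩)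
  let V : Fin t.card → X.Opens := fun i => W (t.equivFin.symm i)
  have hV : ⨆ i, V i = ⊤ := by
    refine top_le_iff.mp fun z _ => ?_
    obtain ⟨x, hx⟩ := Set.mem_iUnion.mp (ht (Set.mem_univ z))
    obtain ⟨hxt, hz⟩ := Set.mem_iUnion.mp hx
    exact TopologicalSpace.Opens.mem_iSup.mpr ⟨t.equivFin ⟨x, hxt⟩, by
      simpa [V] using hz⟩
  have hemb : ∀ i, ∃ (m : ℕ) (e : (V i).toScheme ⟶ CohB1.ProjSpaceOver m S),
      IsImmersion e ∧ e ≫ CohB1.ProjSpaceOver.toBase m S = (V i).ι ≫ f := fun i => by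
    haveI : IsAffine (V i).toScheme := hW _
    exact exists_immersion_projSpaceOver _
  choose m e he heb using hemb
  have hU : ∀ u : Finset X, IsCompact (↑(u.inf W) : Set X) ∧ Dense (↑(u.inf W) : Set X) := by
    intro u
    induction u using Finset.induction with
    | empty => simp [CompactSpace.isCompact_univ]
    | insert x u _ ih =>
      rw [Finset.inf_insert, TopologicalSpace.Opens.coe_inf]
      exact ⟨QuasiSeparatedSpace.inter_isCompact _ _ (W x).isOpen (hW x).isCompact
        (u.inf W).isOpen ih.1, (hd x).inter_of_isOpen_right ih.2 (u.inf W).isOpen⟩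
  obtain ⟨N, X', π, j, hj, hjb, hπ, hiso, hdense, hsurj, hred, hirred⟩ :=
    chow_core f V hV m e he heb (t.inf W) (hU t).1 fun i => Finset.inf_le (t.equivFin.symm i).2
  exact ⟨N, X', π, j, hj, hjb, hπ, hsurj (hU t).2, ⟨_, (hU t).2, hdense, hiso⟩, hred,
    fun h => hirred h (hU t).2.nonempty⟩

end Groth.Chow
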