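import Groth.Agent.Chow.VeryAmple
import Groth.Prelude.Def_Curv2

/-! Twists of an invertible module by large powers of an ample one. -/

universe u

open CategoryTheory CategoryTheory.Limits AlgebraicGeometry Opposite TopologicalSpace

set_option backward.isDefEq.respectTransparency.types false

namespace Groth.Chow

open Groth.PicAux Groth.PropsBasic.Ample

variable {X : Scheme.{u}} {L L' : X.Modules}

/-- Around each point there is an affine which is the locus of a section of every large twist `L^n ⊗ L'`. -/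
theorem exists_twist_sections (hA : CohB1.IsAmple L) (hL' : PicF.IsInvertible L') (x : X) :
    ∃ (W : X.Opens) (n₀ : ℕ), IsAffineOpen W ∧ x ∈ W ∧ ∀ n, n₀ ≤ n →
      ∃ σ : Γ(CohB1.tensorMod (CohB1.tensorPow L n) L', ⊤), gloc σ = W := by
  classical
  have hB := isBasis_of_isAmple hA
  obtain ⟨hL, hc, hcov⟩ := hA
  have := hc
  have := isSeparated_of_cover hL hcov
  obtain ⟨U, e, -, hxU, he⟩ := exists_affine_gen_mem hL' x
  obtain ⟨W, hW, hxW, hWsec⟩ := exists_uniform_sections ⟨hL, hc, hcov⟩ x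
  -- shrink to the locus of a section inside `U ⊓ W`
  obtain ⟨_, ⟨m, s, rfl⟩, hxs, hsU⟩ := Opens.isBasis_iff_nbhd.1 hB (show x ∈ U ⊓ W from ⟨hxU, hxW⟩)
  rw [genLocus_eq_gloc] at hxs hsU
  have hWt : IsAffineOpen (gloc (gsec s)) := by
    have h := isAffineOpen_gloc_inf (isInvertible_tensorPow hL (m + 1)) (homOfSection (gsec s)) hW
    rwa [inf_eq_left.2 (hsU.trans inf_le_right)] at h
  generalize gsec s = t at hxs hsU hWt
  have hP := isInvertible_tensorPow hL (m + 1)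
  obtain ⟨k₀, hk₀⟩ := exists_extend_sec hL' hP t (res L' (hsU.trans inf_le_left) e)
  obtain ⟨n₁, hn₁⟩ := hWsec ∅
  refine ⟨gloc t, (m + 1) * (k₀ + 1) + n₁, hWt, hxs, fun n hn => ?_⟩
  obtain ⟨j, rfl⟩ := Nat.exists_eq_add_of_le hn
  obtain ⟨σ, hσ, -⟩ := hn₁ (n₁ + j) (Nat.le_add_right _ _)
  obtain ⟨b, hb⟩ := hk₀ k₀ le_rfl
  let τ : Γ(CohB1.tensorMod (CohB1.tensorMod (CohB1.tensorMod L' (CohB1.tensorPow (CohB1.tensorPow L (m + 1)) k₀))
    (CohB1.tensorPow L (m + 1))) (CohB1.tensorPow L (n₁ + j)), ⊤) := tmulSec (tmulSec b t) σ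
  obtain ⟨φ⟩ : Nonempty (CohB1.tensorMod (CohB1.tensorMod
      (CohB1.tensorMod L' (CohB1.tensorPow (CohB1.tensorPow L (m + 1)) k₀)) (CohB1.tensorPow L (m + 1)))
      (CohB1.tensorPow L (n₁ + j)) ≅
        CohB1.tensorMod (CohB1.tensorPow L ((m + 1) * (k₀ + 1) + n₁ + j)) L') :=
    ⟨PicGrp.tensorModIso (exists_associator _ _ _).choose (Iso.refl _) ≪≫
      (exists_associator _ _ _).choose ≪≫
      PicGrp.tensorModIso (Iso.refl L') (PicGrp.tensorModIso (tensorPow_mul L (m + 1) (k₀ + 1)).some.symm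
        (Iso.refl _) ≪≫ (tensorPow_add L _ _).some.symm ≪≫ eqToIso (by rw [add_assoc])) ≪≫
      (exists_braiding _ _).choose⟩
  refine ⟨φ.hom.app ⊤ τ, ?_⟩
  have hbW : gloc t ≤ gloc b := by
    refine le_gloc ?_
    rw [hb]
    exact (he.res (hsU.trans inf_le_left)).tensor ((gen_gloc t le_rfl).pow k₀)
  have hi := isInvertible_tensorPow hP k₀
  rw [gloc_map φ.hom, gloc_tmulSec (isInvertible_tensorMod (isInvertible_tensorMod hL' hi) hP)
    (isInvertible_tensorPow hL _), gloc_tmulSec (isInvertible_tensorMod hL' hi) hP, hσ,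
    inf_eq_right.2 hbW, inf_eq_left.2 (hsU.trans inf_le_right)]

/-- Global sections whose loci cover generate. -/
theorem isGloballyGenerated_of_cover {M : X.Modules} {ι : Type u} (t : ι → Γ(M, ⊤))
    (hcov : ⨆ i, gloc (t i) = ⊤) : Curv2.IsGloballyGenerated M := by
  refine ⟨ι, Sigma.desc fun i => homOfSection (t i), ⟨fun {Z} (ψ ψ' : M ⟶ Z) h => ?_⟩⟩
  refine hom_ext_gen hcov (fun i => res _ le_top (t i)) (fun i => gen_gloc (t i) le_rfl) fun i => ?_
  have h1 : homOfSection (t i) ≫ ψ = homOfSection (t i) ≫ ψ' := by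
    exact ((Sigma.ι_desc_assoc (fun i => homOfSection (t i)) i ψ).symm.trans
      (congrArg (Sigma.ι (fun _ : ι => Coh.structureModule X) i ≫ ·) h)).trans
        (Sigma.ι_desc_assoc (fun i => homOfSection (t i)) i ψ')
  have h2 := congr(($h1).app ⊤ (oneSec X ⊤))
  simp only [Scheme.Modules.Hom.comp_app, ConcreteCategory.comp_apply, homOfSection_one] at h2
  rw [app_res, app_res, h2]

theorem exists_twist_isAmple (hA : CohB1.IsAmple L) (hL' : PicF.IsInvertible L') :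
    ∃ n₀ : ℕ, 0 < n₀ ∧ ∀ n, n₀ ≤ n → CohB1.IsAmple (CohB1.tensorMod (CohB1.tensorPow L n) L') ∧
      Curv2.IsGloballyGenerated (CohB1.tensorMod (CohB1.tensorPow L n) L') := by
  classical
  haveI : CompactSpace X := hA.2.1
  choose W N hW hxW hsec using exists_twist_sections hA hL'
  obtain ⟨t, ht⟩ := isCompact_univ.elim_finite_subcover (fun x => (W x : Set X))
    (fun x => (W x).isOpen) (fun x _ => Set.mem_iUnion.2 ⟨x, hxW x⟩)
  refine ⟨t.sup N + 1, Nat.succ_pos _, fun n hn => ?_⟩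
  choose σ hσ using fun x : t => hsec x n ((Finset.le_sup x.2).trans ((Nat.le_succ _).trans hn))
  have hmem : ∀ y : X, ∃ x : t, y ∈ gloc (σ x) := fun y => by
    obtain ⟨x, hx⟩ := Set.mem_iUnion₂.1 (ht (Set.mem_univ y))
    exact ⟨⟨x, hx.1⟩, (hσ _).ge hx.2⟩
  refine ⟨⟨isInvertible_tensorMod (isInvertible_tensorPow hA.1 n) hL', hA.2.1, fun y => ?_⟩,
    isGloballyGenerated_of_cover σ (top_le_iff.1 fun y _ => Opens.mem_iSup.2 (hmem y))⟩
  obtain ⟨x, hx⟩ := hmem y
  obtain ⟨e⟩ := tensorPow_one (CohB1.tensorMod (CohB1.tensorPow L n) L')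
  refine ⟨0, homOfSection (e.inv.app ⊤ (σ x)), ?_⟩
  change y ∈ gloc (e.inv.app ⊤ (σ x)) ∧ IsAffineOpen (gloc (e.inv.app ⊤ (σ x)))
  rw [gloc_map e.inv]
  exact ⟨hx, (hσ x) ▸ hW x⟩

end Groth.Chow
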