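import Groth.Agent.Chow.NormFin
import Groth.Agent.Chow.AmpleComp
import Groth.Agent.Pi1Ample.FiniteAffine

/-!
# Norms of sections of an inverse image of an invertible module, and descent of ampleness
-/

universe u

open CategoryTheory AlgebraicGeometry Opposite TopologicalSpace

set_option backward.isDefEq.respectTransparency.types false

namespace Groth.Chow

open Groth.PicAux Groth.PropsBasic.Ample

variable {X' X : Scheme.{u}} (g : X' ⟶ X) {M : X.Modules}

/-- Two local norm powers agree on a common open. -/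
theorem nm_pow_smul_eq {V : X.Opens} {n m : ℕ} {b : Fin n → Γ(X', g ⁻¹ᵁ V)}
    {b' : Fin m → Γ(X', g ⁻¹ᵁ V)} (hb : SecBasis g V b) (hb' : SecBasis g V b') {D k l : ℕ}
    (hk : n * k = D) (hl : m * l = D) {e : Γ(M, V)} {a : Γ(X, V)} {c c' : Γ(X', g ⁻¹ᵁ V)}
    (hc : c = c' * g.app V a) :
    nm g V c ^ k • powSec e D = nm g V c' ^ l • powSec (a • e) D := by
  rcases secBasis_card_eq hb hb' with h | h
  · subst h
    rcases Nat.eq_zero_or_pos n with h0 | h0
    · subst h0
      have hD : D = 0 := by simpa using hk.symm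
      have h1 : Subsingleton Γ(X', g ⁻¹ᵁ V) :=
        (hb V le_rfl).2.subsingleton
      have e1 : ∀ z, nm g V z = 1 := fun z => by
        rw [Subsingleton.elim z 1, map_one]
      rw [e1, e1, one_pow, one_pow, powSec_smul, hD, pow_zero, one_smul, one_smul]
    have hkl : k = l := Nat.eq_of_mul_eq_mul_left h0 (hk.trans hl.symm)
    rw [← hkl, hc, map_mul, nm_app hb, powSec_smul, mul_pow, ← pow_mul, hk, mul_smul]
  · have := Module.subsingleton Γ(X, V) Γ(CohB1.tensorPow M D, V)
    exact Subsingleton.elim _ _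

/-- The norm of a section of `g^*M`. -/
theorem exists_norm_sec [CompactSpace X] [Surjective g]
    (hb : ∀ x : X, ∃ (W : X.Opens) (n : ℕ) (b : Fin n → Γ(X', g ⁻¹ᵁ W)), x ∈ W ∧ SecBasis g W b)
    (hM : PicF.IsInvertible M) (hg : IsClosedMap g) (s : Γ((Scheme.Modules.pullback g).obj M, ⊤)) :
    ∃ (D : ℕ) (t : Γ(CohB1.tensorPow M D, ⊤)), 0 < D ∧ g ⁻¹ᵁ gloc t ≤ gloc s ∧
      ∀ x, (∀ y, g y = x → y ∈ gloc s) → x ∈ gloc t := by
  classical
  have key : ∀ x : X, ∃ (W : X.Opens) (e : Γ(M, W)) (n : ℕ) (b : Fin n → Γ(X', g ⁻¹ᵁ W))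
      (c : Γ(X', g ⁻¹ᵁ W)), x ∈ W ∧ 0 < n ∧ Gen M W e ∧ SecBasis g W b ∧
      res _ le_top s = c • pullSec g M e := by
    intro x
    obtain ⟨W, n, b, hxW, hW⟩ := hb x
    obtain ⟨U, e, -, hxU, he⟩ := exists_affine_gen_mem hM x
    obtain ⟨y, rfl⟩ := g.surjective x
    have he' := he.res (inf_le_right : W ⊓ U ≤ U)
    obtain ⟨c, hc⟩ := (he'.pull g).exists_coeff le_rfl (res _ le_top s)
    rw [res_self] at hc
    exact ⟨W ⊓ U, res M inf_le_right e, n, _, c, ⟨hxW, hxU⟩, secBasis_rank_pos hW hxW, he',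
      hW.res inf_le_left, hc⟩
  choose W e n b c hxW hn he hbW hc using key
  obtain ⟨T, hT⟩ := isCompact_univ.elim_finite_subcover (fun x => (W x : Set X))
    (fun x => (W x).isOpen) (fun x _ => Set.mem_iUnion.2 ⟨x, hxW x⟩)
  let D := ∏ x ∈ T, n x
  have hD : 0 < D := Finset.prod_pos fun x _ => hn x
  let k : T → ℕ := fun i => D / n i.1
  have hk : ∀ i : T, n i.1 * k i = D := fun i =>
    Nat.mul_div_cancel' (Finset.dvd_prod_of_mem n i.2)
  have hk0 : ∀ i : T, k i ≠ 0 := fun i h => by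
    have := hk i
    rw [h, mul_zero] at this
    omega
  have hcov : (⊤ : X.Opens) ≤ iSup fun i : T => W i.1 := fun x _ => by
    obtain ⟨z, hz, hx⟩ := Set.mem_iUnion₂.1 (hT (Set.mem_univ x))
    exact Opens.mem_iSup.2 ⟨⟨z, hz⟩, hx⟩
  obtain ⟨t, ht, -⟩ := res_glue (M := CohB1.tensorPow M D) (U := ⊤) (fun i : T => W i.1)
    (fun _ => le_top) hcov (fun i => nm g (W i.1) (c i.1) ^ k i • powSec (e i.1) D) (fun i j => by
      let V := W i.1 ⊓ W j.1
      have hVi : V ≤ W i.1 := inf_le_left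
      have hVj : V ≤ W j.1 := inf_le_right
      obtain ⟨a, ha⟩ := (he i.1).exists_coeff hVi (res M hVj (e j.1))
      have hci := congrArg (res _ (g.preimage_mono hVi)) (hc i.1)
      have hcj := congrArg (res _ (g.preimage_mono hVj)) (hc j.1)
      rw [res_res, res_smul, res_pullSec g M hVi] at hci
      rw [res_res, res_smul, res_pullSec g M hVj] at hcj
      rw [ha, pullSec_smul, ← mul_smul] at hcj
      have h1 : resX X' (g.preimage_mono hVi) (c i.1) =
          resX X' (g.preimage_mono hVj) (c j.1) * g.app V a := by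
        refine (((he i.1).res hVi).pull g).smul_inj le_rfl ?_
        rw [res_self]
        exact hci.symm.trans hcj
      rw [res_smul, res_smul, res_powSec, res_powSec, map_pow, map_pow, resX_nm (hbW i.1),
        resX_nm (hbW j.1), ha]
      exact nm_pow_smul_eq g ((hbW i.1).res hVi) ((hbW j.1).res hVj) (hk i) (hk j) h1)
  -- `t` generates over `V ≤ W i` iff the coefficient of `s` is invertible there
  have hiff : ∀ (i : T) (V : X.Opens) (hV : V ≤ W i.1),
      V ≤ gloc t ↔ IsUnit (resX X' (g.preimage_mono hV) (c i.1)) := by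
    intro i V hV
    have h1 : res (CohB1.tensorPow M D) (le_top : V ≤ ⊤) t =
        nm g V (resX X' (g.preimage_mono hV) (c i.1)) ^ k i • powSec (res M hV (e i.1)) D := by
      have h2 := congrArg (res (CohB1.tensorPow M D) hV) (ht i)
      rw [res_res, res_smul, res_powSec, map_pow, resX_nm (hbW i.1)] at h2
      exact h2
    have hg' := ((he i.1).res hV).pow D
    constructor
    · intro h
      have h2 := gen_gloc t h
      rw [h1] at h2
      exact (isUnit_nm_iff ((hbW i.1).res hV) _).1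
        ((isUnit_pow_iff (hk0 i)).1 (isUnit_of_gen_smul hg' h2))
    · intro h
      refine le_gloc ?_
      rw [h1]
      exact gen_smul_of_isUnit hg' (((isUnit_nm_iff ((hbW i.1).res hV) _).2 h).pow _)
  have hs : ∀ (i : T) (V : X.Opens) (hV : V ≤ W i.1),
      g ⁻¹ᵁ V ≤ gloc s ↔ IsUnit (resX X' (g.preimage_mono hV) (c i.1)) := by
    intro i V hV
    have h1 : res _ (le_top : g ⁻¹ᵁ V ≤ ⊤) s =
        resX X' (g.preimage_mono hV) (c i.1) • pullSec g M (res M hV (e i.1)) := by
      have h2 := congrArg (res _ (g.preimage_mono hV)) (hc i.1)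
      rw [res_res, res_smul, res_pullSec g M hV] at h2
      exact h2
    have hg' := ((he i.1).res hV).pull g
    constructor
    · intro h
      have h2 := gen_gloc s h
      rw [h1] at h2
      exact isUnit_of_gen_smul hg' h2
    · intro h
      refine le_gloc ?_
      rw [h1]
      exact gen_smul_of_isUnit hg' h
  refine ⟨D, t, hD, fun y hy => ?_, fun x hx => ?_⟩
  · obtain ⟨i, hi⟩ := Opens.mem_iSup.1 (hcov (show g y ∈ (⊤ : X.Opens) from trivial))
    exact (hs i (gloc t ⊓ W i.1) inf_le_right).2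
      ((hiff i _ inf_le_right).1 inf_le_left) ⟨hy, hi⟩
  · obtain ⟨i, hi⟩ := Opens.mem_iSup.1 (hcov (show x ∈ (⊤ : X.Opens) from trivial))
    let O : X.Opens := ⟨(g '' (gloc s : Set X')ᶜ)ᶜ, (hg _ (gloc s).isOpen.isClosed_compl).isOpen_compl⟩
    have hxO : x ∈ O := fun ⟨y, hy, hyx⟩ => hy (hx y hyx)
    refine (hiff i (O ⊓ W i.1) inf_le_right).2 ((hs i _ inf_le_right).1 ?_) ⟨hxO, hi⟩
    intro y hy
    by_contra h
    exact hy.1 ⟨y, h, rfl⟩

/-- Ampleness descends along finite surjective morphisms with finite locally free direct image. -/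
theorem isAmple_of_pullback [CompactSpace X] [IsFinite g] [Surjective g]
    (hb : ∀ x : X, ∃ (W : X.Opens) (n : ℕ) (b : Fin n → Γ(X', g ⁻¹ᵁ W)), x ∈ W ∧ SecBasis g W b)
    (hM : PicF.IsInvertible M) (hA : CohB1.IsAmple ((Scheme.Modules.pullback g).obj M)) :
    CohB1.IsAmple M := by
  refine ⟨hM, inferInstance, fun x => ?_⟩
  obtain ⟨O, hO, hxO, -⟩ := exists_isAffineOpen_mem_and_subset (x := x) (U := (⊤ : X.Opens)) trivial
  obtain ⟨N, s, hZs, hsO, -⟩ := exists_affine_gloc_finite hA (g ⁻¹' {x})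
    (g.finite_preimage_singleton x) (g ⁻¹ᵁ O) (fun y hy => show g y ∈ O from hy ▸ hxO)
  obtain ⟨φ⟩ := pullback_tensorPow g M (N + 1)
  obtain ⟨D, t, hD, h1, h2⟩ := exists_norm_sec g hb (isInvertible_tensorPow hM (N + 1))
    g.isClosedMap (φ.inv.app ⊤ s)
  rw [gloc_map φ.inv] at h1 h2
  obtain ⟨u, hu⟩ := exists_gloc_transport (N + 1) D t
  obtain ⟨n, hn⟩ := Nat.exists_eq_succ_of_ne_zero (Nat.mul_pos (Nat.succ_pos N) hD).ne'
  obtain ⟨v, hv⟩ : ∃ v : Γ(CohB1.tensorPow M (n + 1), ⊤), gloc v = gloc u := by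
    have key : ∀ A B : ℕ, A = B → ∀ w : Γ(CohB1.tensorPow M A, ⊤),
        ∃ w' : Γ(CohB1.tensorPow M B, ⊤), gloc w' = gloc w := by
      rintro A _ rfl w
      exact ⟨w, rfl⟩
    exact key _ _ hn u
  refine ⟨n, homOfSection v, ?_, ?_⟩
  · change x ∈ gloc v
    rw [hv, hu]
    exact h2 x fun y hy => hZs hy
  · change IsAffineOpen (gloc v)
    have h3 : gloc v ≤ O := by
      intro y hy
      obtain ⟨y', rfl⟩ := g.surjective y
      exact hsO (h1 (show g y' ∈ gloc t from by rwa [← hu, ← hv]))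
    rw [← inf_eq_left.2 h3]
    exact isAffineOpen_gloc_inf (isInvertible_tensorPow hM _) (homOfSection v) hO

end Groth.Chow
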