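import Groth.Agent.Chow.NormStalk
import Groth.Agent.Chow.NormSec

/-!
# Descent of ampleness to a reduced noetherian scheme, normal or locally free case
-/

universe u

open CategoryTheory AlgebraicGeometry Opposite TopologicalSpace

set_option backward.isDefEq.respectTransparency.types false

namespace Groth.Chow

open Groth.PicAux Groth.PropsBasic.Ample

variable {X' X : Scheme.{u}} (g : X' ⟶ X)

/-- The rank of `g` at a point. -/
noncomputable def rk (η : X) : ℕ := Module.finrank (X.presheaf.stalk η) (PStalk g η)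

variable [IsFinite g] [Surjective g]

theorem isField_stalk_gen [IsReduced X] {η : X} (hη : IsGen η) : IsField (X.presheaf.stalk η) :=
  Groth.VarietyBC.AffineNhd.isField_stalk hη

theorem rk_pos [IsReduced X] {η : X} (hη : IsGen η) : 0 < rk g η := by
  letI := (isField_stalk_gen hη).toField
  haveI := nontrivial_pstalk g η
  exact Module.finrank_pos

theorem norm_pstalk_algebraMap [IsReduced X] {η : X} (hη : IsGen η) (a : X.presheaf.stalk η) :
    Algebra.norm (X.presheaf.stalk η) (algebraMap _ (PStalk g η) a) = a ^ rk g η := by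
  letI := (isField_stalk_gen hη).toField
  exact Algebra.norm_algebraMap a

/-- A point where `g_*O` is free. -/
theorem exists_germ_norm_free [IsReduced X] {W : X.Opens} {n : ℕ} {b : Fin n → Γ(X', g ⁻¹ᵁ W)}
    (hb : SecBasis g W b) {z : X} (hz : z ∈ W) :
    0 < n ∧ (∀ η, IsGen η → η ⤳ z → rk g η = n) ∧ ∀ c : PStalk g z,
      ∃ a : X.presheaf.stalk z, (∀ η, IsGen η → ∀ h : η ⤳ z,
          X.presheaf.stalkSpecializes h a = Algebra.norm (X.presheaf.stalk η) (pspec g h c)) ∧
        (IsUnit a ↔ IsUnit c) := by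
  classical
  have hgerm : ∀ (w : X) (hw : w ∈ W), Function.Bijective fun r : Fin n → X.presheaf.stalk w =>
      ∑ i, r i • pgerm g W w hw (b i) := by
    intro w hw
    constructor
    · intro r r' h
      have hr : ∀ r : Fin n → X.presheaf.stalk w, (∑ i, r i • pgerm g W w hw (b i)) = 0 → r = 0 := by
        intro r h
        choose U hU s hs using fun i => TopCat.Presheaf.exists_germ_eq X.presheaf (x := w) (r i)
        let O : X.Opens := W ⊓ Finset.univ.inf U
        have hwO : w ∈ O := ⟨hw, by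
          induction (Finset.univ : Finset (Fin n)) using Finset.induction_on with
          | empty => simp
          | insert a t ha ih => rw [Finset.inf_insert]; exact ⟨hU a, ih⟩⟩
        have hO : ∀ i, O ≤ U i := fun i => inf_le_right.trans (Finset.inf_le (Finset.mem_univ i))
        have e : pgerm g O w hwO (∑ i, g.app O (resX X (hO i) (s i)) *
            resX X' (g.preimage_mono inf_le_left) (b i)) = pgerm g O w hwO 0 := by
          rw [map_zero, map_sum, ← h]
          refine Finset.sum_congr rfl fun i _ => ?_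
          rw [map_mul, pgerm_app, germ_resX, pgerm_res g inf_le_left, Algebra.smul_def, hs]
        obtain ⟨O', i₁, i₂, hwO', e'⟩ := pgerm_eq_iff g _ _ _ _ e
        rw [map_sum, map_zero] at e'
        have h0 : (fun i => resX X (i₁.trans (hO i)) (s i)) = fun _ => 0 := by
          refine (hb O' (i₁.trans inf_le_left)).1 ?_
          simp only [map_zero, zero_mul, Finset.sum_const_zero]
          refine Eq.trans (Finset.sum_congr rfl fun i _ => ?_) e'
          rw [map_mul, ← app_resX g i₁, resX_resX, resX_resX]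
        funext i
        rw [← hs i, ← germ_resX (i₁.trans (hO i)) hwO', congrFun h0 i, map_zero]
        rfl
      rw [← sub_eq_zero]
      refine hr _ ?_
      simp only [Pi.sub_apply, sub_smul, Finset.sum_sub_distrib]
      exact sub_eq_zero.2 h
    · intro x
      obtain ⟨U, hwU, c, rfl⟩ := exists_pgerm g w x
      obtain ⟨r, hr⟩ := (hb (W ⊓ U) inf_le_left).2 (resX X' (g.preimage_mono inf_le_right) c)
      refine ⟨fun i => X.presheaf.germ (W ⊓ U) w ⟨hw, hwU⟩ (r i), ?_⟩
      simp only at hr ⊢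
      rw [← pgerm_res g inf_le_right (show w ∈ W ⊓ U from ⟨hw, hwU⟩), ← hr, map_sum]
      refine Finset.sum_congr rfl fun i _ => ?_
      rw [map_mul, pgerm_app, pgerm_res g inf_le_left, Algebra.smul_def]
  have hbas : ∀ (w : X) (hw : w ∈ W), ∃ β : Module.Basis (Fin n) (X.presheaf.stalk w) (PStalk g w),
      ∀ i, β i = pgerm g W w hw (b i) := by
    intro w hw
    have h : Function.Bijective
        (Fintype.linearCombination (X.presheaf.stalk w) fun i => pgerm g W w hw (b i)) := by
      convert hgerm w hw using 1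
      funext r
      simp [Fintype.linearCombination_apply]
    refine ⟨Module.Basis.ofEquivFun (LinearEquiv.ofBijective _ h).symm, fun i => ?_⟩
    rw [Module.Basis.coe_ofEquivFun]
    simp [Fintype.linearCombination_apply]
  obtain ⟨β, hβ⟩ := hbas z hz
  obtain ⟨y, hy⟩ := g.surjective z
  refine ⟨secBasis_rank_pos hb (y := y) (hy ▸ hz), fun η hη h => ?_, fun c => ?_⟩
  · obtain ⟨γ, -⟩ := hbas η (h.mem_open W.isOpen hz)
    letI := (isField_stalk_gen hη).toField
    exact (Module.finrank_eq_card_basis γ).trans (Fintype.card_fin n)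
  refine ⟨Algebra.norm (X.presheaf.stalk z) c, fun η hη h => ?_, ?_⟩
  · obtain ⟨γ, hγ⟩ := hbas η (h.mem_open W.isOpen hz)
    rw [Algebra.norm_eq_matrix_det β, Algebra.norm_eq_matrix_det γ]
    refine ((X.presheaf.stalkSpecializes h).hom.map_det _).trans ?_
    congr 1
    refine Matrix.ext fun i j => ?_
    rw [Algebra.leftMulMatrix_eq_repr_mul]
    change X.presheaf.stalkSpecializes h (Algebra.leftMulMatrix β c i j) = _
    rw [Algebra.leftMulMatrix_eq_repr_mul]
    have hγ' : ∀ k, γ k = pspec g h (β k) := fun k => by rw [hγ, hβ, pspec_pgerm]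
    have e : pspec g h c * γ j = ∑ k, X.presheaf.stalkSpecializes h (β.repr (c * β j) k) • γ k := by
      rw [hγ', ← map_mul, ← β.sum_repr (c * β j), map_sum, β.sum_repr]
      refine Finset.sum_congr rfl fun k _ => ?_
      rw [Algebra.smul_def, Algebra.smul_def, map_mul, pspec_algebraMap, hγ']
    rw [e, Module.Basis.repr_sum_self]
  · refine ⟨fun ha => ?_, fun hc => hc.map _⟩
    haveI := Module.Free.of_basis β
    haveI := Module.Finite.of_basis β
    have h1 : IsUnit (LinearMap.det (Algebra.lmul (X.presheaf.stalk z) (PStalk g z) c)) := by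
      rwa [← Algebra.norm_apply]
    obtain ⟨v, hv⟩ := (LinearMap.isUnit_iff_isUnit_det _).2 h1
    have h3 := congr($(v.mul_inv) 1)
    rw [hv] at h3
    exact IsUnit.of_mul_eq_one ((↑v⁻¹ : Module.End (X.presheaf.stalk z) (PStalk g z)) 1) h3

/-- A normal point. -/
theorem exists_germ_norm_normal [IsNoetherian X] [IsReduced X] {z : X}
    (hd : IsDomain (X.presheaf.stalk z)) (hic : IsIntegrallyClosed (X.presheaf.stalk z)) :
    ∃ (η₀ : X) (h₀ : η₀ ⤳ z), IsGen η₀ ∧ (∀ η, IsGen η → η ⤳ z → η = η₀) ∧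
      ∀ (J : Ideal (X.presheaf.stalk z)) (c : PStalk g z), c ∈ J.map (algebraMap _ (PStalk g z)) →
        ∃ a : X.presheaf.stalk z,
          X.presheaf.stalkSpecializes h₀ a = Algebra.norm (X.presheaf.stalk η₀) (pspec g h₀ c) ∧
          (J.IsPrime → a ∈ J) := by
  classical
  obtain ⟨η₀, hη₀, h₀⟩ := exists_isGen_specializes z
  have huniq : ∀ η, IsGen η → η ⤳ z → η = η₀ := by
    have key : ∀ η, IsGen η → η ⤳ z → η = X.fromSpecStalk z ⟨⊥, Ideal.isPrime_bot⟩ := by
      intro η hη h
      obtain ⟨p, rfl⟩ : η ∈ Set.range (X.fromSpecStalk z) := by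
        rw [Scheme.range_fromSpecStalk]; exact h
      refine (hη _ ?_).symm
      exact ((PrimeSpectrum.le_iff_specializes ⟨⊥, Ideal.isPrime_bot⟩ p).1 bot_le).map
        (X.fromSpecStalk z).continuous
    intro η hη h
    rw [key η hη h, key η₀ hη₀ h₀]
  refine ⟨η₀, h₀, hη₀, huniq, fun J c hc => ?_⟩
  letI := (isField_stalk_gen hη₀).toField
  letI : Algebra (X.presheaf.stalk z) (X.presheaf.stalk η₀) := (X.presheaf.stalkSpecializes h₀).hom.toAlgebra
  letI : Module (X.presheaf.stalk z) (PStalk g η₀) :=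
    Module.compHom (PStalk g η₀) (X.presheaf.stalkSpecializes h₀).hom
  haveI : IsScalarTower (X.presheaf.stalk z) (X.presheaf.stalk η₀) (PStalk g η₀) :=
    ⟨fun a k m => mul_smul (algebraMap (X.presheaf.stalk z) (X.presheaf.stalk η₀) a) k m⟩
  have hinj : Function.Injective (algebraMap (X.presheaf.stalk z) (X.presheaf.stalk η₀)) := by
    intro a a' h
    refine stalk_ext_gen fun η hη hz => ?_
    obtain rfl := huniq η hη hz
    exact h
  obtain ⟨V, hV, hzV, -⟩ := exists_isAffineOpen_mem_and_subset (x := z) (U := (⊤ : X.Opens)) trivial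
  have hηV : η₀ ∈ V := h₀.mem_open V.isOpen hzV
  haveI : FaithfulSMul (X.presheaf.stalk z) (X.presheaf.stalk η₀) :=
    (faithfulSMul_iff_algebraMap_injective _ _).2 hinj
  haveI : IsFractionRing (X.presheaf.stalk z) (X.presheaf.stalk η₀) := by
    refine IsFractionRing.of_field _ _ fun x => ?_
    obtain ⟨U, hηU, r, rfl⟩ := TopCat.Presheaf.exists_germ_eq X.presheaf (x := η₀) x
    obtain ⟨a, haU, hηa⟩ := hV.exists_basicOpen_le (V := U) ⟨η₀, hηU⟩ hηV
    haveI := hV.isLocalization_basicOpen a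
    obtain ⟨m, s, hs⟩ := IsLocalization.Away.surj a (resX X haU r)
    have h1 := congrArg (X.presheaf.germ (X.basicOpen a) η₀ hηa) hs
    rw [map_mul, map_pow] at h1
    change X.presheaf.germ _ η₀ hηa (resX X haU r) * X.presheaf.germ _ η₀ hηa (resX X (X.basicOpen_le a) a) ^ m =
      X.presheaf.germ _ η₀ hηa (resX X (X.basicOpen_le a) s) at h1
    rw [germ_resX haU, germ_resX (X.basicOpen_le a), germ_resX (X.basicOpen_le a)] at h1
    refine ⟨X.presheaf.germ V z hzV s, (X.presheaf.germ V z hzV a) ^ m, ?_⟩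
    change _ = X.presheaf.stalkSpecializes h₀ (X.presheaf.germ V z hzV s) /
      X.presheaf.stalkSpecializes h₀ ((X.presheaf.germ V z hzV a) ^ m)
    rw [map_pow, stalkSpec_germ, stalkSpec_germ]
    exact (eq_div_iff (pow_ne_zero m ((X.mem_basicOpen _ _ hηV).1 hηa).ne_zero)).2 h1
  obtain ⟨k, v, hv⟩ := exists_span_pgerm g hV
  haveI := nontrivial_pstalk g η₀
  haveI : IsDomain (X.presheaf.stalk z) := hd
  let σ : PStalk g z →ₗ[X.presheaf.stalk z] PStalk g η₀ :=
    { toFun := pspec g h₀
      map_add' := map_add _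
      map_smul' := fun a m => by
        rw [Algebra.smul_def, map_mul, pspec_algebraMap, ← Algebra.smul_def]
        rfl }
  have hσv : ∀ i, σ (pgerm g V z hzV (v i)) = pgerm g V η₀ hηV (v i) := fun i => pspec_pgerm g h₀ hzV _
  obtain ⟨a, ha, hJ⟩ := exists_det_eq_algebraMap (A := X.presheaf.stalk z) (K := X.presheaf.stalk η₀)
    (fun i => pgerm g V η₀ hηV (v i)) (hv η₀ hηV) J
    (Algebra.lmul (X.presheaf.stalk η₀) (PStalk g η₀) (pspec g h₀ c)) (fun i => by
      have h1 : c * pgerm g V z hzV (v i) ∈ J • (⊤ : Submodule (X.presheaf.stalk z) (PStalk g z)) := by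
        rw [Ideal.smul_top_eq_map]
        exact (J.map _).mul_mem_right _ hc
      rw [← hv z hzV] at h1
      have h2 := Submodule.mem_map_of_mem (f := σ) h1
      rw [Submodule.map_smul'', Submodule.map_span, ← Set.range_comp] at h2
      have e : σ (c * pgerm g V z hzV (v i)) = pspec g h₀ c * pgerm g V η₀ hηV (v i) :=
        (map_mul (pspec g h₀) _ _).trans (congrArg (_ * ·) (hσv i))
      rw [e, show (σ ∘ fun i => pgerm g V z hzV (v i)) = fun i => pgerm g V η₀ hηV (v i) from
        funext hσv] at h2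
      exact h2)
  exact ⟨a, ha.trans (Algebra.norm_apply _ _).symm, hJ⟩

/-- At a point which is normal or free: the germ of the generic norm power. -/
theorem exists_germ_norm [IsNoetherian X] [IsReduced X] {z : X}
    (hz : (IsDomain (X.presheaf.stalk z) ∧ IsIntegrallyClosed (X.presheaf.stalk z)) ∨
      ∃ (W : X.Opens) (n : ℕ) (b : Fin n → Γ(X', g ⁻¹ᵁ W)), z ∈ W ∧ SecBasis g W b)
    {D : ℕ} (hD : 0 < D) (hrk : ∀ η : X, IsGen η → rk g η ∣ D) {V : X.Opens} (hzV : z ∈ V)
    (c : Γ(X', g ⁻¹ᵁ V)) :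
    ∃ a : X.presheaf.stalk z,
      (∀ η, IsGen η → ∀ h : η ⤳ z, X.presheaf.stalkSpecializes h a =
        Algebra.norm (X.presheaf.stalk η) (pspec g h (pgerm g V z hzV c)) ^ (D / rk g η)) ∧
      ((∀ y, g y = z → y ∈ X'.basicOpen c) → IsUnit a) ∧
      ((∀ y, g y = z → y ∉ X'.basicOpen c) → ¬ IsUnit a) := by
  have hunit : (∀ y, g y = z → y ∈ X'.basicOpen c) → IsUnit (pgerm g V z hzV c) :=
    (isUnit_pgerm_iff g g.isClosedMap hzV c).2
  have hrad : (∀ y, g y = z → y ∉ X'.basicOpen c) →
      pgerm g V z hzV c ∈ ((IsLocalRing.maximalIdeal (X.presheaf.stalk z)).map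
        (algebraMap _ (PStalk g z))).radical := by
    intro h
    rw [Ideal.radical_eq_sInf]
    refine Submodule.mem_sInf.2 fun (P : Ideal (PStalk g z)) hP => ?_
    haveI := hP.2
    have hle := Ideal.map_le_iff_le_comap.1 hP.1
    have hmax : P.IsMaximal := by
      refine Ideal.isMaximal_of_isIntegral_of_isMaximal_comap (R := X.presheaf.stalk z) P ?_
      rw [← (IsLocalRing.maximalIdeal.isMaximal _).eq_of_le (Ideal.IsPrime.ne_top inferInstance) hle]
      exact IsLocalRing.maximalIdeal.isMaximal _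
    by_contra hcP
    obtain ⟨d, hd⟩ := hmax.exists_inv hcP
    obtain ⟨i, hi, hdi⟩ := hd
    obtain ⟨U, hzU, d', rfl⟩ := exists_pgerm g z d
    -- `i = 1 - c d` is invertible as `c` vanishes on the whole fibre
    have hi1 : IsUnit i := by
      have e : i = pgerm g (V ⊓ U) z ⟨hzV, hzU⟩
          (1 - resX X' (g.preimage_mono inf_le_right) d' * resX X' (g.preimage_mono inf_le_left) c) := by
        rw [map_sub, map_one, map_mul, pgerm_res g inf_le_left, pgerm_res g inf_le_right, ← hdi]
        exact (add_sub_cancel_left _ _).symm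
      rw [e, isUnit_pgerm_iff g g.isClosedMap]
      intro y hy
      have hyV : y ∈ g ⁻¹ᵁ (V ⊓ U) := show g y ∈ V ⊓ U from hy ▸ ⟨hzV, hzU⟩
      rw [X'.mem_basicOpen _ _ hyV, map_sub, map_one, map_mul]
      by_contra hu
      have h2 : ¬ IsUnit (X'.presheaf.germ (g ⁻¹ᵁ (V ⊓ U)) y hyV
          (resX X' (g.preimage_mono inf_le_left) c)) := by
        rw [germ_resX (g.preimage_mono inf_le_left) hyV]
        exact fun hu' => h y hy ((X'.mem_basicOpen _ _ (g.preimage_mono inf_le_left hyV)).2 hu')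
      refine h2 ?_
      refine isUnit_of_mul_isUnit_right (x := X'.presheaf.germ (g ⁻¹ᵁ (V ⊓ U)) y hyV
        (resX X' (g.preimage_mono inf_le_right) d')) ?_
      rcases IsLocalRing.isUnit_or_isUnit_of_add_one (a := 1 - X'.presheaf.germ (g ⁻¹ᵁ (V ⊓ U)) y hyV
          (resX X' (g.preimage_mono inf_le_right) d') * X'.presheaf.germ (g ⁻¹ᵁ (V ⊓ U)) y hyV
            (resX X' (g.preimage_mono inf_le_left) c)) (sub_add_cancel _ _) with h3 | h3
      · exact (hu h3).elim
      · exact h3
    exact hP.2.ne_top (P.eq_top_of_isUnit_mem hi hi1)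
  have hk : ∀ η, IsGen η → 0 < D / rk g η := fun η hη =>
    Nat.div_pos (Nat.le_of_dvd hD (hrk η hη)) (rk_pos g hη)
  rcases hz with ⟨hd, hic⟩ | ⟨W, n, b, hzW, hb⟩
  · obtain ⟨η₀, h₀, hη₀, huniq, hN⟩ := exists_germ_norm_normal g hd hic
    obtain ⟨a, ha, -⟩ := hN ⊤ (pgerm g V z hzV c) (by rw [Ideal.map_top]; trivial)
    have hinj : Function.Injective (X.presheaf.stalkSpecializes h₀) := fun b b' e =>
      stalk_ext_gen fun η hη h => by obtain rfl := huniq η hη h; exact e
    refine ⟨a ^ (D / rk g η₀), fun η hη h => ?_, fun h => ?_, fun h => ?_⟩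
    · obtain rfl := huniq η hη h
      rw [map_pow, ha]
    · obtain ⟨d, hd'⟩ := (hunit h).exists_right_inv
      obtain ⟨a', ha', -⟩ := hN ⊤ d (by rw [Ideal.map_top]; trivial)
      refine (IsUnit.of_mul_eq_one a' (hinj ?_)).pow _
      rw [map_mul, ha, ha', ← map_mul, ← map_mul, hd', map_one, map_one, map_one]
    · obtain ⟨m, hm⟩ := hrad h
      obtain ⟨a', ha', haJ⟩ := hN _ _ hm
      have e : a' = a ^ m := hinj (by rw [ha', map_pow (pspec g h₀), map_pow, map_pow, ha])
      have hu := haJ (IsLocalRing.maximalIdeal.isMaximal _).isPrime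
      rw [e] at hu
      exact fun hcon => (IsLocalRing.mem_maximalIdeal _).1 hu
        (((isUnit_pow_iff (hk η₀ hη₀).ne').1 hcon).pow m)
  · obtain ⟨hn, hn', hN⟩ := exists_germ_norm_free g hb hzW
    obtain ⟨a, ha, hau⟩ := hN (pgerm g V z hzV c)
    obtain ⟨η₁, hη₁, h₁⟩ := exists_isGen_specializes z
    refine ⟨a ^ (D / n), fun η hη h => ?_, fun h => (hau.2 (hunit h)).pow _, fun h hcon => ?_⟩
    · rw [map_pow, ha η hη h, hn' η hη h]
    · have hk' : D / n ≠ 0 := by rw [← hn' η₁ hη₁ h₁]; exact (hk η₁ hη₁).ne'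
      obtain ⟨y, hy⟩ := g.surjective z
      exact h y hy ((isUnit_pgerm_iff g g.isClosedMap hzV c).1
        (hau.1 ((isUnit_pow_iff hk').1 hcon)) y hy)

/-- The norm of a section of an inverse image, over a reduced noetherian base. -/
theorem exists_gen_norm_sec [IsNoetherian X] [IsReduced X] {M : X.Modules} (hM : PicF.IsInvertible M)
    (hX : ∀ z : X, (IsDomain (X.presheaf.stalk z) ∧ IsIntegrallyClosed (X.presheaf.stalk z)) ∨
      ∃ (W : X.Opens) (n : ℕ) (b : Fin n → Γ(X', g ⁻¹ᵁ W)), z ∈ W ∧ SecBasis g W b)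
    (s : Γ((Scheme.Modules.pullback g).obj M, ⊤)) :
    ∃ (D : ℕ) (t : Γ(CohB1.tensorPow M D, ⊤)), 0 < D ∧
      (∀ x, (∀ y, g y = x → y ∈ gloc s) → x ∈ gloc t) ∧
      (∀ x, (∀ y, g y = x → y ∉ gloc s) → x ∉ gloc t) := by
  classical
  let G := (finite_isGen (X := X)).toFinset
  let D := ∏ η ∈ G, rk g η
  have hD : 0 < D := Finset.prod_pos fun η hη => rk_pos g ((finite_isGen (X := X)).mem_toFinset.1 hη)
  have hrk : ∀ η : X, IsGen η → rk g η ∣ D := fun η hη =>
    Finset.dvd_prod_of_mem _ ((finite_isGen (X := X)).mem_toFinset.2 hη)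
  have key : ∀ x : X, ∃ (W : X.Opens) (e : Γ(M, W)) (c : Γ(X', g ⁻¹ᵁ W)) (r : Γ(X, W)),
      x ∈ W ∧ Gen M W e ∧ res _ le_top s = c • pullSec g M e ∧
      (∀ η, IsGen η → ∀ hη : η ∈ W, X.presheaf.germ W η hη r =
        Algebra.norm (X.presheaf.stalk η) (pgerm g W η hη c) ^ (D / rk g η)) := by
    intro x
    obtain ⟨V, e, -, hxV, he⟩ := exists_affine_gen_mem hM x
    obtain ⟨c, hc⟩ := (he.pull g).exists_coeff le_rfl (res _ le_top s)
    rw [res_self] at hc
    obtain ⟨a, ha, -, -⟩ := exists_germ_norm g (hX x) hD hrk hxV c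
    obtain ⟨U, hxU, r, rfl⟩ := TopCat.Presheaf.exists_germ_eq X.presheaf (x := x) a
    obtain ⟨O, hxO, hO⟩ := exists_nhd_isGen x
    let W := V ⊓ U ⊓ O
    have hWV : W ≤ V := inf_le_left.trans inf_le_left
    have hWU : W ≤ U := inf_le_left.trans inf_le_right
    refine ⟨W, res M hWV e, resX X' (g.preimage_mono hWV) c, resX X hWU r,
      ⟨⟨hxV, hxU⟩, hxO⟩, he.res hWV, ?_, fun η hη hηW => ?_⟩
    · have h2 := congrArg (res _ (g.preimage_mono hWV)) hc
      rw [res_res, res_smul, res_pullSec g M hWV] at h2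
      exact h2
    · have h1 := ha η hη (hO η hηW.2 hη)
      rw [stalkSpec_germ, pspec_pgerm] at h1
      rw [germ_resX hWU, pgerm_res g hWV]
      exact h1
  choose W e c r hxW he hc hr using key
  have hcov : (⊤ : X.Opens) ≤ iSup W := fun x _ => Opens.mem_iSup.2 ⟨x, hxW x⟩
  obtain ⟨t, ht, -⟩ := res_glue (M := CohB1.tensorPow M D) (U := ⊤) W (fun _ => le_top) hcov
    (fun i => r i • powSec (e i) D) (fun i j => by
      let V := W i ⊓ W j
      have hVi : V ≤ W i := inf_le_left
      have hVj : V ≤ W j := inf_le_right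
      obtain ⟨a, ha⟩ := (he i).exists_coeff hVi (res M hVj (e j))
      have hci := congrArg (res _ (g.preimage_mono hVi)) (hc i)
      have hcj := congrArg (res _ (g.preimage_mono hVj)) (hc j)
      rw [res_res, res_smul, res_pullSec g M hVi] at hci
      rw [res_res, res_smul, res_pullSec g M hVj] at hcj
      rw [ha, pullSec_smul, ← mul_smul] at hcj
      have h1 : resX X' (g.preimage_mono hVi) (c i) =
          resX X' (g.preimage_mono hVj) (c j) * g.app V a := by
        refine (((he i).res hVi).pull g).smul_inj le_rfl ?_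
        rw [res_self]
        exact hci.symm.trans hcj
      rw [res_smul, res_smul, res_powSec, res_powSec, ha, powSec_smul, ← mul_smul]
      congr 1
      refine section_ext_gen fun η hη hηV => ?_
      rw [map_mul, map_pow, germ_resX hVi hηV, germ_resX hVj hηV, hr i η hη, hr j η hη]
      have h2 := congrArg (pgerm g V η hηV) h1
      rw [map_mul, pgerm_res g hVi, pgerm_res g hVj, pgerm_app] at h2
      rw [h2, map_mul, norm_pstalk_algebraMap g hη, mul_pow, ← pow_mul,
        Nat.mul_div_cancel' (hrk η hη)])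
  have hpt : ∀ (i z : X) (hz : z ∈ W i),
      (z ∈ gloc t ↔ IsUnit (X.presheaf.germ (W i) z hz (r i))) ∧
      ((∀ y, g y = z → y ∈ gloc s) → IsUnit (X.presheaf.germ (W i) z hz (r i))) ∧
      ((∀ y, g y = z → y ∉ gloc s) → ¬ IsUnit (X.presheaf.germ (W i) z hz (r i))) := by
    intro i z hz
    have ht' : gloc t ⊓ W i = X.basicOpen (r i) := gloc_inf_eq_basicOpen ((he i).pow D) (ht i)
    have hs' : gloc s ⊓ g ⁻¹ᵁ W i = X'.basicOpen (c i) := gloc_inf_eq_basicOpen ((he i).pull g) (hc i)
    obtain ⟨a, ha, hau, han⟩ := exists_germ_norm g (hX z) hD hrk hz (c i)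
    have e : X.presheaf.germ (W i) z hz (r i) = a := stalk_ext_gen fun η hη h => by
      rw [ha η hη h, stalkSpec_germ, pspec_pgerm, hr i η hη]
    rw [e]
    refine ⟨?_, fun h => hau fun y hy => ?_, fun h => han fun y hy hy' => ?_⟩
    · rw [← e, ← X.mem_basicOpen _ _ hz, ← ht']
      exact ⟨fun h => ⟨h, hz⟩, fun h => h.1⟩
    · rw [← hs']
      exact ⟨h y hy, show g y ∈ W i from hy ▸ hz⟩
    · rw [← hs'] at hy'
      exact h y hy hy'.1
  refine ⟨D, t, hD, fun x h => ?_, fun x h h' => ?_⟩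
  · exact (hpt x x (hxW x)).1.2 ((hpt x x (hxW x)).2.1 h)
  · exact (hpt x x (hxW x)).2.2 h ((hpt x x (hxW x)).1.1 h')

/-- Ampleness descends along finite surjective morphisms to reduced noetherian schemes which are
normal or over which the morphism is locally free. -/
theorem isAmple_of_pullback_normal [IsNoetherian X] [IsReduced X] {M : X.Modules}
    (hM : PicF.IsInvertible M)
    (hX : ∀ z : X, (IsDomain (X.presheaf.stalk z) ∧ IsIntegrallyClosed (X.presheaf.stalk z)) ∨
      ∃ (W : X.Opens) (n : ℕ) (b : Fin n → Γ(X', g ⁻¹ᵁ W)), z ∈ W ∧ SecBasis g W b)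
    (hA : CohB1.IsAmple ((Scheme.Modules.pullback g).obj M)) : CohB1.IsAmple M := by
  refine ⟨hM, inferInstance, fun x => ?_⟩
  obtain ⟨O, hO, hxO, -⟩ := exists_isAffineOpen_mem_and_subset (x := x) (U := (⊤ : X.Opens)) trivial
  obtain ⟨N, s, hZs, hsO, -⟩ := exists_affine_gloc_finite hA (g ⁻¹' {x})
    (g.finite_preimage_singleton x) (g ⁻¹ᵁ O) (fun y hy => show g y ∈ O from hy ▸ hxO)
  obtain ⟨φ⟩ := pullback_tensorPow g M (N + 1)
  obtain ⟨D, t, hD, h1, h2⟩ := exists_gen_norm_sec g (isInvertible_tensorPow hM (N + 1)) hX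
    (φ.inv.app ⊤ s)
  rw [gloc_map φ.inv] at h1 h2
  obtain ⟨u, hu⟩ := exists_gloc_transport (N + 1) D t
  obtain ⟨n, hn⟩ := Nat.exists_eq_succ_of_ne_zero (Nat.mul_pos (Nat.succ_pos N) hD).ne'
  obtain ⟨v, hv⟩ : ∃ v : Γ(CohB1.tensorPow M (n + 1), ⊤), gloc v = gloc u := by
    have key : ∀ A B : ℕ, A = B → ∀ w : Γ(CohB1.tensorPow M A, ⊤),
        ∃ w' : Γ(CohB1.tensorPow M B, ⊤), gloc w' = gloc w := by
      rintro A _ rfl w
      exact ⟨w, rfl⟩
    exact key _ _ hn u
  refine ⟨n, homOfSection v, ?_, ?_⟩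
  · change x ∈ gloc v
    rw [hv, hu]
    exact h1 x fun y hy => hZs hy
  · change IsAffineOpen (gloc v)
    have h3 : gloc v ≤ O := fun z hz => by
      by_contra hzO
      refine h2 z (fun y hy hys => hzO (hy ▸ hsO hys)) ?_
      rwa [← hu, ← hv]
    rw [← inf_eq_left.2 h3]
    exact isAffineOpen_gloc_inf (isInvertible_tensorPow hM _) (homOfSection v) hO

end Groth.Chow
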