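import Groth.Agent.Chow.ProdProj
import Groth.Agent.GrpschAbsch.SchDense
import Mathlib

/-! The construction in Chow's lemma. -/

set_option linter.style.haveILetI false
universe u

open CategoryTheory CategoryTheory.Limits AlgebraicGeometry

namespace Groth.Chow

/-- The morphism to the scheme-theoretic image is scheme-theoretically dominant. -/
theorem isSchemeTheoreticallyDominant_toImage {X Y : Scheme.{u}} (f : Y ⟶ X) [QuasiCompact f] :
    IsSchemeTheoreticallyDominant f.toImage := by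
  refine ⟨Scheme.IdealSheafData.ext_of_iSup_eq_top
    (fun V : X.affineOpens ↦ (⟨f.imageι ⁻¹ᵁ V.1, V.2.preimage f.imageι⟩ : f.image.affineOpens)) ?_ fun V ↦ ?_⟩
  · show ⨆ V : X.affineOpens, f.imageι ⁻¹ᵁ V.1 = ⊤
    rw [← Scheme.Hom.preimage_iSup, iSup_affineOpens_eq_top, Scheme.Hom.preimage_top]
  · rw [Scheme.Hom.ker_apply, Scheme.IdealSheafData.ideal_bot, Pi.bot_apply]
    exact (RingHom.injective_iff_ker_eq_bot _).mp (f.toImage_app_injective V)

/-- Restricting a scheme-theoretically dominant morphism to an open containing its range. -/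
theorem exists_std_lift {U X : Scheme.{u}} (τ : U ⟶ X) [IsSchemeTheoreticallyDominant τ] [QuasiCompact τ]
    (W : X.Opens) (h : Set.range τ ⊆ W) :
    ∃ τ' : U ⟶ W.toScheme, τ' ≫ W.ι = τ ∧ IsSchemeTheoreticallyDominant τ' := by
  let τ' := IsOpenImmersion.lift W.ι τ (by rwa [Scheme.Opens.range_ι])
  have h' : τ' ≫ W.ι = τ := IsOpenImmersion.lift_fac _ _ _
  refine ⟨τ', h', ?_⟩
  have H : IsPullback (𝟙 U) τ' τ W.ι := by
    refine ⟨⟨by rw [Category.id_comp, h']⟩, ⟨PullbackCone.IsLimit.mk _ (fun s => s.fst)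
      (fun s => Category.comp_id _) (fun s => ?_) (fun s k hk _ => by rw [← hk, Category.comp_id])⟩⟩
    rw [← cancel_mono W.ι, Category.assoc, h', s.condition]
  exact IsSchemeTheoreticallyDominant.of_isPullback H

/-- A separated morphism with a scheme-theoretically dominant section is an isomorphism. -/
theorem isIso_of_std_section {X Y : Scheme.{u}} (π : X ⟶ Y) [IsSeparated π] (σ : Y ⟶ X)
    [IsSchemeTheoreticallyDominant σ] (h : σ ≫ π = 𝟙 Y) : IsIso π := by
  refine ⟨σ, Groth.GrpschAbsch.ext_of_isSchemeTheoreticallyDominant π ?_ σ ?_, h⟩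
  · rw [Category.assoc, h, Category.comp_id, Category.id_comp]
  · rw [reassoc_of% h, Category.comp_id]

/-- The piece of `Chow's` immersion over one chart is a closed immersion. -/
theorem isClosedImmersion_piece {Y V O R X' Q : Scheme.{u}} (e : V ⟶ O) [IsClosedImmersion e]
    (r : R ⟶ O) [IsSeparated r] (b : Y ⟶ V) [IsProper b] (g : Y ⟶ R) (h : b ≫ e = g ≫ r)
    (w : Y ⟶ X') [IsOpenImmersion w] (i : X' ⟶ Q) [IsClosedImmersion i]
    (m : pullback e r ⟶ Q) (hm : pullback.lift b g h ≫ m = w ≫ i) : IsClosedImmersion g := by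
  let l := pullback.lift b g h
  haveI : IsImmersion (l ≫ m) := by rw [hm]; infer_instance
  haveI : IsImmersion l := IsImmersion.of_comp l m
  haveI : IsSeparated (pullback.fst e r) := inferInstance
  haveI : IsProper (l ≫ pullback.fst e r) := by rw [pullback.lift_fst]; infer_instance
  haveI : IsProper l := IsProper.of_comp l (pullback.fst e r)
  haveI : IsClosedImmersion l :=
    (IsClosedImmersion.iff_isProper_and_mono l).mpr ⟨inferInstance, inferInstance⟩
  have : g = l ≫ pullback.snd e r := (pullback.lift_snd _ _ _).symm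
  rw [this]
  infer_instance

theorem chase {Y V X O Pm P W S : Scheme.{u}} {b : Y ⟶ V} {ι : V ⟶ X} {f : X ⟶ S} {e' : V ⟶ O}
    {oι : O ⟶ Pm} {e : V ⟶ Pm} {tb : Pm ⟶ S} {a : Y ⟶ O} {g : W ⟶ P} {yι : Y ⟶ W} {pr : P ⟶ Pm}
    {p : P ⟶ S} {π : W ⟶ X} (hb : b ≫ e' = a) (ha : a ≫ oι = yι ≫ g ≫ pr) (he : e' ≫ oι = e)
    (heb : e ≫ tb = ι ≫ f) (hpr : pr ≫ tb = p) (hπg : g ≫ p = π ≫ f) :
    (b ≫ ι) ≫ f = (yι ≫ π) ≫ f := by
  rw [Category.assoc, ← heb, ← he, Category.assoc, reassoc_of% hb, reassoc_of% ha, hpr, hπg,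
    Category.assoc]

theorem chow_core {X S : Scheme.{u}} (f : X ⟶ S) [IsSeparated f] [QuasiSeparatedSpace X]
    {k : ℕ} (V : Fin k → X.Opens) (hV : ⨆ i, V i = ⊤) (m : Fin k → ℕ)
    (e : ∀ i, (V i).toScheme ⟶ CohB1.ProjSpaceOver (m i) S) (he : ∀ i, IsImmersion (e i))
    (heb : ∀ i, e i ≫ CohB1.ProjSpaceOver.toBase (m i) S = (V i).ι ≫ f)
    (U : X.Opens) (hUc : IsCompact (U : Set X)) (hUV : ∀ i, U ≤ V i) :
    ∃ (N : ℕ) (X' : Scheme.{u}) (π : X' ⟶ X) (j : X' ⟶ CohB1.ProjSpaceOver N S),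
      IsImmersion j ∧ j ≫ CohB1.ProjSpaceOver.toBase N S = π ≫ f ∧ IsProper π ∧
      IsIso (π ∣_ U) ∧ Dense ((π ⁻¹ᵁ U : X'.Opens) : Set X') ∧
      (Dense (U : Set X) → Surjective π) ∧ (IsReduced X → IsReduced X') ∧
      (IrreducibleSpace X → (U : Set X).Nonempty → IrreducibleSpace X') := by
  classical
  obtain ⟨N, P, p, pr, c, hc, hcp, hpr, hlift⟩ := exists_prodProj S k m
  haveI := Groth.Variety2.isProper_projSpaceOver_toBase N S
  haveI : IsProper p := by rw [← hcp]; infer_instance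
  obtain ⟨h, hhp, hhi⟩ := hlift (U.ι ≫ f) (fun i => X.homOfLE (hUV i) ≫ e i) (fun i => by
    rw [Category.assoc, heb, X.homOfLE_ι_assoc])
  haveI : IsProper (pullback.fst f p) := inferInstance
  let γ : U.toScheme ⟶ pullback f p := pullback.lift U.ι h hhp.symm
  haveI : QuasiCompact U.ι := ⟨fun W hWo hWc => by
    rw [U.ι.isEmbedding.isCompact_iff, Set.image_preimage_eq_inter_range, Scheme.Opens.range_ι]
    exact QuasiSeparatedSpace.inter_isCompact W U hWo hWc U.isOpen hUc⟩
  haveI : QuasiCompact (γ ≫ pullback.fst f p) := by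
    have : γ ≫ pullback.fst f p = U.ι := pullback.lift_fst _ _ _
    rw [this]; infer_instance
  haveI : QuasiCompact γ := QuasiCompact.of_comp γ (pullback.fst f p)
  let π : γ.image ⟶ X := γ.imageι ≫ pullback.fst f p
  let g : γ.image ⟶ P := γ.imageι ≫ pullback.snd f p
  let τ : U.toScheme ⟶ γ.image := γ.toImage
  haveI hτ : IsSchemeTheoreticallyDominant τ := isSchemeTheoreticallyDominant_toImage γ
  have hτπ : τ ≫ π = U.ι :=
    (Scheme.Hom.toImage_imageι_assoc γ _).trans (pullback.lift_fst _ _ _)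
  have hτg : τ ≫ g = h := (Scheme.Hom.toImage_imageι_assoc γ _).trans (pullback.lift_snd _ _ _)
  have hπg : g ≫ p = π ≫ f := by simp [π, g, pullback.condition]
  haveI hπp : IsProper π := inferInstanceAs (IsProper (γ.imageι ≫ pullback.fst f p))
  have hτU : Set.range τ ⊆ (π ⁻¹ᵁ U : γ.image.Opens) := by
    rintro _ ⟨x, rfl⟩
    have : π (τ x) = U.ι x := by rw [← hτπ]; rfl
    show π (τ x) ∈ U
    rw [this]
    exact x.2
  have hiso : IsIso (π ∣_ U) := by
    obtain ⟨τ', h', hstd⟩ := exists_std_lift τ (π ⁻¹ᵁ U) hτU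
    refine isIso_of_std_section (π ∣_ U) τ' ?_
    rw [← cancel_mono U.ι, Category.assoc, morphismRestrict_ι, reassoc_of% h', hτπ, Category.id_comp]
  have hdense : Dense ((π ⁻¹ᵁ U : γ.image.Opens) : Set γ.image) := τ.denseRange.mono hτU
  -- the pieces
  let O : ∀ i, (CohB1.ProjSpaceOver (m i) S).Opens := fun i => (e i).coborderRange
  let e' : ∀ i, (V i).toScheme ⟶ (O i).toScheme := fun i => (e i).liftCoborder
  have he' : ∀ i, e' i ≫ (O i).ι = e i := fun i => (e i).liftCoborder_ι
  haveI hec : ∀ i, IsClosedImmersion (e' i) := fun i => by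
    haveI := he i; exact inferInstanceAs (IsClosedImmersion (e i).liftCoborder)
  haveI : ∀ i, IsSeparated (CohB1.ProjSpaceOver.toBase (m i) S) := fun i => by
    haveI := Groth.Variety2.isProper_projSpaceOver_toBase (m i) S
    infer_instance
  have hagree : ∀ i, (π ∣_ V i) ≫ e i = (π ⁻¹ᵁ V i).ι ≫ g ≫ pr i := by
    intro i
    obtain ⟨τ', h', hstd⟩ := exists_std_lift τ (π ⁻¹ᵁ V i)
      (hτU.trans (π.preimage_mono (hUV i)))
    refine Groth.GrpschAbsch.ext_of_isSchemeTheoreticallyDominant (CohB1.ProjSpaceOver.toBase (m i) S) ?_ τ' ?_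
    · simp only [Category.assoc, heb, morphismRestrict_ι_assoc, hpr, hπg]
    · rw [reassoc_of% h', reassoc_of% hτg, hhi]
      have : τ' ≫ (π ∣_ V i) = X.homOfLE (hUV i) := by
        rw [← cancel_mono (V i).ι, Category.assoc, morphismRestrict_ι, reassoc_of% h', hτπ,
          X.homOfLE_ι]
      rw [reassoc_of% this]
  let R : Fin k → P.Opens := fun i => pr i ⁻¹ᵁ O i
  have hsub : ∀ i, π ⁻¹ᵁ V i ≤ g ⁻¹ᵁ R i := by
    intro i x hx
    have h1 : pr i (g x) = e i ((π ∣_ V i) ⟨x, hx⟩) :=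
      (congrArg (fun t : (π ⁻¹ᵁ V i).toScheme ⟶ _ => t ⟨x, hx⟩) (hagree i)).symm
    show pr i (g x) ∈ O i
    rw [h1, ← he' i]
    exact ((e' i) _).2
  have hpiece : ∀ i, IsClosedImmersion (g ∣_ R i) := by
    intro i
    let Y : γ.image.Opens := g ⁻¹ᵁ R i
    obtain ⟨τ', h', hstd⟩ := exists_std_lift τ Y
      ((hτU.trans (π.preimage_mono (hUV i))).trans (hsub i))
    let a : Y.toScheme ⟶ (O i).toScheme := (g ∣_ R i) ≫ (pr i ∣_ O i)
    have ha : a ≫ (O i).ι = Y.ι ≫ g ≫ pr i := by
      simp only [a, Category.assoc, morphismRestrict_ι]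
      exact morphismRestrict_ι_assoc g (R i) (pr i)
    have ht : X.homOfLE (hUV i) ≫ e' i = τ' ≫ a := by
      rw [← cancel_mono (O i).ι, Category.assoc, Category.assoc, he', ha, reassoc_of% h',
        reassoc_of% hτg, hhi]
    -- lift through the closed immersion
    let q := pullback.snd (e' i) a
    let t' : U.toScheme ⟶ pullback (e' i) a := pullback.lift (X.homOfLE (hUV i)) τ' ht
    have hq : q.ker = ⊥ := by
      rw [← le_bot_iff, ← τ'.ker_eq_bot, ← (pullback.lift_snd _ _ ht : t' ≫ q = τ')]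
      exact t'.le_ker_comp q
    haveI : IsIso q := IsClosedImmersion.isIso_iff_ker_eq_bot.mpr hq
    let b : Y.toScheme ⟶ (V i).toScheme := inv q ≫ pullback.fst (e' i) a
    have hb : b ≫ e' i = a := by
      rw [Category.assoc, pullback.condition, IsIso.inv_hom_id_assoc]
    have hτb : τ' ≫ b = X.homOfLE (hUV i) := by
      rw [← cancel_mono (e' i), Category.assoc, hb, ← ht]
    have hbπ : b ≫ (V i).ι = Y.ι ≫ π := by
      refine Groth.GrpschAbsch.ext_of_isSchemeTheoreticallyDominant f ?_ τ' ?_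
      · exact chase hb ha (he' i) (heb i) (hpr i) hπg
      · rw [reassoc_of% hτb, X.homOfLE_ι, reassoc_of% h', hτπ]
    have hY : Y = π ⁻¹ᵁ V i := by
      refine le_antisymm (fun x hx => ?_) (hsub i)
      have : π x = (V i).ι (b ⟨x, hx⟩) :=
        (congrArg (fun t : Y.toScheme ⟶ _ => t ⟨x, hx⟩) hbπ).symm
      show π x ∈ V i
      rw [this]
      exact (b ⟨x, hx⟩).2
    have hb' : b = (γ.image.isoOfEq hY).hom ≫ (π ∣_ V i) := by
      rw [← cancel_mono (V i).ι, hbπ, Category.assoc, morphismRestrict_ι, Scheme.isoOfEq_hom_ι_assoc]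
    haveI : IsProper (π ∣_ V i) := IsZariskiLocalAtTarget.restrict hπp _
    haveI : IsProper b := by rw [hb']; infer_instance
    haveI : IsSeparated (pr i) := by
      haveI : IsSeparated (pr i ≫ CohB1.ProjSpaceOver.toBase (m i) S) := by rw [hpr]; infer_instance
      exact IsSeparated.of_comp (pr i) (CohB1.ProjSpaceOver.toBase (m i) S)
    haveI : IsSeparated (pr i ∣_ O i) := IsZariskiLocalAtTarget.restrict ‹_› _
    let mQ : pullback (e' i) (pr i ∣_ O i) ⟶ pullback f p :=
      pullback.lift (pullback.fst _ _ ≫ (V i).ι) (pullback.snd _ _ ≫ (R i).ι) (by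
        rw [Category.assoc, ← heb, ← he', Category.assoc, pullback.condition_assoc,
          morphismRestrict_ι_assoc, hpr, Category.assoc])
    refine isClosedImmersion_piece (e' i) (pr i ∣_ O i) b (g ∣_ R i) hb Y.ι γ.imageι mQ ?_
    apply pullback.hom_ext
    · simp only [mQ, Category.assoc, pullback.lift_fst, pullback.lift_fst_assoc]
      exact hbπ
    · simp only [mQ, Category.assoc, pullback.lift_snd, pullback.lift_snd_assoc]
      exact morphismRestrict_ι g (R i)
  haveI hg : IsImmersion g := by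
    let O' : P.Opens := ⨆ i, R i
    have hrange : ∀ x, g x ∈ O' := fun x => by
      obtain ⟨i, hi⟩ := TopologicalSpace.Opens.mem_iSup.mp (hV.ge (Set.mem_univ (π x)))
      exact TopologicalSpace.Opens.mem_iSup.mpr ⟨i, hsub i hi⟩
    have htop : g ⁻¹ᵁ O' = ⊤ := top_le_iff.mp fun x _ => hrange x
    haveI : IsClosedImmersion (g ∣_ O') := by
      refine IsZariskiLocalAtTarget.of_iSup_eq_top (fun i => O'.ι ⁻¹ᵁ R i) ?_ fun i => ?_
      · rw [← Scheme.Hom.preimage_iSup]
        exact top_le_iff.mp fun x _ => x.2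
      · refine (MorphismProperty.arrow_mk_iso_iff @IsClosedImmersion
          (morphismRestrictRestrict g O' _)).mpr ?_
        rw [Scheme.Hom.image_preimage_eq_opensRange_inf, Scheme.Opens.opensRange_ι,
          inf_eq_right.mpr (le_iSup R i)]
        exact hpiece i
    have hge : g = (γ.image.topIso.inv ≫ (γ.image.isoOfEq htop).inv) ≫ (g ∣_ O') ≫ O'.ι := by
      rw [morphismRestrict_ι, Category.assoc, Scheme.isoOfEq_inv_ι_assoc, ← Category.assoc]
      simp
    rw [hge]
    infer_instance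
  refine ⟨N, γ.image, π, g ≫ c, inferInstance, by rw [Category.assoc, hcp, hπg], hπp, hiso, hdense,
    fun hU => ⟨fun x => ?_⟩, fun hX => ?_, fun hX hne => ?_⟩
  · have : Set.range π = Set.univ := by
      rw [← (π.isClosedMap.isClosed_range).closure_eq, Set.eq_univ_iff_forall]
      refine fun y => closure_mono ?_ (hU y)
      intro z hz
      exact ⟨τ ⟨z, hz⟩, congrArg (fun t : U.toScheme ⟶ X => t ⟨z, hz⟩) hτπ⟩
    exact Set.eq_univ_iff_forall.mp this x
  · exact IsSchemeTheoreticallyDominant.isReduced τ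
  · haveI : Nonempty U.toScheme := ⟨⟨_, hne.choose_spec⟩⟩
    haveI : IrreducibleSpace U.toScheme := isIrreducible_iff_irreducibleSpace.mp
      ⟨hne, (IrreducibleSpace.isIrreducible_univ X).2.open_subset U.isOpen (Set.subset_univ _)⟩
    have h1 : IsIrreducible (Set.range τ) := by
      rw [← Set.image_univ]
      exact (IrreducibleSpace.isIrreducible_univ _).image _ τ.continuous.continuousOn
    have h2 := h1.closure
    rw [τ.denseRange.closure_eq] at h2
    exact (irreducibleSpace_def _).mpr h2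

end Groth.Chow
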