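import Groth.Agent.Chow.ProjEmb.Data
import Groth.Agent.PicAux.Tensor
import Groth.Agent.PicAux.Cocycle
import Groth.Agent.PicAux.GenLocusAffine
import Groth.Prelude.Def_RelProj

/-! An immersion into projective space gives a relatively ample invertible module. -/

set_option linter.style.haveILetI false
universe u

open CategoryTheory CategoryTheory.Limits AlgebraicGeometry TopologicalSpace Opposite
open Groth.PicAux

namespace Groth.Chow

noncomputable section

section charts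

variable {Y : Scheme.{u}} {L : Y.Modules} {m : ℕ} (t : Fin m → Γ(L, ⊤)) (U : Fin m → Y.Opens)

/-- `a` extends to a global section of a tensor power after multiplying by a power of `t l` -/
def Ext (l : Fin m) (a : Γ(Y, U l)) (d : ℕ) : Prop :=
  ∃ σ : Γ(CohB1.tensorPow L d, ⊤),
    res (CohB1.tensorPow L d) (le_top : U l ≤ ⊤) σ = a • powSec (res L (le_top : U l ≤ ⊤) (t l)) d

variable {t U}

theorem ext_mul {l : Fin m} {a b : Γ(Y, U l)} {d : ℕ} (ha : Ext t U l a d) (s : Γ(L, ⊤))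
    (hs : res L (le_top : U l ≤ ⊤) s = b • res L (le_top : U l ≤ ⊤) (t l)) : Ext t U l (a * b) (d + 1) := by
  obtain ⟨σ, hσ⟩ := ha
  refine ⟨tmulSec σ s, ?_⟩
  change res (CohB1.tensorMod (CohB1.tensorPow L d) L) le_top (tmulSec σ s) =
    (a * b) • tmulSec (powSec (res L le_top (t l)) d) (res L le_top (t l))
  rw [res_tmulSec, hσ, hs, tmulSec_smul_left, tmulSec_smul_right]
  exact (mul_smul _ _ _).symm

theorem ext_raise {l : Fin m} {a : Γ(Y, U l)} {d e : ℕ} (hde : d ≤ e) (ha : Ext t U l a d) :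
    Ext t U l a e := by
  induction hde with
  | refl => exact ha
  | step _ ih => simpa using ext_mul ih (t l) (one_smul _ _).symm

theorem ext_add {l : Fin m} {a b : Γ(Y, U l)} {d : ℕ} (ha : Ext t U l a d) (hb : Ext t U l b d) :
    Ext t U l (a + b) d := by
  obtain ⟨σ, hσ⟩ := ha
  obtain ⟨τ, hτ⟩ := hb
  exact ⟨σ + τ, by rw [res_add, hσ, hτ, add_smul]⟩

theorem ext_global {l : Fin m} {a : Γ(Y, U l)} {d : ℕ} (ha : Ext t U l a d) (r : Γ(Y, ⊤)) :
    Ext t U l (resX Y le_top r * a) d := by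
  obtain ⟨σ, hσ⟩ := ha
  exact ⟨r • σ, by rw [res_smul, hσ, mul_smul]⟩

theorem exists_ext (c : ∀ l : Fin m, Fin m → Γ(Y, U l))
    (hc : ∀ l j, res L (le_top : U l ≤ ⊤) (t j) = c l j • res L (le_top : U l ≤ ⊤) (t l)) {l : Fin m} {g : Γ(Y, U l)}
    (hg : g ∈ Subring.closure
      (Set.range (resX Y (le_top : U l ≤ ⊤)) ∪ Set.range (c l))) :
    ∃ d, Ext t U l g d := by
  suffices h : ∀ a d, Ext t U l a d → ∃ e, Ext t U l (g * a) e by
    obtain ⟨e, he⟩ := h 1 0 ⟨oneSec Y ⊤, by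
      rw [one_smul]; exact res_oneSec _⟩
    exact ⟨e, by simpa using he⟩
  induction hg using Subring.closure_induction with
  | mem g hg =>
    rcases hg with ⟨r, rfl⟩ | ⟨j, rfl⟩
    · exact fun a d ha => ⟨d, ext_global ha r⟩
    · exact fun a d ha => ⟨d + 1, mul_comm a (c l j) ▸ ext_mul ha (t j) (hc l j)⟩
  | zero =>
    intro a d _
    refine ⟨0, ⟨0, ?_⟩⟩
    rw [zero_mul, zero_smul]
    exact map_zero _
  | one => exact fun a d ha => ⟨d, by simpa using ha⟩
  | add g h _ _ hg hh =>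
    intro a d ha
    obtain ⟨e, he⟩ := hg a d ha
    obtain ⟨e', he'⟩ := hh a d ha
    exact ⟨max e e', by
      rw [add_mul]
      exact ext_add (ext_raise (le_max_left e e') he) (ext_raise (le_max_right e e') he')⟩
  | neg g _ hg =>
    intro a d ha
    obtain ⟨e, σ, hσ⟩ := hg a d ha
    refine ⟨e, -σ, ?_⟩
    rw [neg_mul, neg_smul, ← hσ]
    exact map_neg _ σ
  | mul g h _ _ hg hh =>
    intro a d ha
    obtain ⟨e, he⟩ := hh a d ha
    obtain ⟨e', he'⟩ := hg _ e he
    exact ⟨e', by rwa [mul_assoc]⟩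

/-- Ampleness from charts. -/
theorem isAmple_of_charts [CompactSpace Y] (hU : iSup U = ⊤)
    (hgen : ∀ l, Gen L (U l) (res L (le_top : U l ≤ ⊤) (t l))) (c : ∀ l : Fin m, Fin m → Γ(Y, U l))
    (hc : ∀ l j, res L (le_top : U l ≤ ⊤) (t j) = c l j • res L (le_top : U l ≤ ⊤) (t l))
    (hinf : ∀ l k, Y.basicOpen (c k l) ≤ U l)
    (haff : ∀ y : Y, ∃ (l : Fin m) (g : Γ(Y, U l)),
      g ∈ Subring.closure (Set.range (resX Y (le_top : U l ≤ ⊤)) ∪ Set.range (c l)) ∧
        y ∈ Y.basicOpen g ∧ IsAffineOpen (Y.basicOpen g)) :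
    CohB1.IsAmple L := by
  refine ⟨isInvertible_of_gen_cover U hU _ hgen, inferInstance, fun y => ?_⟩
  obtain ⟨l, g, hg, hy, haf⟩ := haff y
  obtain ⟨d, σ, hσ⟩ := exists_ext c hc hg
  let τ : Γ(CohB1.tensorPow L (d + 1), ⊤) := tmulSec σ (t l)
  refine ⟨d, homOfSection τ, ?_⟩
  have hl : res (CohB1.tensorPow L (d + 1)) (le_top : U l ≤ ⊤) (gsec (homOfSection τ)) =
      g • powSec (res L le_top (t l)) (d + 1) := by
    rw [gsec_homOfSection]
    change res (CohB1.tensorMod (CohB1.tensorPow L d) L) le_top (tmulSec σ (t l)) =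
      g • tmulSec (powSec (res L le_top (t l)) d) (res L le_top (t l))
    rw [res_tmulSec, hσ, tmulSec_smul_left]
    rfl
  have hle : CohB1.genLocus _ (homOfSection τ) ≤ U l := by
    intro z hz
    obtain ⟨k, hk⟩ := Opens.mem_iSup.mp (hU.ge (Set.mem_univ z))
    obtain ⟨a, ha⟩ := ((hgen k).pow d).exists_coeff le_rfl (res (CohB1.tensorPow L d) le_top σ)
    rw [res_self] at ha
    have hk' : res (CohB1.tensorPow L (d + 1)) (le_top : U k ≤ ⊤) (gsec (homOfSection τ)) =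
        (a * c k l) • powSec (res L le_top (t k)) (d + 1) := by
      rw [gsec_homOfSection]
      change res (CohB1.tensorMod (CohB1.tensorPow L d) L) le_top (tmulSec σ (t l)) =
        (a * c k l) • tmulSec (powSec (res L le_top (t k)) d) (res L le_top (t k))
      rw [res_tmulSec, ha, hc k l, tmulSec_smul_left, tmulSec_smul_right]
      exact (mul_smul _ _ _).symm
    have hz' : z ∈ Y.basicOpen (a * c k l) := by
      rw [← genLocus_inf_eq_basicOpen ((hgen k).pow (d + 1)) hk']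
      exact ⟨hz, hk⟩
    rw [Scheme.basicOpen_mul] at hz'
    exact hinf l k hz'.2
  have heq : CohB1.genLocus _ (homOfSection τ) = Y.basicOpen g := by
    rw [← genLocus_inf_eq_basicOpen ((hgen l).pow (d + 1)) hl, inf_eq_left.mpr hle]
  rw [heq]
  exact ⟨hy, haf⟩

end charts

namespace PEmb

variable {X S : Scheme.{u}} {N : ℕ} (i : X ⟶ CohB1.ProjSpaceOver N S)

theorem κ_naturality (k : Fin (N + 1)) (V : (CohB1.ProjSpaceOver N S).Opens)
    (hV : V ≤ Xo (𝟙 (CohB1.ProjSpaceOver N S)) k) (hV' : i ⁻¹ᵁ V ≤ Xo i k) :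
    i.resLE V (i ⁻¹ᵁ V) le_rfl ≫ (CohB1.ProjSpaceOver N S).homOfLE hV ≫ κ (𝟙 _) k =
      X.homOfLE hV' ≫ κ i k := by
  rw [← cancel_mono (qι k)]
  simp only [Category.assoc, κ_qι, Scheme.homOfLE_ι_assoc, Scheme.Hom.resLE_comp_ι_assoc]
  rw [pf, pf, Category.id_comp]

theorem appLE_coordOn (k j : Fin (N + 1)) (V : (CohB1.ProjSpaceOver N S).Opens)
    (hV : V ≤ Xo (𝟙 (CohB1.ProjSpaceOver N S)) k) (hV' : i ⁻¹ᵁ V ≤ Xo i k) :
    i.app V (coordOn (𝟙 _) k j V hV) = coordOn i k j (i ⁻¹ᵁ V) hV' := by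
  have h := chartHom_q i k (i ⁻¹ᵁ V) hV' j
  rw [chartHom, ← κ_naturality i k V hV hV', homOf_comp, RingHom.comp_apply] at h
  erw [chartHom_q (𝟙 _) k V hV j] at h
  rw [Scheme.Hom.appTop, Scheme.Hom.resLE_app_top] at h
  simp only [CommRingCat.comp_apply, Iso.inv_hom_id_apply] at h
  have h2 := congrArg (i ⁻¹ᵁ V).topIso.hom h
  rw [Iso.inv_hom_id_apply, Iso.inv_hom_id_apply] at h2
  rw [Scheme.Hom.app_eq_appLE]
  exact h2

/-- The sheaf `i^* O(1)` with the coordinate sections. -/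
theorem exists_twistPullback :
    ∃ (L : X.Modules) (t : Fin (N + 1) → Γ(L, ⊤)), PicF.IsInvertible L ∧
      (∀ l, Gen L (Xo i l) (res L le_top (t l))) ∧
      ∀ l j, res L le_top (t j) = coord i l j • res L (le_top : Xo i l ≤ ⊤) (t l) := by
  let U : ULift.{u} (Fin (N + 1)) → X.Opens := fun l => Xo i l.down
  let η : ∀ l k : ULift.{u} (Fin (N + 1)), Γ(X, U l ⊓ U k) := fun l k =>
    coordOn i k.down l.down _ inf_le_right
  have hUtop : iSup U = ⊤ := top_le_iff.mp fun x _ => by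
    obtain ⟨k, hk⟩ := Opens.mem_iSup.mp ((iSup_Xo i).ge (Set.mem_univ x))
    exact Opens.mem_iSup.mpr ⟨⟨k⟩, hk⟩
  have hone : ∀ (k : Fin (N + 1)) (V : X.Opens) (h : V ≤ Xo i k), coordOn i k k V h = 1 := by
    intro k V h; rw [coordOn, coord_self, map_one]
  have hres : ∀ (k j : Fin (N + 1)) (V V' : X.Opens) (h : V ≤ Xo i k) (h' : V' ≤ V),
      resX X h' (coordOn i k j V h) = coordOn i k j V' (h'.trans h) :=
    fun k j V V' h h' => map_coordOn i k j h h'
  have hunit : ∀ l k, IsUnit (η l k) := fun l k => IsUnit.of_mul_eq_one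
    (coordOn i l.down k.down _ inf_le_left) (by
      rw [← coordOn_transition i k.down l.down k.down _ inf_le_right inf_le_left, hone])
  obtain ⟨L, s, hs, hL, hrel⟩ := exists_module_of_cocycle U η hUtop hunit (fun a b c => by
    simp only [η, hres]
    rw [mul_comm]
    exact coordOn_transition i c.down b.down a.down _ _ _)
  have hglue : ∀ j : Fin (N + 1), ∃ T : Γ(L, ⊤), ∀ l : ULift.{u} (Fin (N + 1)),
      res L le_top T = coord i l.down j • s l := by
    intro j
    obtain ⟨T, hT, -⟩ := res_glue (M := L) U (fun _ => le_top) hUtop.ge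
      (fun l => coord i l.down j • s l) fun l k => by
        rw [res_smul, res_smul, hrel, ← mul_smul]
        congr 1
        show coordOn i l.down j _ inf_le_left * η l k = coordOn i k.down j _ inf_le_right
        rw [mul_comm]
        exact (coordOn_transition i k.down l.down j _ _ _).symm
    exact ⟨T, hT⟩
  choose T hT using hglue
  have hTl : ∀ l : Fin (N + 1), res L le_top (T l) = s ⟨l⟩ := fun l =>
    (hT l ⟨l⟩).trans (by rw [coord_self, one_smul])
  refine ⟨L, T, hL, fun l => ?_, fun l j => ?_⟩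
  · rw [hTl l]; exact hs ⟨l⟩
  · rw [hTl l]; exact hT j ⟨l⟩

/-- An immersion into `P^N_S` with quasi-compact structure map gives a relatively ample module. -/
theorem exists_isRelAmple [IsImmersion i] [QuasiCompact (strMap i)] :
    ∃ L : X.Modules, RelAmple.IsRelAmple (strMap i) L := by
  obtain ⟨L, t, hL, hgen, hc⟩ := exists_twistPullback i
  refine ⟨L, inferInstance, fun V => ?_⟩
  set Y : X.Opens := strMap i ⁻¹ᵁ V.1 with hY
  haveI : CompactSpace Y.toScheme := isCompact_iff_compactSpace.mp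
    (QuasiCompact.isCompact_preimage _ V.1.isOpen V.2.isCompact)
  let U' : Fin (N + 1) → Y.toScheme.Opens := fun l => Y.ι ⁻¹ᵁ Xo i l
  have himg : ∀ l, Y.ι ''ᵁ U' l ≤ Xo i l := fun l => Y.ι.image_preimage_le _
  let t' : Fin (N + 1) → Γ(L.restrict Y.ι, ⊤) := fun j =>
    (res L le_top (t j) : Γ(L, Y.ι ''ᵁ ⊤))
  let c' : ∀ l : Fin (N + 1), Fin (N + 1) → Γ(Y.toScheme, U' l) := fun l j =>
    (coordOn i l j (Y.ι ''ᵁ U' l) (himg l) : Γ(X, Y.ι ''ᵁ U' l))
  have ht' : ∀ (j : Fin (N + 1)) (A : Y.toScheme.Opens),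
      res (L.restrict Y.ι) le_top (t' j) = (res L le_top (t j) : Γ(L, Y.ι ''ᵁ A)) := fun j A =>
    res_res (M := L) le_top (Y.ι.image_mono (le_top : A ≤ ⊤)) (t j)
  have hsup : iSup U' = ⊤ := by
    simp only [U', ← Scheme.Hom.preimage_iSup, iSup_Xo]
    rfl
  have hbo : ∀ (l : Fin (N + 1)) (g : Γ(Y.toScheme, U' l)),
      Y.ι ''ᵁ Y.toScheme.basicOpen g = X.basicOpen (g : Γ(X, Y.ι ''ᵁ U' l)) := fun l g => by
    rw [Scheme.image_basicOpen, Scheme.Opens.ι_appIso]
    rfl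
  refine isAmple_of_charts (t := t') (U := U') hsup (fun l => ?_) c' (fun l j => ?_)
    (fun l k => ?_) fun y => ?_
  · intro A hA
    have hA' : Y.ι ''ᵁ A ≤ Xo i l := (Y.ι.image_mono hA).trans (himg l)
    have e : (fun r : Γ(Y.toScheme, A) => r • res (L.restrict Y.ι) hA
        (res (L.restrict Y.ι) le_top (t' l))) =
        fun r : Γ(X, Y.ι ''ᵁ A) => r • res L hA' (res L le_top (t l)) := by
      funext r
      rw [res_res, ht', res_res]
      exact restrict_smul Y A r _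
    exact (congrArg Function.Bijective e).mpr (hgen l (Y.ι ''ᵁ A) hA')
  · rw [ht', ht']
    refine Eq.trans ?_ (restrict_smul Y (U' l) _ _).symm
    have := congrArg (res L (himg l)) (hc l j)
    rw [res_res, res_smul, res_res] at this
    exact this
  · refine fun z hz => ?_
    show Y.ι z ∈ Xo i l
    have hz' : Y.ι z ∈ X.basicOpen (coordOn i k l (Y.ι ''ᵁ U' k) (himg k)) :=
      (hbo k (c' k l)).le ⟨z, hz, rfl⟩
    rw [coordOn, Scheme.basicOpen_res, ← Xo_inf] at hz'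
    exact hz'.2.2
  · obtain ⟨l, hl⟩ := Opens.mem_iSup.mp ((iSup_Xo i).ge (Set.mem_univ (Y.ι y)))
    let P := CohB1.ProjSpaceOver N S
    let Ω : P.Opens := W (𝟙 P) l V.1
    have hΩ : IsAffineOpen Ω := isAffineOpen_W (𝟙 P) l V.2
    have hyV : Y.ι y ∈ strMap i ⁻¹ᵁ V.1 := y.2
    have hyΩ : i (Y.ι y) ∈ Ω := ⟨hl, hyV⟩
    have hiΩ : i ⁻¹ᵁ Ω ≤ Xo i l := fun z hz => hz.1
    have hiΩ' : Y.ι ''ᵁ U' l ≤ i ⁻¹ᵁ Ω := by
      rintro _ ⟨z, hz, rfl⟩
      exact ⟨hz, z.2⟩
    obtain ⟨γ, hγ, hyγ⟩ := hΩ.exists_basicOpen_le (V := i.coborderRange) ⟨i (Y.ι y), by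
      exact subset_coborder ⟨Y.ι y, rfl⟩⟩ hyΩ
    let g : Γ(Y.toScheme, U' l) := (i.appLE Ω (Y.ι ''ᵁ U' l) hiΩ' γ : Γ(X, Y.ι ''ᵁ U' l))
    refine ⟨l, g, ?_, ?_, ?_⟩
    · let K := Subring.closure (Set.range (resX Y.toScheme (le_top : U' l ≤ ⊤)) ∪ Set.range (c' l))
      have : Subring.closure (Set.range ((strMap (𝟙 P)).appLE V.1 Ω (W_le_pre _ l V.1)) ∪
          Set.range (fun j => coordOn (𝟙 P) l j Ω (W_le_Xo _ l V.1))) ≤
            K.comap (i.appLE Ω (Y.ι ''ᵁ U' l) hiΩ').hom := by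
        rw [Subring.closure_le]
        rintro _ (⟨r, rfl⟩ | ⟨j, rfl⟩)
        · refine Subring.subset_closure (Or.inl
            ⟨((strMap i).appLE V.1 (Y.ι ''ᵁ ⊤) (Y.ι_image_top).le r : Γ(X, Y.ι ''ᵁ ⊤)), ?_⟩)
          have h1 := ConcreteCategory.congr_hom (Scheme.Hom.appLE_map (strMap i) (U := V.1)
            (V := Y.ι ''ᵁ ⊤) (Y.ι_image_top).le
            (homOfLE (Y.ι.image_mono (le_top : U' l ≤ ⊤))).op) r
          have h2 := ConcreteCategory.congr_hom (Scheme.Hom.appLE_comp_appLE i (strMap (𝟙 P)) V.1 Ω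
            (Y.ι ''ᵁ U' l) (W_le_pre _ l V.1) hiΩ') r
          simp only [CommRingCat.comp_apply] at h1 h2
          refine Eq.trans ?_ h2.symm
          refine Eq.trans h1 ?_
          have e : ∀ (f f' : X ⟶ S) (_ : f = f') h h',
              f.appLE V.1 (Y.ι ''ᵁ U' l) h r = f'.appLE V.1 (Y.ι ''ᵁ U' l) h' r := by
            rintro f _ rfl h h'; rfl
          exact e _ _ (by simp [strMap]; rfl) _ _
        · refine Subring.subset_closure (Or.inr ⟨j, ?_⟩)
          show coordOn i l j _ _ = i.appLE _ _ _ _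
          rw [Scheme.Hom.appLE, CommRingCat.comp_apply, appLE_coordOn i l j Ω (W_le_Xo _ l V.1) hiΩ,
            map_coordOn]
      exact this ((W_generated (𝟙 P) l V.2).ge (Subring.mem_top γ))
    · have : Y.ι y ∈ Y.ι ''ᵁ Y.toScheme.basicOpen g := by
        rw [hbo]
        show Y.ι y ∈ X.basicOpen (i.appLE Ω (Y.ι ''ᵁ U' l) hiΩ' γ)
        rw [Scheme.basicOpen_appLE]
        exact ⟨⟨y, hl, rfl⟩, hyγ⟩
      obtain ⟨z, hz, hzy⟩ := this
      exact Y.ι.isOpenEmbedding.injective hzy ▸ hz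
    · rw [← Y.ι.isAffineOpen_iff_of_isOpenImmersion, hbo]
      show IsAffineOpen (X.basicOpen (i.appLE Ω (Y.ι ''ᵁ U' l) hiΩ' γ))
      have e : X.basicOpen (i.appLE Ω (Y.ι ''ᵁ U' l) hiΩ' γ) = i ⁻¹ᵁ P.basicOpen γ := by
        rw [Scheme.basicOpen_appLE, inf_eq_right]
        intro z hz
        have : i z ∈ Ω := P.basicOpen_le γ hz
        exact ⟨⟨z, this.2⟩, this.1, rfl⟩
      rw [e, ← i.liftCoborder_ι, Scheme.Hom.comp_preimage]
      refine IsAffineOpen.preimage ?_ _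
      rw [← i.coborderRange.ι.isAffineOpen_iff_of_isOpenImmersion,
        Scheme.Hom.image_preimage_eq_opensRange_inf, Scheme.Opens.opensRange_ι, inf_eq_right.mpr hγ]
      exact hΩ.basicOpen γ

/-- An immersion into `P^N_S` with quasi-compact structure map is quasi-projective. -/
theorem isQuasiProjective [IsImmersion i] [QuasiCompact (strMap i)] :
    RelProj.IsQuasiProjective (strMap i) := by
  haveI := Groth.Variety2.isProper_projSpaceOver_toBase N S
  exact ⟨inferInstance, inferInstance, exists_isRelAmple i⟩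

end PEmb

end

end Groth.Chow
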