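import Groth.Agent.Chow.Projective
import Groth.Agent.Chow.ProjEmb.Iso
import Groth.Agent.S9693

/-! Local projectivity and H-projectivity; base change. -/

set_option linter.style.haveILetI false
universe u

open CategoryTheory CategoryTheory.Limits AlgebraicGeometry TopologicalSpace

namespace Groth.Chow

theorem isHProjective_of_isPullback {X X' S S' : Scheme.{u}} {a : X' ⟶ X} {f' : X' ⟶ S'} {f : X ⟶ S}
    {g : S' ⟶ S} (sq : IsPullback a f' f g) (hf : RelProj.IsHProjective f) :
    RelProj.IsHProjective f' := by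
  obtain ⟨n, k, hk, hkb⟩ := Groth.Agent.S9693.result f hf g
  refine ⟨n, sq.isoPullback.hom ≫ k, inferInstance, ?_⟩
  rw [Category.assoc, hkb, sq.isoPullback_hom_snd]

theorem isPullback_restrict_of_le {X S : Scheme.{u}} (f : X ⟶ S) {U V : S.Opens} (h : V ≤ U) :
    IsPullback (X.homOfLE (f.preimage_mono h)) (f ∣_ V) (f ∣_ U) (S.homOfLE h) := by
  refine IsPullback.of_right ?_ ?_ (isPullback_morphismRestrict f U).flip
  · rw [X.homOfLE_ι, S.homOfLE_ι]
    exact (isPullback_morphismRestrict f V).flip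
  · rw [← cancel_mono U.ι, Category.assoc, Category.assoc, morphismRestrict_ι, X.homOfLE_ι_assoc,
      S.homOfLE_ι, morphismRestrict_ι]

theorem isHProjective_restrict_of_restrict_isProjective {X S : Scheme.{u}} (f : X ⟶ S) {U V : S.Opens}
    (hf : RelProj.IsProjective (f ∣_ U)) (h : V ≤ U) (hV : IsAffineOpen V) :
    RelProj.IsHProjective (f ∣_ V) := by
  let V' : U.toScheme.Opens := U.ι ⁻¹ᵁ V
  have hV' : IsAffineOpen V' := by
    rw [← U.ι.isAffineOpen_iff_of_isOpenImmersion, Scheme.Hom.image_preimage_eq_opensRange_inf,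
      Scheme.Opens.opensRange_ι, inf_eq_right.mpr h]
    exact hV
  have h1 := isHProjective_restrict_of_isProjective hf hV'
  let g : V.toScheme ⟶ V'.toScheme := IsOpenImmersion.lift V'.ι (S.homOfLE h) (by
    rintro _ ⟨z, rfl⟩
    rw [Scheme.Opens.range_ι]
    show U.ι (S.homOfLE h z) ∈ V
    rw [← Scheme.Hom.comp_apply, S.homOfLE_ι]
    exact z.2)
  have hg : g ≫ V'.ι = S.homOfLE h := IsOpenImmersion.lift_fac _ _ _
  have sq := isPullback_restrict_of_le f h
  rw [← hg] at sq
  let a := (isPullback_morphismRestrict (f ∣_ U) V').flip.lift (X.homOfLE (f.preimage_mono h))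
    ((f ∣_ V) ≫ g) (by rw [Category.assoc, hg]; exact (isPullback_restrict_of_le f h).w)
  refine isHProjective_of_isPullback (a := a) (g := g) ?_ h1
  refine IsPullback.of_right ?_ (IsPullback.lift_snd _ _ _ _) (isPullback_morphismRestrict (f ∣_ U) V').flip
  rw [IsPullback.lift_fst]
  exact sq

theorem isProjective_of_isHProjective {X S : Scheme.{u}} {f : X ⟶ S} (hf : RelProj.IsHProjective f) :
    RelProj.IsProjective f := by
  obtain ⟨n, i, hi, rfl⟩ := hf
  exact PEmb.isProjective i

theorem isLocallyProjective_iff {X S : Scheme.{u}} (f : X ⟶ S) :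
    RelProj.IsLocallyProjective f ↔ ∀ s : S, ∃ U : S.Opens, s ∈ U ∧ RelProj.IsHProjective (f ∣_ U) := by
  constructor
  · intro hf s
    obtain ⟨U, hs, hU⟩ := hf s
    obtain ⟨_, ⟨V, hV, rfl⟩, hsV, hVU⟩ := S.isBasis_affineOpens.exists_subset_of_mem_open hs U.isOpen
    exact ⟨V, hsV, isHProjective_restrict_of_restrict_isProjective f hU hVU hV⟩
  · intro hf s
    obtain ⟨U, hs, hU⟩ := hf s
    exact ⟨U, hs, isProjective_of_isHProjective hU⟩

theorem isLocallyProjective_baseChange {X S S' : Scheme.{u}} (f : X ⟶ S)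
    (hf : RelProj.IsLocallyProjective f) (g : S' ⟶ S) :
    RelProj.IsLocallyProjective (pullback.snd f g) := by
  rw [isLocallyProjective_iff] at hf ⊢
  intro s
  obtain ⟨U, hs, hU⟩ := hf (g s)
  refine ⟨g ⁻¹ᵁ U, hs, ?_⟩
  have p1 := ((isPullback_morphismRestrict (pullback.snd f g) (g ⁻¹ᵁ U)).flip.paste_horiz
    (IsPullback.of_hasPullback f g))
  rw [← morphismRestrict_ι g U] at p1
  refine isHProjective_of_isPullback
    (a := (isPullback_morphismRestrict f U).flip.lift _ _ (p1.w.trans (Category.assoc _ _ _).symm))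
    (g := g ∣_ U) ?_ hU
  refine IsPullback.of_right ?_ (IsPullback.lift_snd _ _ _ _) (isPullback_morphismRestrict f U).flip
  rw [IsPullback.lift_fst]
  exact p1

end Groth.Chow
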