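import Groth.Agent.Chow.VeryAmplePn
import Groth.Agent.Chow.LocProjective
import Groth.Agent.Chow.ImmAmple
import Groth.Prelude.Def_RelProj

/-! Quasi-projective and H-quasi-projective morphisms over an affine base. -/

set_option linter.style.haveILetI false
universe u

open CategoryTheory CategoryTheory.Limits AlgebraicGeometry TopologicalSpace

namespace Groth.Chow

theorem isHQuasiProjective_of_isPullback {X X' S S' : Scheme.{u}} {a : X' ⟶ X} {f' : X' ⟶ S'}
    {f : X ⟶ S} {g : S' ⟶ S} (p : IsPullback a f' f g) (hf : RelProj.IsHQuasiProjective f) :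
    RelProj.IsHQuasiProjective f' := by
  obtain ⟨n, i, hi, hqc, rfl⟩ := hf
  let t := CohB1.ProjSpace.toSpec n (ULift.{u} ℤ)
  let F : CohB1.ProjSpaceOver n S' ⟶ CohB1.ProjSpaceOver n S :=
    pullback.lift (pullback.fst t (specULiftZIsTerminal.from S'))
      (CohB1.ProjSpaceOver.toBase n S' ≫ g) (specULiftZIsTerminal.hom_ext _ _)
  have hF₁ : F ≫ pullback.fst t (specULiftZIsTerminal.from S) =
      pullback.fst t (specULiftZIsTerminal.from S') := pullback.lift_fst _ _ _
  have hF₂ : F ≫ CohB1.ProjSpaceOver.toBase n S = CohB1.ProjSpaceOver.toBase n S' ≫ g :=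
    pullback.lift_snd _ _ _
  have big : IsPullback (F ≫ pullback.fst t (specULiftZIsTerminal.from S))
      (CohB1.ProjSpaceOver.toBase n S') t (g ≫ specULiftZIsTerminal.from S) := by
    rw [hF₁, show g ≫ specULiftZIsTerminal.from S = specULiftZIsTerminal.from S' from
      specULiftZIsTerminal.hom_ext _ _]
    exact IsPullback.of_hasPullback _ _
  have sq : IsPullback F (CohB1.ProjSpaceOver.toBase n S') (CohB1.ProjSpaceOver.toBase n S) g :=
    IsPullback.of_right big hF₂ (IsPullback.of_hasPullback _ _)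
  let k := sq.lift (a ≫ i) f' (by rw [Category.assoc, p.w])
  have top : IsPullback a k i F := by
    refine IsPullback.of_bot ?_ (sq.lift_fst _ _ _).symm sq
    rw [sq.lift_snd]
    exact p
  exact ⟨n, k, MorphismProperty.of_isPullback top hi, MorphismProperty.of_isPullback top hqc,
    sq.lift_snd _ _ _⟩

theorem isHQuasiProjective_of_isAmple {X Y : Scheme.{u}} [IsAffine Y] (q : X ⟶ Y) [QuasiCompact q]
    [LocallyOfFiniteType q] {L : X.Modules} (hA : CohB1.IsAmple L) : RelProj.IsHQuasiProjective q := by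
  obtain ⟨n₀, hn₀⟩ := exists_isRelVeryAmplePn q hA
  obtain ⟨m, i, hi, hiq, -⟩ := hn₀ n₀ le_rfl
  haveI := Groth.Variety2.isProper_projSpaceOver_toBase m Y
  haveI : QuasiCompact (i ≫ CohB1.ProjSpaceOver.toBase m Y) := by
    rw [show i ≫ CohB1.ProjSpaceOver.toBase m Y = q from hiq]; infer_instance
  exact ⟨m, i, hi, QuasiCompact.of_comp i (CohB1.ProjSpaceOver.toBase m Y), hiq⟩

theorem isHQuasiProjective_restrict {X S : Scheme.{u}} {f : X ⟶ S} (hf : RelProj.IsQuasiProjective f)
    {V : S.Opens} (hV : IsAffineOpen V) : RelProj.IsHQuasiProjective (f ∣_ V) := by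
  obtain ⟨hlft, hqc, L, -, hL⟩ := hf
  haveI : IsAffine V.toScheme := hV
  haveI : LocallyOfFiniteType (f ∣_ V) := IsZariskiLocalAtTarget.restrict hlft V
  haveI : QuasiCompact (f ∣_ V) := IsZariskiLocalAtTarget.restrict hqc V
  exact isHQuasiProjective_of_isAmple (f ∣_ V) (hL ⟨V, hV⟩)

theorem isQuasiProjective_of_isHQuasiProjective {X S : Scheme.{u}} {f : X ⟶ S}
    (hf : RelProj.IsHQuasiProjective f) : RelProj.IsQuasiProjective f := by
  obtain ⟨n, i, hi, hqc, rfl⟩ := hf
  haveI := Groth.Variety2.isProper_projSpaceOver_toBase n S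
  exact PEmb.isQuasiProjective i

theorem isHQuasiProjective_restrict_of_restrict {X S : Scheme.{u}} (f : X ⟶ S) {U V : S.Opens}
    (hf : RelProj.IsQuasiProjective (f ∣_ U)) (h : V ≤ U) (hV : IsAffineOpen V) :
    RelProj.IsHQuasiProjective (f ∣_ V) := by
  let V' : U.toScheme.Opens := U.ι ⁻¹ᵁ V
  have hV' : IsAffineOpen V' := by
    rw [← U.ι.isAffineOpen_iff_of_isOpenImmersion, Scheme.Hom.image_preimage_eq_opensRange_inf,
      Scheme.Opens.opensRange_ι, inf_eq_right.mpr h]
    exact hV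
  have h1 := isHQuasiProjective_restrict hf hV'
  let g : V.toScheme ⟶ V'.toScheme := IsOpenImmersion.lift V'.ι (S.homOfLE h) (by
    rintro _ ⟨z, rfl⟩
    rw [Scheme.Opens.range_ι]
    show U.ι (S.homOfLE h z) ∈ V
    rw [← Scheme.Hom.comp_apply, S.homOfLE_ι]
    exact z.2)
  have hg : g ≫ V'.ι = S.homOfLE h := IsOpenImmersion.lift_fac _ _ _
  have sq := isPullback_restrict_of_le f h
  rw [← hg] at sq
  let a := (isPullback_morphismRestrict (f ∣_ U) V').flip.lift (X.homOfLE (f.preimage_mono h))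
    ((f ∣_ V) ≫ g) (by rw [Category.assoc, hg]; exact (isPullback_restrict_of_le f h).w)
  refine isHQuasiProjective_of_isPullback (a := a) (g := g) ?_ h1
  refine IsPullback.of_right ?_ (IsPullback.lift_snd _ _ _ _) (isPullback_morphismRestrict (f ∣_ U) V').flip
  rw [IsPullback.lift_fst]
  exact sq

theorem isLocallyQuasiProjective_iff {X S : Scheme.{u}} (f : X ⟶ S) :
    (∀ s : S, ∃ U : S.Opens, s ∈ U ∧ RelProj.IsQuasiProjective (f ∣_ U)) ↔
      (∀ s : S, ∃ U : S.Opens, s ∈ U ∧ RelProj.IsHQuasiProjective (f ∣_ U)) := by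
  refine ⟨fun hf s => ?_, fun hf s => ?_⟩
  · obtain ⟨U, hs, hU⟩ := hf s
    obtain ⟨_, ⟨V, hV, rfl⟩, hsV, hVU⟩ := S.isBasis_affineOpens.exists_subset_of_mem_open hs U.isOpen
    exact ⟨V, hsV, isHQuasiProjective_restrict_of_restrict f hU hVU hV⟩
  · obtain ⟨U, hs, hU⟩ := hf s
    exact ⟨U, hs, isQuasiProjective_of_isHQuasiProjective hU⟩

end Groth.Chow
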