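import Groth.Agent.Ega2Proj.TwistGen
import Groth.Agent.PicAux.Pullback
import Groth.Agent.PicAux.GenLocusAffine
import Groth.Agent.Ega2Proj2.ProjLoc
import Groth.Prelude.Def_ProjUP
import Mathlib

/-! The morphism to `P^n_R` given by generating sections of an invertible module. -/

set_option linter.style.haveILetI false
universe u

open CategoryTheory CategoryTheory.Limits AlgebraicGeometry Opposite TopologicalSpace
open Groth.PicAux

namespace Groth.Chow.ToPn

noncomputable section

open HomogeneousLocalization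

variable {R : Type u} [CommRing R] {n : ℕ}

local notation "ℙg" => CohB1.polyGrading n R

theorem X_mem (i : Fin (n + 1)) : (MvPolynomial.X i : MvPolynomial (Fin (n + 1)) R) ∈ ℙg 1 :=
  MvPolynomial.isHomogeneous_X R i

/-- homogeneous polynomials scale -/
theorem eval₂_scale {S : Type u} [CommRing S] (f : R →+* S) (b : Fin (n + 1) → S) (u : S) {d : ℕ}
    {p : MvPolynomial (Fin (n + 1)) R} (hp : p ∈ ℙg d) :
    MvPolynomial.eval₂ f (fun l => u * b l) p = u ^ d * MvPolynomial.eval₂ f b p := by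
  have hp' : MvPolynomial.IsHomogeneous p d := hp
  rw [MvPolynomial.eval₂_eq', MvPolynomial.eval₂_eq', Finset.mul_sum]
  refine Finset.sum_congr rfl fun e he => ?_
  have hdeg : ∑ l, e l = d := by
    have := hp' (MvPolynomial.mem_support_iff.mp he)
    rwa [Finsupp.weight_apply, Finsupp.sum_fintype _ _ (by simp), show
      (∑ l, e l • (1 : Fin (n + 1) → ℕ) l) = ∑ l, e l by simp] at this
  simp only [mul_pow, Finset.prod_mul_distrib, Finset.prod_pow_eq_pow_sum, hdeg]
  ring

/-- evaluation on a chart -/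
def chart {S : Type u} [CommRing S] (i : Fin (n + 1)) (f : R →+* S) (b : Fin (n + 1) → S) (hb : b i = 1) :
    Away ℙg (MvPolynomial.X i) →+* S :=
  (Localization.awayLift (MvPolynomial.eval₂Hom f b) _ (by simp [hb])).comp
    (algebraMap _ (Localization.Away (MvPolynomial.X i : MvPolynomial (Fin (n + 1)) R)))

theorem chart_mk {S : Type u} [CommRing S] (i : Fin (n + 1)) (f : R →+* S) (b : Fin (n + 1) → S)
    (hb : b i = 1) (d : ℕ) (a : MvPolynomial (Fin (n + 1)) R) (ha : a ∈ ℙg (d • 1)) :
    chart i f b hb (Away.mk ℙg (X_mem i) d a ha) = MvPolynomial.eval₂ f b a := by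
  rw [chart, RingHom.comp_apply, HomogeneousLocalization.algebraMap_apply, Away.val_mk]
  refine (Localization.awayLift_mk (MvPolynomial.eval₂Hom f b) _ _ (1 : S) (by simp [hb]) d).trans ?_
  rw [one_pow, mul_one, MvPolynomial.coe_eval₂Hom]

theorem comp_chart {S S' : Type u} [CommRing S] [CommRing S'] (i : Fin (n + 1)) (f : R →+* S)
    (b : Fin (n + 1) → S) (hb : b i = 1) (g : S →+* S') :
    g.comp (chart i f b hb) = chart i (g.comp f) (g ∘ b) (by simp [hb]) := by
  refine RingHom.ext fun z => ?_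
  obtain ⟨d, a, ha, rfl⟩ := Away.mk_surjective ℙg (X_mem i) z
  rw [RingHom.comp_apply, chart_mk, chart_mk, MvPolynomial.eval₂_comp_left]

/-- the point given by chart data is independent of the chart -/
theorem chart_change {S : CommRingCat.{u}} {i j : Fin (n + 1)} (f : R →+* S) (b b' : Fin (n + 1) → S)
    (hb : b i = 1) (hb' : b' j = 1) (h : ∀ l, b l = b j * b' l) :
    Spec.map (CommRingCat.ofHom (chart i f b hb)) ≫ Proj.awayι ℙg _ (X_mem i) one_pos =
      Spec.map (CommRingCat.ofHom (chart j f b' hb')) ≫ Proj.awayι ℙg _ (X_mem j) one_pos := by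
  let x : MvPolynomial (Fin (n + 1)) R := MvPolynomial.X i * MvPolynomial.X j
  have hu : IsUnit (b j) := IsUnit.of_mul_eq_one (b' i) (by rw [← h i, hb])
  let ev := MvPolynomial.eval₂Hom f b
  have hx : IsUnit (ev x) := by simp [ev, x, hb, hu]
  obtain ⟨γ, hγdef⟩ : ∃ γ : Away ℙg x →+* S,
      γ = (Localization.awayLift ev x hx).comp (algebraMap _ (Localization.Away x)) := ⟨_, rfl⟩
  have hγ : γ.comp (awayMap ℙg (X_mem j) (rfl : x = _)) = chart i f b hb := by
    refine RingHom.ext fun z => ?_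
    obtain ⟨d, a, ha, rfl⟩ := Away.mk_surjective ℙg (X_mem i) z
    rw [chart_mk, RingHom.comp_apply, awayMap_mk, hγdef]
    show Localization.awayLift ev x hx _ = _
    rw [HomogeneousLocalization.algebraMap_apply, Away.val_mk]
    obtain ⟨v, hv⟩ := hx
    refine (Localization.awayLift_mk ev _ _ (↑v⁻¹ : S) (by rw [← hv, Units.mul_inv]) d).trans ?_
    rw [map_mul, map_pow, show ev (MvPolynomial.X j) = ev x by simp [ev, x, hb], mul_assoc, ← mul_pow,
      ← hv, Units.mul_inv, one_pow, mul_one]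
    rfl
  have hγ' : γ.comp (awayMap ℙg (X_mem i) ((rfl : x = _).trans (mul_comm _ _))) = chart j f b' hb' := by
    refine RingHom.ext fun z => ?_
    obtain ⟨d, a, ha, rfl⟩ := Away.mk_surjective ℙg (X_mem j) z
    rw [chart_mk, RingHom.comp_apply, awayMap_mk, hγdef]
    show Localization.awayLift ev x hx _ = _
    rw [HomogeneousLocalization.algebraMap_apply, Away.val_mk]
    obtain ⟨v, hv⟩ := hx
    refine (Localization.awayLift_mk ev _ _ (↑v⁻¹ : S) (by rw [← hv, Units.mul_inv]) d).trans ?_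
    have ha' : a ∈ ℙg d := by simpa using ha
    have hs : ev a = b j ^ d * MvPolynomial.eval₂ f b' a := by
      show MvPolynomial.eval₂ f b a = _
      rw [← eval₂_scale f b' (b j) ha']
      exact congrArg (fun b => MvPolynomial.eval₂ f b a) (funext h)
    rw [map_mul, map_pow, show ev (MvPolynomial.X i) = 1 by simp [ev, hb], one_pow, mul_one, hs,
      show b j = ↑v by rw [hv]; simp [ev, x, hb], mul_comm (_ ^ d), mul_assoc, ← mul_pow, Units.mul_inv,
      one_pow, mul_one]
  rw [← hγ, ← hγ', CommRingCat.ofHom_comp, CommRingCat.ofHom_comp, Spec.map_comp, Spec.map_comp,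
    Category.assoc, Category.assoc]
  exact congrArg (Spec.map (CommRingCat.ofHom γ) ≫ ·)
    ((Proj.SpecMap_awayMap_awayι ℙg (X_mem i) one_pos (X_mem j) (rfl : x = _)).trans
      (Proj.SpecMap_awayMap_awayι ℙg (X_mem j) one_pos (X_mem i) ((rfl : x = _).trans (mul_comm _ _))).symm)

variable {X : Scheme.{u}} (q : X ⟶ Spec (CommRingCat.of R)) (L : X.Modules)
  (s : Fin (n + 1) → ProjUP.Γm L)

/-- the locus where `s i` generates -/
def U (i : Fin (n + 1)) : X.Opens := CohB1.genLocus L (homOfSection (s i))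

theorem gen_U (i : Fin (n + 1)) : Gen L (U L s i) (res L le_top (s i)) := by
  have := (le_genLocus_iff (homOfSection (s i)) (U L s i)).mp le_rfl
  rwa [gsec_homOfSection] at this

theorem exists_c (i l : Fin (n + 1)) :
    ∃ c : Γ(X, U L s i), res L le_top (s l) = c • res L (le_top : U L s i ≤ ⊤) (s i) := by
  obtain ⟨c, hc⟩ := (gen_U L s i).exists_coeff le_rfl (res L le_top (s l))
  exact ⟨c, by rwa [res_self] at hc⟩

/-- the coordinate functions `s l / s i` -/
def c (i l : Fin (n + 1)) : Γ(X, U L s i) := (exists_c L s i l).choose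

theorem c_spec (i l : Fin (n + 1)) :
    res L le_top (s l) = c L s i l • res L (le_top : U L s i ≤ ⊤) (s i) := (exists_c L s i l).choose_spec

theorem c_self (i : Fin (n + 1)) : c L s i i = 1 :=
  (gen_U L s i).smul_inj le_rfl (by rw [res_self, ← c_spec, one_smul])

theorem c_trans (i j l : Fin (n + 1)) (V : X.Opens) (hi : V ≤ U L s i) (hj : V ≤ U L s j) :
    resX X hi (c L s i l) = resX X hi (c L s i j) * resX X hj (c L s j l) := by
  refine (gen_U L s i).smul_inj hi ?_
  have h1 := congrArg (res L hi) (c_spec L s i l)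
  have h2 := congrArg (res L hj) (c_spec L s j l)
  have h3 := congrArg (res L hi) (c_spec L s i j)
  simp only [res_smul, res_res] at h1 h2 h3 ⊢
  rw [← h1, h2, h3, ← mul_smul, mul_comm]

theorem U_inf (i j : Fin (n + 1)) : U L s j ⊓ U L s i = X.basicOpen (c L s i j) :=
  genLocus_inf_eq_basicOpen (gen_U L s i) (by rw [gsec_homOfSection]; exact c_spec L s i j)

theorem iSup_U (hL : PicF.IsInvertible L) (hs : ProjUP.GeneratedBy L s) : ⨆ i, U L s i = ⊤ := by
  refine top_le_iff.mp fun x _ => ?_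
  obtain ⟨W, e, -, hxW, he⟩ := exists_affine_gen_mem hL x
  choose a ha using fun i => he.exists_coeff le_rfl (res L (le_top : W ≤ ⊤) (s i))
  by_cases hu : ∃ i, x ∈ X.basicOpen (a i)
  · obtain ⟨i, hi⟩ := hu
    refine Opens.mem_iSup.mpr ⟨i, ?_⟩
    have := genLocus_inf_eq_basicOpen (s := homOfSection (s i)) he (c := a i)
      (by rw [gsec_homOfSection]; simpa using ha i)
    exact (this.ge hi).1
  exfalso
  push Not at hu
  let m := IsLocalRing.maximalIdeal (X.presheaf.stalk x)
  let g := L.presheaf.germ W x hxW e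
  have hgs : ∀ i, L.presheaf.germ ⊤ x trivial (s i) = X.presheaf.germ W x hxW (a i) • g := by
    intro i
    have h1 : L.presheaf.germ W x hxW (res L (le_top : W ≤ ⊤) (s i)) = L.presheaf.germ ⊤ x trivial (s i) :=
      TopCat.Presheaf.germ_res_apply L.presheaf (homOfLE (le_top : W ≤ ⊤)) x hxW (s i)
    rw [← h1, ha i, res_self]
    exact PresheafOfModules.germ_smul (R := X.presheaf)
      (show PresheafOfModules (X.presheaf ⋙ forget₂ CommRingCat RingCat) from L.val) x W hxW (a i) e
  have hm : ∀ i, X.presheaf.germ W x hxW (a i) ∈ m := fun i => by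
    rw [IsLocalRing.mem_maximalIdeal]
    exact fun h => hu i ((X.mem_basicOpen (a i) x hxW).mpr h)
  have hg : g ∈ Submodule.map (LinearMap.toSpanSingleton _ _ g) m := by
    have hsp : Submodule.span (X.presheaf.stalk x)
        (Set.range fun i => (L.presheaf.germ ⊤ x trivial).hom (s i)) ≤
          Submodule.map (LinearMap.toSpanSingleton _ _ g) m := by
      rw [Submodule.span_le]
      rintro _ ⟨i, rfl⟩
      exact ⟨_, hm i, (hgs i).symm⟩
    exact hsp ((hs x).ge trivial)
  obtain ⟨q, hq, hqg⟩ := hg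
  have h0 : g = 0 := by
    have hu1 : IsUnit (1 - q) := IsLocalRing.isUnit_one_sub_self_of_mem_nonunits _
      ((IsLocalRing.mem_maximalIdeal q).mp hq)
    have : (1 - q) • g = 0 := by rw [sub_smul, one_smul, sub_eq_zero]; exact hqg.symm
    exact hu1.smul_eq_zero.mp this
  obtain ⟨W', hxW', i₁, i₂, h⟩ := L.presheaf.germ_eq x hxW hxW e 0 (h0.trans (map_zero _).symm)
  have he0 : res L i₁.le e = 0 := by
    refine Eq.trans ?_ (map_zero (L.presheaf.map i₂.op).hom)
    exact h
  have h10 : (1 : Γ(X, W')) = 0 := (he.res i₁.le).smul_inj le_rfl (by simp [he0])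
  have := (X.mem_basicOpen' (1 : Γ(X, W')) ⟨x, hxW'⟩).mpr (by rw [map_one]; exact isUnit_one)
  rw [h10, Scheme.basicOpen_zero] at this
  exact this

/-- the structure map into a chart -/
def baseMap (i : Fin (n + 1)) : R →+* Γ(X, U L s i) := (resX X le_top).comp (ProjUP.toGlobal q)

/-- the chart homomorphism -/
def α (i : Fin (n + 1)) : Away ℙg (MvPolynomial.X i) →+* Γ(X, U L s i) :=
  chart i (baseMap q L s i) (c L s i) (c_self L s i)

/-- the local morphism -/
def rU (i : Fin (n + 1)) : (U L s i).toScheme ⟶ CohB1.ProjSpace n R :=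
  (U L s i).toSpecΓ ≫ Spec.map (CommRingCat.ofHom (α q L s i)) ≫ Proj.awayι ℙg _ (X_mem i) one_pos

theorem rU_compat (i j : Fin (n + 1)) :
    X.homOfLE (inf_le_left : U L s i ⊓ U L s j ≤ U L s i) ≫ rU q L s i =
      X.homOfLE (inf_le_right : U L s i ⊓ U L s j ≤ U L s j) ≫ rU q L s j := by
  set V := U L s i ⊓ U L s j
  rw [rU, rU, ← Scheme.Opens.toSpecΓ_SpecMap_presheaf_map_assoc V (U L s i) inf_le_left,
    ← Scheme.Opens.toSpecΓ_SpecMap_presheaf_map_assoc V (U L s j) inf_le_right, ← Spec.map_comp_assoc,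
    ← Spec.map_comp_assoc]
  congr 1
  have hbase : ∀ (k : Fin (n + 1)) (h : V ≤ U L s k),
      (resX X h).comp (baseMap q L s k) = (resX X le_top).comp (ProjUP.toGlobal q) := fun k h =>
    RingHom.ext fun r => resX_resX le_top h _
  have key := chart_change (S := Γ(X, V)) (i := i) (j := j) ((resX X le_top).comp (ProjUP.toGlobal q))
    (resX X inf_le_left ∘ c L s i) (resX X inf_le_right ∘ c L s j) (by simp [c_self]) (by simp [c_self])
    (fun l => c_trans L s i j l V inf_le_left inf_le_right)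
  refine Eq.trans ?_ (key.trans ?_)
  · congr 2
    apply CommRingCat.hom_ext
    show (resX X inf_le_left).comp (α q L s i) = _
    rw [α, comp_chart]
    simp only [hbase i inf_le_left]
    rfl
  · congr 2
    apply CommRingCat.hom_ext
    show _ = (resX X inf_le_right).comp (α q L s j)
    rw [α, comp_chart]
    simp only [hbase j inf_le_right]
    rfl

theorem exists_r (hU : ⨆ i, U L s i = ⊤) :
    ∃ r : X ⟶ CohB1.ProjSpace n R, ∀ i, (U L s i).ι ≫ r = rU q L s i := by
  let cov : X.OpenCover := Scheme.openCoverOfIsOpenCover X (U L s) (TopologicalSpace.IsOpenCover.mk hU)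
  refine ⟨cov.glueMorphisms (fun i => rU q L s i) fun i j => ?_, fun i => cov.ι_glueMorphisms _ _ i⟩
  let V := U L s i ⊓ U L s j
  let e : pullback (U L s i).ι (U L s j).ι ⟶ V.toScheme := IsOpenImmersion.lift V.ι
    (Limits.pullback.fst _ _ ≫ (U L s i).ι) (by
      rintro _ ⟨z, rfl⟩
      rw [Scheme.Opens.range_ι]
      refine ⟨(Limits.pullback.fst (U L s i).ι (U L s j).ι z).2, ?_⟩
      rw [Limits.pullback.condition]
      exact (Limits.pullback.snd (U L s i).ι (U L s j).ι z).2)
  have he1 : e ≫ X.homOfLE inf_le_left = Limits.pullback.fst (U L s i).ι (U L s j).ι := by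
    rw [← cancel_mono (U L s i).ι, Category.assoc, X.homOfLE_ι, IsOpenImmersion.lift_fac]
  have he2 : e ≫ X.homOfLE inf_le_right = Limits.pullback.snd (U L s i).ι (U L s j).ι := by
    rw [← cancel_mono (U L s j).ι, Category.assoc, X.homOfLE_ι, IsOpenImmersion.lift_fac,
      Limits.pullback.condition]
  change Limits.pullback.fst (U L s i).ι (U L s j).ι ≫ rU q L s i =
    Limits.pullback.snd (U L s i).ι (U L s j).ι ≫ rU q L s j
  rw [← he1, ← he2, Category.assoc, Category.assoc, rU_compat]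

variable {q L s}

theorem r_toSpec {r : X ⟶ CohB1.ProjSpace n R} (hr : ∀ i, (U L s i).ι ≫ r = rU q L s i)
    (hU : ⨆ i, U L s i = ⊤) : r ≫ CohB1.ProjSpace.toSpec n R = q := by
  refine (Scheme.openCoverOfIsOpenCover X (U L s) (TopologicalSpace.IsOpenCover.mk hU)).hom_ext _ _ fun i => ?_
  change (U L s i).ι ≫ r ≫ CohB1.ProjSpace.toSpec n R = (U L s i).ι ≫ q
  rw [reassoc_of% (hr i), rU, Category.assoc, Category.assoc, CohB1.ProjSpace.toSpec]
  have h0 : Proj.awayι ℙg (MvPolynomial.X i : MvPolynomial (Fin (n + 1)) R) (X_mem i) one_pos ≫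
      Proj.toSpecZero ℙg = Spec.map (CommRingCat.ofHom (fromZeroRingHom ℙg _)) :=
    Proj.awayι_toSpecZero _ _ _ _
  refine (congrArg (fun t => (U L s i).toSpecΓ ≫ Spec.map (CommRingCat.ofHom (α q L s i)) ≫ t)
    ((Category.assoc _ _ _).symm.trans (congrArg (· ≫ _) h0))).trans ?_
  rw [← Spec.map_comp, ← Spec.map_comp]
  have : (CommRingCat.ofHom (algebraMap R (CohB1.polyGrading n R 0)) ≫
      CommRingCat.ofHom (fromZeroRingHom ℙg _)) ≫ CommRingCat.ofHom (α q L s i) =
        (Scheme.ΓSpecIso (CommRingCat.of R)).inv ≫ q.appTop ≫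
          X.presheaf.map (homOfLE (le_top : U L s i ≤ ⊤)).op := by
    apply CommRingCat.hom_ext
    refine RingHom.ext fun r₀ => ?_
    show α q L s i (fromZeroRingHom ℙg _ (algebraMap R (CohB1.polyGrading n R 0) r₀)) = _
    have he : fromZeroRingHom ℙg (Submonoid.powers (MvPolynomial.X i : MvPolynomial (Fin (n + 1)) R))
        (algebraMap R (CohB1.polyGrading n R 0) r₀) = Away.mk ℙg (X_mem i) 0 (MvPolynomial.C r₀)
          (by simpa using MvPolynomial.isHomogeneous_C _ r₀) := by
      apply val_injective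
      rw [Groth.Ega2P2.val_fromZero, Away.val_mk]
      exact congrArg₂ Localization.mk rfl (Subtype.ext (pow_zero _).symm)
    rw [he, α, chart_mk, MvPolynomial.eval₂_C]
    rfl
  rw [this, Spec.map_comp, Spec.map_comp, ← Category.assoc (U L s i).toSpecΓ,
    ← Category.assoc (U L s i).toSpecΓ, Scheme.Opens.toSpecΓ_SpecMap_presheaf_map_top, Category.assoc,
    Category.assoc, ← Scheme.toSpecΓ_naturality_assoc, toSpecΓ_SpecMap_ΓSpecIso_inv, Category.comp_id]

theorem preimage_D {r : X ⟶ Proj ℙg} (hr : ∀ i, (U L s i).ι ≫ r = rU q L s i)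
    (hU : ⨆ i, U L s i = ⊤) (i : Fin (n + 1)) :
    r ⁻¹ᵁ Proj.basicOpen ℙg (MvPolynomial.X i) = U L s i := by
  have hmem : ∀ (j : Fin (n + 1)) (z : (U L s j).toScheme),
      r ((U L s j).ι z) ∈ Proj.basicOpen ℙg (MvPolynomial.X i) ↔ (U L s j).ι z ∈ X.basicOpen (c L s j i) := by
    intro j z
    rw [← Scheme.Hom.comp_apply, hr j, rU]
    show z ∈ (U L s j).toSpecΓ ⁻¹ᵁ Spec.map (CommRingCat.ofHom (α q L s j)) ⁻¹ᵁ
      (Proj.awayι ℙg _ (X_mem j) one_pos ⁻¹ᵁ Proj.basicOpen ℙg (MvPolynomial.X i)) ↔ _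
    rw [Proj.awayι_preimage_basicOpen ℙg (X_mem j) one_pos (X_mem i) one_pos]
    have hval : α q L s j (Away.isLocalizationElem (X_mem j) (X_mem i)) = c L s j i := by
      have : Away.isLocalizationElem (X_mem (R := R) j) (X_mem i) = Away.mk ℙg (X_mem j) 1
          (MvPolynomial.X i) (by rw [one_smul]; exact X_mem i) := by
        apply val_injective
        simp
      rw [this, α, chart_mk, MvPolynomial.eval₂_X]
    have h2 : Spec.map (CommRingCat.ofHom (α q L s j)) ⁻¹ᵁ
        PrimeSpectrum.basicOpen (Away.isLocalizationElem (X_mem j) (X_mem i)) =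
          PrimeSpectrum.basicOpen (c L s j i) := by
      rw [← hval]; rfl
    rw [h2, Scheme.Opens.toSpecΓ_preimage_basicOpen]
    rfl
  ext x
  obtain ⟨j, hj⟩ := Opens.mem_iSup.mp (hU.ge (Set.mem_univ x))
  have h := hmem j ⟨x, hj⟩
  rw [← U_inf L s j i] at h
  exact h.trans ⟨fun h => h.1, fun h => ⟨h, hj⟩⟩

theorem appLE_awayToSection {r : X ⟶ Proj ℙg} (hr : ∀ i, (U L s i).ι ≫ r = rU q L s i)
    (i : Fin (n + 1)) (e : U L s i ≤ r ⁻¹ᵁ Proj.basicOpen ℙg (MvPolynomial.X i))
    (z : Away ℙg (MvPolynomial.X i)) :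
    r.appLE _ _ e (Proj.awayToSection ℙg (MvPolynomial.X i) z) = α q L s i z := by
  let D := Proj.basicOpen ℙg (MvPolynomial.X i)
  have h1 : r.resLE D (U L s i) e ≫ D.toSpecΓ ≫ Spec.map (Proj.awayToSection ℙg (MvPolynomial.X i)) =
      (U L s i).toSpecΓ ≫ Spec.map (CommRingCat.ofHom (α q L s i)) := by
    rw [← cancel_mono (Proj.awayι ℙg _ (X_mem i) one_pos)]
    have hι : (D.toSpecΓ ≫ Spec.map (Proj.awayToSection ℙg (MvPolynomial.X i))) ≫
        Proj.awayι ℙg _ (X_mem i) one_pos = D.ι := by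
      show Proj.basicOpenToSpec _ _ ≫ _ = _
      rw [← Proj.basicOpenIsoSpec_hom ℙg _ (X_mem i) one_pos, Proj.awayι, Iso.hom_inv_id_assoc]
    rw [Category.assoc]
    refine (congrArg (r.resLE D (U L s i) e ≫ ·) hι).trans ?_
    rw [Scheme.Hom.resLE_comp_ι, Category.assoc]
    exact hr i
  have h2 : r.resLE D (U L s i) e ≫ D.toSpecΓ = (U L s i).toSpecΓ ≫ Spec.map (r.appLE D (U L s i) e) := by
    rw [Scheme.Opens.toSpecΓ, Scheme.toSpecΓ_naturality_assoc, Scheme.Opens.toSpecΓ, Category.assoc,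
      ← Spec.map_comp, ← Spec.map_comp]
    congr 2
    rw [Scheme.Hom.appTop, Scheme.Hom.resLE_app_top]
    simp only [Scheme.Opens.topIso_inv, Category.assoc]
    erw [← Functor.map_comp_assoc]
    try simp
  rw [← Category.assoc, h2, Category.assoc, ← Spec.map_comp] at h1
  have h3 := congrArg (fun t => t.appTop) h1
  simp only [Scheme.Hom.comp_appTop, Scheme.Opens.toSpecΓ_appTop] at h3
  rw [← Category.assoc, ← Category.assoc, Scheme.ΓSpecIso_naturality,
    Scheme.ΓSpecIso_naturality] at h3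
  simp only [Category.assoc] at h3
  have h4 := (cancel_epi (Scheme.ΓSpecIso (CommRingCat.of (Away ℙg (MvPolynomial.X i)))).hom).mp h3
  rw [← Category.assoc] at h4
  have h5 := (cancel_mono (U L s i).topIso.inv).mp h4
  exact ConcreteCategory.congr_hom h5 z

theorem irrelevant_le_span_X : (HomogeneousIdeal.irrelevant ℙg).toIdeal ≤
    Ideal.span (Set.range fun k : Fin (n + 1) => (MvPolynomial.X k : MvPolynomial (Fin (n + 1)) R)) := by
  intro p hp
  have hp0 : MvPolynomial.coeff 0 p = 0 := by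
    have h := (HomogeneousIdeal.mem_irrelevant_iff _ _).mp hp
    rw [GradedRing.proj_apply] at h
    have h' : MvPolynomial.homogeneousComponent 0 p = 0 :=
      (MvPolynomial.decomposition.decompose'_apply p 0).symm.trans h
    rw [MvPolynomial.homogeneousComponent_zero] at h'
    exact MvPolynomial.C_injective _ _ (h'.trans (map_zero _).symm)
  rw [← Set.image_univ]
  refine (MvPolynomial.mem_ideal_span_X_image).mpr fun d hd => ?_
  by_contra hne
  push Not at hne
  have : d = 0 := Finsupp.ext fun l => hne l (Set.mem_univ l)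
  subst this
  exact MvPolynomial.mem_support_iff.mp hd hp0

theorem twist_isInvertible : PicF.IsInvertible (Twist.twistProjSpace n R 1) := by
  refine Groth.Ega2Proj.isInvertible_twist ?_ 1
  refine le_trans ?_ (Ideal.span_mono (by rintro _ ⟨i, rfl⟩; exact X_mem i :
    Set.range (fun i : Fin (n + 1) => (MvPolynomial.X i : MvPolynomial (Fin (n + 1)) R)) ⊆ _))
  exact irrelevant_le_span_X

/-- `O(1)` as a module on `Proj` -/
abbrev O1 (n : ℕ) (R : Type u) [CommRing R] : (Proj (CohB1.polyGrading n R)).Modules :=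
  Twist.twist (CohB1.polyGrading n R) 1

/-- the coordinates as sections of `O1` -/
abbrev co (n : ℕ) (R : Type u) [CommRing R] (i : Fin (n + 1)) : Γ(O1 n R, ⊤) := ProjUP.coord n R i

theorem res_coord (i l : Fin (n + 1)) :
    Gen (O1 n R) (Proj.basicOpen ℙg (MvPolynomial.X i)) (res _ le_top (co n R i)) ∧
    res (O1 n R) (le_top : Proj.basicOpen ℙg (MvPolynomial.X i) ≤ ⊤) (co n R l) =
      (Proj.awayToSection ℙg (MvPolynomial.X i)) (Away.mk ℙg (X_mem i) 1 (MvPolynomial.X l)
        (by rw [one_smul]; exact X_mem l)) • res _ le_top (co n R i) := by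
  have hval : ∀ (k : Fin (n + 1)) (x : ProjectiveSpectrum ℙg) (hx : x ∈ (⊤ : (Proj ℙg).Opens)),
      Groth.Ega2Proj.wval (co n R k) x hx =
        algebraMap (MvPolynomial (Fin (n + 1)) R) (Twist.Loc ℙg x) (MvPolynomial.X k) := fun k x hx =>
    Localization.mk_one_eq_algebraMap (MvPolynomial.X k)
  refine ⟨?_, ?_⟩
  · have : res _ le_top (ProjUP.coord n R i) =
        Groth.Ega2Proj.pwSec (N := 1) (X_mem i) 1 (by simp) (U := Proj.basicOpen ℙg (MvPolynomial.X i))
          (fun x hx => hx) := Groth.Ega2Proj.wval_ext fun x hx => by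
      refine (Groth.Ega2Proj.wval_res _ _ x hx).trans ((hval i x trivial).trans ?_)
      refine Eq.trans ?_ (Groth.Ega2Proj.wval_pwSec _ _ _ _ x hx).symm
      rw [zpow_one, Groth.Ega2Proj.coe_funit]
    exact this ▸ Groth.Ega2Proj.gen_pwSec _ _ _ _
  · refine Groth.Ega2Proj.wval_ext fun x hx => ?_
    refine (Groth.Ega2Proj.wval_res _ _ x hx).trans ?_
    refine Eq.trans ?_ (Groth.Ega2Proj.wval_smul _ _ x hx).symm
    rw [hval, Groth.Ega2Proj.wval_res, hval]
    erw [ProjectiveSpectrum.Proj.awayToSection_apply]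
    rw [Away.val_mk, Localization.mk_eq_mk', IsLocalization.map_mk', ← IsLocalization.mk'_one
      (M := x.asHomogeneousIdeal.toIdeal.primeCompl) (Twist.Loc ℙg x),
      ← IsLocalization.mk'_one (M := x.asHomogeneousIdeal.toIdeal.primeCompl) (Twist.Loc ℙg x)
        (MvPolynomial.X i), ← IsLocalization.mk'_mul, IsLocalization.mk'_eq_iff_eq]
    simp
    ring

theorem exists_tau {r : X ⟶ Proj ℙg} (hr : ∀ i, (U L s i).ι ≫ r = rU q L s i)
    (hU : ⨆ i, U L s i = ⊤) :
    ∃ τ : (Scheme.Modules.pullback r).obj (O1 n R) ≅ L,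
      ∀ l, τ.hom.app ⊤ (ProjUP.pullSec r (O1 n R) (co n R l)) = s l := by
  let M := O1 n R
  let D := fun i : Fin (n + 1) => Proj.basicOpen ℙg (MvPolynomial.X i)
  let V : Fin (n + 1) → X.Opens := fun i => r ⁻¹ᵁ D i
  have hVU : ∀ i, V i ≤ U L s i := fun i => (preimage_D hr hU i).le
  have hUV : ∀ i, U L s i ≤ V i := fun i => (preimage_D hr hU i).ge
  have hV : iSup V = ⊤ := top_le_iff.mp (hU.ge.trans (iSup_mono hUV))
  let P : ∀ i, Γ((Scheme.Modules.pullback r).obj M, V i) := fun i =>
    pullSec r M (res M le_top (co n R i))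
  have hP : ∀ i, Gen _ (V i) (P i) := fun i => Gen.pull r (res_coord i i).1
  have hPl : ∀ i l, res _ (le_top : V i ≤ ⊤)
      (ProjUP.pullSec r M (co n R l) : Γ((Scheme.Modules.pullback r).obj M, ⊤)) =
        resX X (hVU i) (c L s i l) • P i := by
    intro i l
    have h1 : res _ (le_top : V i ≤ ⊤)
        (ProjUP.pullSec r M (co n R l) : Γ((Scheme.Modules.pullback r).obj M, ⊤)) =
          pullSec r M (res M le_top (co n R l)) := res_pullSec r M le_top _
    rw [h1, (res_coord i l).2, pullSec_smul]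
    congr 1
    have h2 := appLE_awayToSection hr i (hUV i) (Away.mk ℙg (X_mem i) 1 (MvPolynomial.X l)
      (by rw [one_smul]; exact X_mem l))
    rw [α, chart_mk, MvPolynomial.eval₂_X] at h2
    rw [← h2, Scheme.Hom.appLE, CommRingCat.comp_apply]
    refine Eq.trans ?_ (resX_resX (hUV i) (hVU i) _).symm
    exact (resX_self _ _).symm
  let T : ∀ i, Γ(L, V i) := fun i => res L le_top (s i)
  have hT : ∀ i, Gen L (V i) (T i) := fun i => by
    have := (gen_U L s i).res (hVU i)
    rwa [res_res] at this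
  have hs : ∀ i l, res L (le_top : V i ≤ ⊤) (s l) = resX X (hVU i) (c L s i l) • T i := by
    intro i l
    have := congrArg (res L (hVU i)) (c_spec L s i l)
    rwa [res_smul, res_res, res_res] at this
  obtain ⟨e, he⟩ := exists_iso_of_gen hV P hP T hT fun i j a ha => by
    have hP' := congrArg (res _ (inf_le_right : V i ⊓ V j ≤ V j)) (hPl j i)
    have hPi := congrArg (res _ (inf_le_left : V i ⊓ V j ≤ V i)) (hPl i i)
    simp only [c_self, map_one, one_smul, res_res, res_smul] at hP' hPi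
    rw [hPi] at hP'
    rw [hP'] at ha
    have hA := ((hP j).res (inf_le_right : V i ⊓ V j ≤ V j)).smul_inj le_rfl
      (r := _) (r' := a) (by simpa using ha)
    have hS := congrArg (res L (inf_le_right : V i ⊓ V j ≤ V j)) (hs j i)
    rw [res_res, res_smul] at hS
    show res L inf_le_left (res L le_top (s i)) = _
    rw [res_res, hS, ← hA, resX_resX]
  refine ⟨e, fun l => res_ext V (fun _ => le_top) hV.ge fun i => ?_⟩
  rw [← app_res, hPl i l, Scheme.Modules.Hom.app_smul, he, hs]

end

end Groth.Chow.ToPn
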