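import Groth.Agent.Chow.ProjPoints
import Groth.Agent.Ega2Proj2.ProjMaps

/-! Projective spaces as disjoint linear subspaces of one projective space. -/

set_option linter.style.haveILetI false
universe u

open CategoryTheory CategoryTheory.Limits AlgebraicGeometry TopologicalSpace
open scoped HomogeneousIdeal

namespace Groth.Chow

noncomputable section

variable {n M : ℕ} (b : Fin (n + 1) → Fin (M + 1)) (hb : Function.Injective b)

open Classical in
/-- the images of the variables -/
def linVar (l : Fin (M + 1)) : MvPolynomial (Fin (n + 1)) Z.{u} :=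
  if h : ∃ j, b j = l then MvPolynomial.X h.choose else 0

theorem linVar_mem (l : Fin (M + 1)) : linVar.{u} b l ∈ pg.{u} n 1 := by
  unfold linVar
  split_ifs
  · exact X_mem _
  · exact zero_mem _

include hb in
theorem linVar_apply (j : Fin (n + 1)) : linVar.{u} b (b j) = MvPolynomial.X j := by
  have h : ∃ j', b j' = b j := ⟨j, rfl⟩
  rw [linVar, dif_pos h, hb h.choose_spec]

/-- the graded map of a linear embedding -/
def linHom : pg.{u} M →+*ᵍ pg.{u} n :=
  { (MvPolynomial.eval₂Hom MvPolynomial.C (linVar b) :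
      MvPolynomial (Fin (M + 1)) Z.{u} →+* MvPolynomial (Fin (n + 1)) Z.{u}) with
    map_mem := fun {d p} hp => by
      have hp' : MvPolynomial.IsHomogeneous p d := by simpa using hp
      show MvPolynomial.IsHomogeneous (MvPolynomial.eval₂ MvPolynomial.C (linVar b) p) d
      have h := hp'.eval₂ MvPolynomial.C (linVar b)
        (fun r => MvPolynomial.isHomogeneous_C _ r) (fun l => linVar_mem b l)
      simpa using h }

theorem linHom_X (l : Fin (M + 1)) : linHom.{u} b (MvPolynomial.X l) = linVar b l :=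
  MvPolynomial.eval₂_X _ _ l

include hb in
theorem linHom_surjective : Function.Surjective (linHom.{u} b) := by
  intro p
  induction p using MvPolynomial.induction_on with
  | C c => exact ⟨MvPolynomial.C c, MvPolynomial.eval₂_C _ _ _⟩
  | add p q hp hq =>
    obtain ⟨p', rfl⟩ := hp
    obtain ⟨q', rfl⟩ := hq
    exact ⟨p' + q', map_add _ _ _⟩
  | mul_X p j hp =>
    obtain ⟨p', rfl⟩ := hp
    exact ⟨p' * MvPolynomial.X (b j), by rw [map_mul, linHom_X, linVar_apply b hb]⟩

include hb in
theorem linHom_irrelevant : (pg.{u} n)₊ ≤ ((pg.{u} M)₊).map (linHom.{u} b) := by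
  intro p hp
  refine (Ideal.span_le.mpr ?_) (irrelevant_le_span.{u} n hp)
  rintro _ ⟨j, rfl⟩
  show MvPolynomial.X j ∈ Ideal.map (linHom.{u} b) ((pg.{u} M)₊).toIdeal
  rw [← linVar_apply b hb, ← linHom_X]
  exact Ideal.mem_map_of_mem _ (HomogeneousIdeal.mem_irrelevant_of_mem _ one_pos (X_mem _))

/-- The linear embedding `P^n_ℤ ⟶ P^M_ℤ`. -/
def linZ : CohB1.ProjSpace n Z.{u} ⟶ CohB1.ProjSpace M Z.{u} :=
  Proj.map (linHom b) (linHom_irrelevant b hb)

theorem isClosedImmersion_linZ : IsClosedImmersion (linZ.{u} b hb) :=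
  Groth.Ega2P2.isClosedImmersion_projMap (linHom b) (linHom_irrelevant b hb) (N := 0)
    (Groth.Ega2P2.eventually_surj_of_surjective _ (linHom_surjective b hb))

/-- The linear embedding `P^n_S ⟶ P^M_S`. -/
def linS (S : Scheme.{u}) : CohB1.ProjSpaceOver n S ⟶ CohB1.ProjSpaceOver M S :=
  pullback.map _ _ _ _ (linZ b hb) (𝟙 _) (𝟙 _) (specULiftZIsTerminal.hom_ext _ _) (by simp)

theorem linS_toBase (S : Scheme.{u}) :
    linS b hb S ≫ CohB1.ProjSpaceOver.toBase M S = CohB1.ProjSpaceOver.toBase n S :=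
  (pullback.lift_snd _ _ _).trans (Category.comp_id _)

theorem isClosedImmersion_linS (S : Scheme.{u}) : IsClosedImmersion (linS b hb S) :=
  MorphismProperty.pullbackMap (P := @IsClosedImmersion) (isClosedImmersion_linZ b hb)
    (MorphismProperty.id_mem _ _) (specULiftZIsTerminal.hom_ext _ _) (Category.id_comp _).symm

theorem mem_range_of_linZ (y : CohB1.ProjSpace n Z.{u}) (l : Fin (M + 1))
    (h : linZ.{u} b hb y ∈ (qι.{u} l).opensRange) : l ∈ Set.range b := by
  by_contra hl
  have h1 : (qι.{u} l).opensRange = Proj.basicOpen (pg.{u} M) (MvPolynomial.X l) :=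
    Proj.opensRange_awayι (pg.{u} M) _ (X_mem l) one_pos
  rw [h1] at h
  have h2 : y ∈ Proj.map (linHom b) (linHom_irrelevant b hb) ⁻¹ᵁ
      Proj.basicOpen (pg.{u} M) (MvPolynomial.X l) := h
  rw [Proj.map_preimage_basicOpen, linHom_X, linVar, dif_neg (fun ⟨j, hj⟩ => hl ⟨j, hj⟩),
    Proj.basicOpen_zero] at h2
  exact h2

theorem disjoint_range_linS {n' : ℕ} (b' : Fin (n' + 1) → Fin (M + 1)) (hb' : Function.Injective b')
    (hd : Disjoint (Set.range b) (Set.range b')) (S : Scheme.{u}) :
    Disjoint (Set.range (linS b hb S)) (Set.range (linS b' hb' S)) := by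
  rw [Set.disjoint_left]
  rintro _ ⟨y, rfl⟩ ⟨y', hy'⟩
  let z : CohB1.ProjSpace M Z.{u} :=
    pullback.fst (CohB1.ProjSpace.toSpec M Z.{u}) (specULiftZIsTerminal.from S) (linS b hb S y)
  have e : ∀ {n : ℕ} (b : Fin (n + 1) → Fin (M + 1)) (hb : Function.Injective b)
      (y : CohB1.ProjSpaceOver n S),
      pullback.fst (CohB1.ProjSpace.toSpec M Z.{u}) (specULiftZIsTerminal.from S) (linS b hb S y) =
        linZ b hb (pullback.fst (CohB1.ProjSpace.toSpec _ Z.{u}) (specULiftZIsTerminal.from S) y) := fun b hb y =>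
    congrArg (fun t => t.base y) (show linS b hb S ≫ pullback.fst _ _ = pullback.fst _ _ ≫ linZ b hb from
      pullback.lift_fst _ _ _)
  obtain ⟨l, w, hw⟩ := (Proj.affineOpenCoverOfIrrelevantLESpan (pg.{u} M)
    (fun k : Fin (M + 1) => (MvPolynomial.X k : MvPolynomial (Fin (M + 1)) Z.{u})) (m := fun _ => 1)
    (fun k => X_mem k) (fun _ => one_pos) (irrelevant_le_span.{u} M)).openCover.exists_eq z
  have hl : z ∈ (qι.{u} l).opensRange := ⟨w, hw⟩
  have h1 := mem_range_of_linZ b hb _ l ((e b hb y).subst (motive := fun t => t ∈ (qι.{u} l).opensRange) hl)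
  have hl' : pullback.fst (CohB1.ProjSpace.toSpec M Z.{u}) (specULiftZIsTerminal.from S) (linS b' hb' S y') ∈
      (qι.{u} l).opensRange := by rw [hy']; exact hl
  have h2 := mem_range_of_linZ b' hb' _ l ((e b' hb' y').subst (motive := fun t => t ∈ (qι.{u} l).opensRange) hl')
  exact Set.disjoint_left.mp hd h1 h2

end

end Groth.Chow
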