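import Groth.Agent.Chow.Core
import Groth.Agent.Chow.AffineImm
import Groth.Agent.Chow.LinEmb

/-! Chow's lemma for separated finite type morphisms over a quasi-compact quasi-separated base. -/

set_option linter.style.haveILetI false
universe u

open CategoryTheory CategoryTheory.Limits AlgebraicGeometry TopologicalSpace

namespace Groth.Chow

noncomputable section

/-- the stratum-wise Chow lemma -/
theorem exists_chow_stratum {X S : Scheme.{u}} (f : X ⟶ S) [IsSeparated f] [LocallyOfFiniteType f]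
    [CompactSpace X] [QuasiSeparatedSpace X] {k : ℕ} (V : Fin k → X.Opens)
    (hVaff : ∀ i, IsAffineOpen (V i)) (hV : ⨆ i, V i = ⊤) (T : Finset (Fin k)) :
    ∃ (N : ℕ) (X' : Scheme.{u}) (π : X' ⟶ X) (j : X' ⟶ CohB1.ProjSpaceOver N S),
      IsImmersion j ∧ j ≫ CohB1.ProjSpaceOver.toBase N S = π ≫ f ∧ IsProper π ∧
      ∀ x : X, (∀ i, x ∈ V i ↔ i ∈ T) → x ∈ Set.range π := by
  classical
  let Z : Closeds X := ⟨(⋃ i ∈ (Tᶜ : Finset (Fin k)), (V i : Set X))ᶜ,
    (isOpen_biUnion fun i _ => (V i).isOpen).isClosed_compl⟩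
  let I := Scheme.IdealSheafData.vanishingIdeal Z
  let ι : I.subscheme ⟶ X := I.subschemeι
  have hrange : Set.range ι = (Z : Set X) := by
    rw [Scheme.IdealSheafData.range_subschemeι, Scheme.IdealSheafData.coe_support_vanishingIdeal]
  haveI : IsClosedImmersion ι :=
    IsClosedImmersion.of_isPreimmersion ι (by rw [hrange]; exact Z.isClosed)
  haveI : CompactSpace I.subscheme := QuasiCompact.compactSpace_of_compactSpace ι
  haveI : QuasiSeparatedSpace I.subscheme := quasiSeparatedSpace_of_quasiSeparated ι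
  let V' : Fin T.card → I.subscheme.Opens := fun a => ι ⁻¹ᵁ V (T.equivFin.symm a)
  have hV' : ⨆ a, V' a = ⊤ := by
    refine top_le_iff.mp fun z _ => ?_
    obtain ⟨i, hi⟩ := Opens.mem_iSup.mp (hV.ge (Set.mem_univ (ι z)))
    have hz : ι z ∈ (Z : Set X) := hrange ▸ Set.mem_range_self z
    have hiT : i ∈ T := by
      by_contra h
      exact hz (Set.mem_biUnion (Finset.mem_compl.mpr h) hi)
    refine Opens.mem_iSup.mpr ⟨T.equivFin ⟨i, hiT⟩, ?_⟩
    show ι z ∈ V (T.equivFin.symm (T.equivFin ⟨i, hiT⟩))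
    rw [Equiv.symm_apply_apply]
    exact hi
  have hemb : ∀ a, ∃ (m : ℕ) (e : (V' a).toScheme ⟶ CohB1.ProjSpaceOver m S),
      IsImmersion e ∧ e ≫ CohB1.ProjSpaceOver.toBase m S = (V' a).ι ≫ ι ≫ f := fun a => by
    haveI : IsAffine (V (T.equivFin.symm a) : X.Opens).toScheme := hVaff _
    obtain ⟨m, e, he, heb⟩ := exists_immersion_projSpaceOver ((V (T.equivFin.symm a)).ι ≫ f)
    refine ⟨m, (ι ∣_ V (T.equivFin.symm a)) ≫ e, inferInstance, ?_⟩
    rw [Category.assoc, heb, morphismRestrict_ι_assoc]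
  choose m e he heb using hemb
  have hU : IsCompact ((Finset.univ.inf V' : I.subscheme.Opens) : Set I.subscheme) := by
    suffices ∀ s : Finset (Fin T.card), IsCompact ((s.inf V' : I.subscheme.Opens) : Set I.subscheme) from
      this _
    intro s
    induction s using Finset.induction with
    | empty => simp [CompactSpace.isCompact_univ]
    | insert a s _ ih =>
      rw [Finset.inf_insert, Opens.coe_inf]
      exact QuasiSeparatedSpace.inter_isCompact _ _ (V' a).isOpen
        ((hVaff _).preimage ι).isCompact (s.inf V').isOpen ih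
  obtain ⟨N, X', π, j, hj, hjb, hπ, hiso, -⟩ :=
    chow_core (ι ≫ f) V' hV' m e he heb (Finset.univ.inf V') hU
      fun a => Finset.inf_le (Finset.mem_univ a)
  refine ⟨N, X', π ≫ ι, j, hj, by rw [hjb, Category.assoc], inferInstance, fun x hx => ?_⟩
  obtain ⟨z, hz⟩ : x ∈ Set.range ι := by
    rw [hrange]
    intro hxu
    obtain ⟨i, hi, hxi⟩ := Set.mem_iUnion₂.mp hxu
    exact Finset.mem_compl.mp hi ((hx i).mp hxi)
  have hzU : z ∈ Finset.univ.inf V' := by
    suffices ∀ s : Finset (Fin T.card), z ∈ s.inf V' from this _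
    intro s
    induction s using Finset.induction with
    | empty => simp
    | insert a s _ ih =>
      rw [Finset.inf_insert]
      refine ⟨?_, ih⟩
      show ι z ∈ V _
      rw [hz]
      exact (hx _).mpr (T.equivFin.symm a).2
  obtain ⟨w, hw⟩ := (π ∣_ Finset.univ.inf V').homeomorph.surjective ⟨z, hzU⟩
  refine ⟨(π ⁻¹ᵁ Finset.univ.inf V').ι w, ?_⟩
  have : π ((π ⁻¹ᵁ Finset.univ.inf V').ι w) = z := by
    have h1 := congrArg (fun t => t.base w) (morphismRestrict_ι π (Finset.univ.inf V'))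
    exact h1.symm.trans (congrArg (Finset.univ.inf V').ι hw)
  show ι (π _) = x
  rw [this, hz]

/-- A finite family of immersions with disjoint images in closed sets gives an immersion of the coproduct. -/
theorem isImmersion_sigmaDesc {κ : Type u} [Finite κ] {Y : κ → Scheme.{u}} {P : Scheme.{u}}
    (g : ∀ t, Y t ⟶ P) [∀ t, IsImmersion (g t)] (K : κ → Set P) (hK : ∀ t, IsClosed (K t))
    (hgK : ∀ t, Set.range (g t) ⊆ K t) (hd : Pairwise fun s t => Disjoint (K s) (K t)) :
    IsImmersion (Sigma.desc g) := by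
  classical
  have hι : ∀ t y, Sigma.desc g (Sigma.ι Y t y) = g t y := fun t y =>
    congrArg (fun h : Y t ⟶ P => h.base y) (Sigma.ι_desc g t)
  let R : κ → P.Opens := fun t => (g t).coborderRange ⊓
    ⟨(⋃ s ∈ {s | s ≠ t}, K s)ᶜ, (((Set.toFinite _).isClosed_biUnion fun s _ => hK s)).isOpen_compl⟩
  have hmem : ∀ t y, g t y ∈ R t := fun t y => by
    refine ⟨subset_coborder ⟨y, rfl⟩, ?_⟩
    intro h
    obtain ⟨s, hs, hys⟩ := Set.mem_iUnion₂.mp h
    exact Set.disjoint_left.mp (hd hs) hys (hgK t ⟨y, rfl⟩)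
  refine isImmersion_of_pieces _ R (fun x => ?_) fun t => ?_
  · obtain ⟨t, y, rfl⟩ := (sigmaOpenCover Y).exists_eq x
    exact ⟨t, (hι t y).symm ▸ hmem t y⟩
  · let Q := Sigma.desc g ⁻¹ᵁ R t
    have hQ : Set.range (Sigma.ι Y t) = Set.range Q.ι := by
      rw [Scheme.Opens.range_ι]
      ext x
      constructor
      · rintro ⟨y, rfl⟩
        show Sigma.desc g (Sigma.ι Y t y) ∈ R t
        rw [hι]; exact hmem t y
      · intro hx
        obtain ⟨s, y, rfl⟩ := (sigmaOpenCover Y).exists_eq x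
        by_cases hst : s = t
        · subst hst; exact ⟨y, rfl⟩
        · have hx' : g s y ∈ R t := hι s y ▸ hx
          exact (hx'.2 (Set.mem_biUnion hst (hgK s ⟨y, rfl⟩))).elim
    let eQ := IsOpenImmersion.isoOfRangeEq (Sigma.ι Y t) Q.ι hQ
    have heQ : eQ.hom ≫ Q.ι = Sigma.ι Y t := IsOpenImmersion.isoOfRangeEq_hom_fac _ _ _
    have hfac : (eQ.hom ≫ Sigma.desc g ∣_ R t) ≫ (R t).ι = g t := by
      rw [Category.assoc, morphismRestrict_ι, ← Category.assoc, heQ, Sigma.ι_desc]
    refine (MorphismProperty.cancel_left_of_respectsIso @IsClosedImmersion eQ.hom _).mp ?_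
    haveI : IsImmersion ((eQ.hom ≫ Sigma.desc g ∣_ R t) ≫ (R t).ι) := by rw [hfac]; infer_instance
    haveI : IsImmersion (eQ.hom ≫ Sigma.desc g ∣_ R t) := IsImmersion.of_comp _ (R t).ι
    refine IsClosedImmersion.of_isPreimmersion _ ?_
    have hr : Set.range (eQ.hom ≫ Sigma.desc g ∣_ R t) = (R t).ι ⁻¹' Set.range (g t) := by
      rw [← hfac]
      ext z
      constructor
      · rintro ⟨w, rfl⟩; exact ⟨w, rfl⟩
      · rintro ⟨w, hw⟩; exact ⟨w, (R t).ι.isOpenEmbedding.injective hw⟩
    rw [hr]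
    have hc : IsClosed ((g t).coborderRange.ι ⁻¹' Set.range (g t)) := isClosed_preimage_val_coborder
    have : (R t).ι ⁻¹' Set.range (g t) =
        (P.homOfLE (inf_le_left : R t ≤ (g t).coborderRange)) ⁻¹'
          ((g t).coborderRange.ι ⁻¹' Set.range (g t)) := by
      rw [← Set.preimage_comp]
      congr 1
      rw [← Scheme.homOfLE_ι P (inf_le_left : R t ≤ (g t).coborderRange)]
      rfl
    rw [this]
    exact hc.preimage (Scheme.Hom.continuous _)

theorem exists_chow_general {X S : Scheme.{u}} (f : X ⟶ S) [IsSeparated f] [LocallyOfFiniteType f]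
    [CompactSpace X] [QuasiSeparatedSpace X] :
    ∃ (N : ℕ) (X' : Scheme.{u}) (π : X' ⟶ X) (j : X' ⟶ CohB1.ProjSpaceOver N S),
      IsImmersion j ∧ j ≫ CohB1.ProjSpaceOver.toBase N S = π ≫ f ∧ IsProper π ∧ Surjective π := by
  classical
  have hb : ∀ x : X, ∃ U : X.Opens, IsAffineOpen U ∧ x ∈ U := fun x => by
    obtain ⟨_, ⟨U, hU, rfl⟩, hx, -⟩ :=
      X.isBasis_affineOpens.exists_subset_of_mem_open (Set.mem_univ x) isOpen_univ
    exact ⟨U, hU, hx⟩
  choose W hW hxW using hb
  obtain ⟨t, ht⟩ := CompactSpace.isCompact_univ.elim_finite_subcover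
    (fun x => (W x : Set X)) (fun x => (W x).isOpen) (fun x _ => Set.mem_iUnion.mpr ⟨x, hxW x⟩)
  let V : Fin t.card → X.Opens := fun i => W (t.equivFin.symm i)
  have hV : ⨆ i, V i = ⊤ := by
    refine top_le_iff.mp fun z _ => ?_
    obtain ⟨x, hx⟩ := Set.mem_iUnion.mp (ht (Set.mem_univ z))
    obtain ⟨hxt, hz⟩ := Set.mem_iUnion.mp hx
    exact Opens.mem_iSup.mpr ⟨t.equivFin ⟨x, hxt⟩, by simpa [V] using hz⟩
  choose N X' π j hj hjb hπ hsurj using fun T : ULift.{u} (Finset (Fin t.card)) =>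
    exists_chow_stratum f V (fun i => hW _) hV T.down
  let σ := Σ T : ULift.{u} (Finset (Fin t.card)), Fin (N T + 1)
  let eσ : Option σ ≃ Fin (Fintype.card σ + 1) :=
    (Fintype.equivFin (Option σ)).trans (finCongr Fintype.card_option)
  let b : ∀ T, Fin (N T + 1) → Fin (Fintype.card σ + 1) := fun T a => eσ (some ⟨T, a⟩)
  have hb' : ∀ T, Function.Injective (b T) := fun T a a' h => by
    exact eq_of_heq (Sigma.mk.inj (Option.some.inj (eσ.injective h))).2
  have hdisj : ∀ T T', T ≠ T' → Disjoint (Set.range (b T)) (Set.range (b T')) := by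
    intro T T' hne
    rw [Set.disjoint_left]
    rintro _ ⟨a, rfl⟩ ⟨a', ha'⟩
    exact hne (Sigma.mk.inj (Option.some.inj (eσ.injective ha'))).1.symm
  let L : ∀ T, CohB1.ProjSpaceOver (N T) S ⟶ CohB1.ProjSpaceOver (Fintype.card σ) S := fun T =>
    linS (b T) (hb' T) S
  haveI hLc : ∀ T, IsClosedImmersion (L T) := fun T => isClosedImmersion_linS _ _ _
  haveI hjL : ∀ T, IsImmersion (j T ≫ L T) := fun T => by
    haveI := hj T; infer_instance
  let J : ∐ X' ⟶ CohB1.ProjSpaceOver (Fintype.card σ) S := Sigma.desc fun T => j T ≫ L T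
  let piX : ∐ X' ⟶ X := Sigma.desc π
  haveI hJ : IsImmersion J := isImmersion_sigmaDesc _ (fun T => Set.range (L T))
    (fun T => (L T).isClosedEmbedding.isClosed_range)
    (fun T => by rintro _ ⟨y, rfl⟩; exact ⟨j T y, rfl⟩)
    fun T T' hne => disjoint_range_linS _ _ _ _ (hdisj T T' hne) S
  have hJb : J ≫ CohB1.ProjSpaceOver.toBase _ S = piX ≫ f := Sigma.hom_ext _ _ fun T => by
    rw [Sigma.ι_desc_assoc, Sigma.ι_desc_assoc, Category.assoc, linS_toBase, hjb]
  refine ⟨_, ∐ X', piX, J, hJ, hJb, ?_, ⟨fun x => ?_⟩⟩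
  · let pn : CohB1.ProjSpaceOver (Fintype.card σ) X ⟶ CohB1.ProjSpaceOver (Fintype.card σ) S :=
      pullback.lift (pullback.fst _ _) (CohB1.ProjSpaceOver.toBase _ X ≫ f)
        (specULiftZIsTerminal.hom_ext _ _)
    haveI := Groth.Variety2.isProper_projSpaceOver_toBase (Fintype.card σ) X
    let l : ∐ X' ⟶ CohB1.ProjSpaceOver (Fintype.card σ) X :=
      pullback.lift (J ≫ pullback.fst _ _) piX (specULiftZIsTerminal.hom_ext _ _)
    have hl : l ≫ CohB1.ProjSpaceOver.toBase _ X = piX := pullback.lift_snd _ _ _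
    have hlJ : l ≫ pn = J := by
      apply pullback.hom_ext
      · exact (Category.assoc _ _ _).trans ((congrArg (l ≫ ·) (pullback.lift_fst _ _ _)).trans
          (pullback.lift_fst _ _ _))
      · refine (Category.assoc _ _ _).trans ((congrArg (l ≫ ·) (pullback.lift_snd _ _ _)).trans ?_)
        exact ((Category.assoc _ _ _).symm.trans (congrArg (· ≫ f) hl)).trans hJb.symm
    haveI : IsImmersion (l ≫ pn) := by rw [hlJ]; infer_instance
    haveI : IsImmersion l := IsImmersion.of_comp l pn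
    have hclosed : IsClosed (Set.range l) := by
      have : Set.range l = ⋃ T, Set.range (Sigma.ι X' T ≫ l) := by
        ext z
        constructor
        · rintro ⟨x, rfl⟩
          obtain ⟨T, y, rfl⟩ := (sigmaOpenCover X').exists_eq x
          exact Set.mem_iUnion.mpr ⟨T, y, rfl⟩
        · intro hz
          obtain ⟨T, y, rfl⟩ := Set.mem_iUnion.mp hz
          exact ⟨Sigma.ι X' T y, rfl⟩
      rw [this]
      refine isClosed_iUnion_of_finite fun T => ?_
      haveI := hπ T
      haveI : IsProper ((Sigma.ι X' T ≫ l) ≫ CohB1.ProjSpaceOver.toBase _ X) := by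
        rw [Category.assoc, hl, Sigma.ι_desc]; infer_instance
      haveI : IsProper (Sigma.ι X' T ≫ l) := IsProper.of_comp _ (CohB1.ProjSpaceOver.toBase _ X)
      exact (Scheme.Hom.isClosedMap _).isClosed_range
    haveI : IsClosedImmersion l := IsClosedImmersion.of_isPreimmersion l hclosed
    rw [← hl]
    infer_instance
  · obtain ⟨y, hy⟩ := hsurj ⟨Finset.univ.filter fun i => x ∈ V i⟩ x fun i => by simp
    exact ⟨Sigma.ι X' _ y, (congrArg (fun h => h.base y) (Sigma.ι_desc π _)).trans hy⟩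

end

end Groth.Chow
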