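import Groth.Agent.Chow.ProjPoints

/-! The Segre morphism `P^n × P^m → P^(nm+n+m)`. -/

universe u

open CategoryTheory CategoryTheory.Limits AlgebraicGeometry

namespace Groth.Chow

noncomputable section

variable {n m : ℕ}

/-- indices of Segre coordinates -/
def pairIdx (n m : ℕ) : Fin (n + 1) × Fin (m + 1) ≃ Fin (n * m + n + m + 1) :=
  finProdFinEquiv.trans (finCongr (by ring))

variable {W : Scheme.{u}}

theorem exists_seg {i : Fin (n + 1)} {j : Fin (m + 1)} {R : Type u} [CommRing R]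
    (α : A.{u} n i →+* R) (β : A.{u} m j →+* R) :
    ∃ f : A.{u} (n * m + n + m) (pairIdx n m (i, j)) →+* R,
      ∀ l t, f (q (pairIdx n m (i, j)) (pairIdx n m (l, t))) = α (q i l) * β (q j t) := by
  obtain ⟨f, hf⟩ := exists_ringHom.{u} (pairIdx n m (i, j))
    (fun k => α (q i ((pairIdx n m).symm k).1) * β (q j ((pairIdx n m).symm k).2))
    (by simp [q_self])
  exact ⟨f, fun l t => by rw [hf, Equiv.symm_apply_apply]⟩

def seg {i : Fin (n + 1)} {j : Fin (m + 1)} {R : Type u} [CommRing R]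
    (α : A.{u} n i →+* R) (β : A.{u} m j →+* R) :
    A.{u} (n * m + n + m) (pairIdx n m (i, j)) →+* R :=
  (exists_seg α β).choose

theorem seg_q {i : Fin (n + 1)} {j : Fin (m + 1)} {R : Type u} [CommRing R]
    (α : A.{u} n i →+* R) (β : A.{u} m j →+* R) (l : Fin (n + 1)) (t : Fin (m + 1)) :
    seg α β (q (pairIdx n m (i, j)) (pairIdx n m (l, t))) = α (q i l) * β (q j t) :=
  (exists_seg α β).choose_spec l t

theorem comp_seg {i : Fin (n + 1)} {j : Fin (m + 1)} {R R' : Type u} [CommRing R] [CommRing R']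
    (f : R →+* R') (α : A.{u} n i →+* R) (β : A.{u} m j →+* R) :
    f.comp (seg α β) = seg (f.comp α) (f.comp β) := by
  refine ringHom_ext fun k => ?_
  obtain ⟨⟨l, t⟩, rfl⟩ := (pairIdx n m).surjective k
  simp [seg_q, RingHom.comp_apply]

theorem mor_seg_congr {i i' : Fin (n + 1)} {j j' : Fin (m + 1)}
    {α : A.{u} n i →+* Γ(W, ⊤)} {α' : A.{u} n i' →+* Γ(W, ⊤)}
    {β : A.{u} m j →+* Γ(W, ⊤)} {β' : A.{u} m j' →+* Γ(W, ⊤)}
    (hα : mor α = mor α') (hβ : mor β = mor β') : mor (seg α β) = mor (seg α' β') := by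
  rw [mor_eq_iff] at hα hβ ⊢
  intro k
  obtain ⟨⟨l, t⟩, rfl⟩ := (pairIdx n m).surjective k
  rw [seg_q, seg_q, seg_q]
  linear_combination (β' (q j' t) * β (q j j')) * hα l + α (q i l) * hβ t

theorem mor_seg_inj {i i' : Fin (n + 1)} {j j' : Fin (m + 1)}
    {α : A.{u} n i →+* Γ(W, ⊤)} {α' : A.{u} n i' →+* Γ(W, ⊤)}
    {β : A.{u} m j →+* Γ(W, ⊤)} {β' : A.{u} m j' →+* Γ(W, ⊤)}
    (h : mor (seg α β) = mor (seg α' β')) : mor α = mor α' ∧ mor β = mor β' := by
  rw [mor_eq_iff] at h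
  have H : ∀ l t, α' (q i' l) * β' (q j' t) * (α (q i i') * β (q j j')) = α (q i l) * β (q j t) := by
    intro l t
    have := h (pairIdx n m (l, t))
    rwa [seg_q, seg_q, seg_q] at this
  have hb : β' (q j' j) * β (q j j') = 1 := by
    have e1 := H i j
    have e2 := H i j'
    simp only [q_self, map_one, one_mul, mul_one] at e1 e2
    linear_combination -(β' (q j' j)) * e2 + e1
  have ha : α' (q i' i) * α (q i i') = 1 := by
    have e1 := H i j
    have e2 := H i' j
    simp only [q_self, map_one, one_mul, mul_one] at e1 e2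
    linear_combination -(α' (q i' i)) * e2 + e1
  constructor
  · rw [mor_eq_iff]; intro l
    have e := H l j
    simp only [q_self, map_one, mul_one] at e
    linear_combination e - (α' (q i' l) * α (q i i')) * hb
  · rw [mor_eq_iff]; intro t
    have e := H i t
    simp only [q_self, map_one, one_mul] at e
    linear_combination e - (β' (q j' t) * β (q j j')) * ha

theorem mor_homOf {N : ℕ} {k : Fin (N + 1)} (g : W ⟶ Spec (CommRingCat.of (A.{u} N k))) :
    mor (homOf g) = g ≫ qι k := by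
  rw [mor, ← Category.assoc, toSpecΓ_homOf]

/-- The standard cover of projective space. -/
def cov (N : ℕ) : (CohB1.ProjSpace N Z.{u}).AffineOpenCover :=
  Proj.affineOpenCoverOfIrrelevantLESpan (pg.{u} N)
    (fun k : Fin (N + 1) => (MvPolynomial.X k : MvPolynomial (Fin (N + 1)) Z.{u})) (m := fun _ => 1)
    (fun k => X_mem k) (fun _ => one_pos) (irrelevant_le_span N)

/-- `D₊(x_i) × D₊(y_j)` -/
abbrev segSrc (i : Fin (n + 1)) (j : Fin (m + 1)) : Scheme.{u} :=
  pullback (qι.{u} i ≫ CohB1.ProjSpace.toSpec n Z.{u}) (qι.{u} j ≫ CohB1.ProjSpace.toSpec m Z.{u})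

/-- the inclusion of `D₊(x_i) × D₊(y_j)` -/
def segF (i : Fin (n + 1)) (j : Fin (m + 1)) :
    segSrc.{u} i j ⟶ pullback (CohB1.ProjSpace.toSpec n Z.{u}) (CohB1.ProjSpace.toSpec m Z.{u}) :=
  pullback.map _ _ _ _ (qι i) (qι j) (𝟙 _) (Category.comp_id _) (Category.comp_id _)

theorem segF_fst (i : Fin (n + 1)) (j : Fin (m + 1)) :
    segF.{u} i j ≫ pullback.fst _ _ = pullback.fst _ _ ≫ qι i := pullback.lift_fst _ _ _

theorem segF_snd (i : Fin (n + 1)) (j : Fin (m + 1)) :
    segF.{u} i j ≫ pullback.snd _ _ = pullback.snd _ _ ≫ qι j := pullback.lift_snd _ _ _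

instance (i : Fin (n + 1)) (j : Fin (m + 1)) : IsOpenImmersion (segF.{u} i j) :=
  (Scheme.Pullback.openCoverOfLeftRight (cov.{u} n).openCover (cov.{u} m).openCover
    (CohB1.ProjSpace.toSpec n Z.{u}) (CohB1.ProjSpace.toSpec m Z.{u})).map_prop (i, j)

def segCover (n m : ℕ) :
    (pullback (CohB1.ProjSpace.toSpec n Z.{u}) (CohB1.ProjSpace.toSpec m Z.{u})).OpenCover where
  I₀ := Fin (n + 1) × Fin (m + 1)
  X x := segSrc x.1 x.2
  f x := segF x.1 x.2
  mem₀ := by
    rw [Scheme.presieve₀_mem_precoverage_iff]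
    refine ⟨fun z => ?_, fun x => inferInstanceAs (IsOpenImmersion (segF x.1 x.2))⟩
    obtain ⟨x, y, hy⟩ := (Scheme.Pullback.openCoverOfLeftRight (cov.{u} n).openCover (cov.{u} m).openCover
      (CohB1.ProjSpace.toSpec n Z.{u}) (CohB1.ProjSpace.toSpec m Z.{u})).exists_eq z
    exact ⟨x, y, hy⟩

/-- the Segre morphism on a chart -/
def segChart (i : Fin (n + 1)) (j : Fin (m + 1)) :
    segSrc.{u} i j ⟶ CohB1.ProjSpace (n * m + n + m) Z.{u} :=
  mor (seg (homOf (R := CommRingCat.of (A.{u} n i)) (pullback.fst _ _))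
    (homOf (R := CommRingCat.of (A.{u} m j)) (pullback.snd _ _)))

theorem comp_segChart {i : Fin (n + 1)} {j : Fin (m + 1)} (h : W ⟶ segSrc.{u} i j) :
    h ≫ segChart i j = mor (seg (homOf (R := CommRingCat.of (A.{u} n i)) (h ≫ pullback.fst _ _))
      (homOf (R := CommRingCat.of (A.{u} m j)) (h ≫ pullback.snd _ _))) := by
  rw [segChart, comp_mor, comp_seg, homOf_comp, homOf_comp]

theorem exists_segre (n m : ℕ) :
    ∃ σ : pullback (CohB1.ProjSpace.toSpec n Z.{u}) (CohB1.ProjSpace.toSpec m Z.{u}) ⟶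
        CohB1.ProjSpace (n * m + n + m) Z.{u}, Mono σ := by
  have hover : ∀ x y : Fin (n + 1) × Fin (m + 1),
      pullback.fst (segF.{u} x.1 x.2) (segF.{u} y.1 y.2) ≫ segChart x.1 x.2 =
        pullback.snd (segF.{u} x.1 x.2) (segF.{u} y.1 y.2) ≫ segChart y.1 y.2 := by
    intro x y
    have c := pullback.condition (f := segF.{u} x.1 x.2) (g := segF.{u} y.1 y.2)
    rw [comp_segChart, comp_segChart]
    refine mor_seg_congr ?_ ?_
    · rw [mor_homOf, mor_homOf, Category.assoc, Category.assoc, ← segF_fst, ← segF_fst,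
        ← Category.assoc, c, Category.assoc]
    · rw [mor_homOf, mor_homOf, Category.assoc, Category.assoc, ← segF_snd, ← segF_snd,
        ← Category.assoc, c, Category.assoc]
  let σ := (segCover.{u} n m).glueMorphisms (fun x => segChart x.1 x.2) hover
  refine ⟨σ, ⟨fun {V} g g' hg => ?_⟩⟩
  refine Scheme.hom_ext_of_forall _ _ fun v => ?_
  have fac : ∀ x : Fin (n + 1) × Fin (m + 1), segF.{u} x.1 x.2 ≫ σ = segChart x.1 x.2 := fun x =>
    (segCover.{u} n m).ι_glueMorphisms _ hover x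
  obtain ⟨(x : Fin (n + 1) × Fin (m + 1)), y, hy⟩ := (segCover.{u} n m).exists_eq (g.base v)
  obtain ⟨(x' : Fin (n + 1) × Fin (m + 1)), y', hy'⟩ := (segCover.{u} n m).exists_eq (g'.base v)
  let U : V.Opens := g ⁻¹ᵁ (segF.{u} x.1 x.2).opensRange ⊓ g' ⁻¹ᵁ (segF.{u} x'.1 x'.2).opensRange
  refine ⟨U, ⟨⟨y, hy⟩, ⟨y', hy'⟩⟩, ?_⟩
  let k := IsOpenImmersion.lift (segF.{u} x.1 x.2) (U.ι ≫ g) (by
    rintro _ ⟨w, rfl⟩; exact w.2.1)
  let k' := IsOpenImmersion.lift (segF.{u} x'.1 x'.2) (U.ι ≫ g') (by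
    rintro _ ⟨w, rfl⟩; exact w.2.2)
  have hk : k ≫ segF x.1 x.2 = U.ι ≫ g := IsOpenImmersion.lift_fac _ _ _
  have hk' : k' ≫ segF x'.1 x'.2 = U.ι ≫ g' := IsOpenImmersion.lift_fac _ _ _
  have he : k ≫ segChart x.1 x.2 = k' ≫ segChart x'.1 x'.2 := by
    rw [← fac, ← fac, ← Category.assoc, ← Category.assoc, hk, hk', Category.assoc, Category.assoc, hg]
  rw [comp_segChart, comp_segChart] at he
  obtain ⟨h1, h2⟩ := mor_seg_inj he
  rw [mor_homOf, mor_homOf] at h1 h2
  rw [← hk, ← hk']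
  apply pullback.hom_ext
  · simpa only [Category.assoc, segF_fst] using h1
  · simpa only [Category.assoc, segF_snd] using h2

theorem exists_segre_over (S : Scheme.{u}) (n m : ℕ) :
    ∃ φ : pullback (CohB1.ProjSpaceOver.toBase n S) (CohB1.ProjSpaceOver.toBase m S) ⟶
        CohB1.ProjSpaceOver (n * m + n + m) S,
      IsClosedImmersion φ ∧ φ ≫ CohB1.ProjSpaceOver.toBase (n * m + n + m) S =
        pullback.fst (CohB1.ProjSpaceOver.toBase n S) (CohB1.ProjSpaceOver.toBase m S) ≫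
          CohB1.ProjSpaceOver.toBase n S := by
  obtain ⟨σ, hσ⟩ := exists_segre.{u} n m
  let p₁ := pullback.fst (CohB1.ProjSpaceOver.toBase n S) (CohB1.ProjSpaceOver.toBase m S)
  let p₂ := pullback.snd (CohB1.ProjSpaceOver.toBase n S) (CohB1.ProjSpaceOver.toBase m S)
  let a : CohB1.ProjSpaceOver n S ⟶ CohB1.ProjSpace n Z.{u} := pullback.fst _ _
  let b : CohB1.ProjSpaceOver m S ⟶ CohB1.ProjSpace m Z.{u} := pullback.fst _ _
  let φ : pullback (CohB1.ProjSpaceOver.toBase n S) (CohB1.ProjSpaceOver.toBase m S) ⟶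
      CohB1.ProjSpaceOver (n * m + n + m) S :=
    pullback.lift (pullback.lift (p₁ ≫ a) (p₂ ≫ b) (specULiftZIsTerminal.hom_ext _ _) ≫ σ)
      (p₁ ≫ CohB1.ProjSpaceOver.toBase n S) (specULiftZIsTerminal.hom_ext _ _)
  have hb : φ ≫ CohB1.ProjSpaceOver.toBase (n * m + n + m) S =
      p₁ ≫ CohB1.ProjSpaceOver.toBase n S := pullback.lift_snd _ _ _
  refine ⟨φ, ?_, hb⟩
  let w : _ ⟶ pullback (CohB1.ProjSpace.toSpec n Z.{u}) (CohB1.ProjSpace.toSpec m Z.{u}) :=
    pullback.lift (p₁ ≫ a) (p₂ ≫ b) (specULiftZIsTerminal.hom_ext _ _)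
  have hw : φ ≫ pullback.fst _ _ = w ≫ σ := pullback.lift_fst _ _ _
  haveI : Mono φ := ⟨fun {V} g g' h => by
    have h1 : g ≫ w = g' ≫ w := by
      rw [← cancel_mono σ, Category.assoc, Category.assoc, ← hw]
      exact (Category.assoc _ _ _).symm.trans ((congrArg (· ≫ pullback.fst _ _) h).trans (Category.assoc _ _ _))
    have h2 : g ≫ p₁ ≫ CohB1.ProjSpaceOver.toBase n S = g' ≫ p₁ ≫ CohB1.ProjSpaceOver.toBase n S := by
      rw [← hb]
      exact (Category.assoc _ _ _).symm.trans ((congrArg (· ≫ _) h).trans (Category.assoc _ _ _))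
    have h3 : g ≫ p₂ ≫ CohB1.ProjSpaceOver.toBase m S = g' ≫ p₂ ≫ CohB1.ProjSpaceOver.toBase m S := by
      simp only [p₂, ← pullback.condition]
      exact h2
    have wfst : w ≫ pullback.fst _ _ = p₁ ≫ a := pullback.lift_fst _ _ _
    have wsnd : w ≫ pullback.snd _ _ = p₂ ≫ b := pullback.lift_snd _ _ _
    have ha : g ≫ p₁ ≫ a = g' ≫ p₁ ≫ a := by
      rw [← wfst, ← Category.assoc, ← Category.assoc, h1]
    have hb' : g ≫ p₂ ≫ b = g' ≫ p₂ ≫ b := by
      rw [← wsnd, ← Category.assoc, ← Category.assoc, h1]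
    apply pullback.hom_ext
    · exact pullback.hom_ext ((Category.assoc _ _ _).trans (ha.trans (Category.assoc _ _ _).symm))
        ((Category.assoc _ _ _).trans (h2.trans (Category.assoc _ _ _).symm))
    · exact pullback.hom_ext ((Category.assoc _ _ _).trans (hb'.trans (Category.assoc _ _ _).symm))
        ((Category.assoc _ _ _).trans (h3.trans (Category.assoc _ _ _).symm))⟩
  haveI := Groth.Variety2.isProper_projSpaceOver_toBase n S
  haveI := Groth.Variety2.isProper_projSpaceOver_toBase m S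
  haveI := Groth.Variety2.isProper_projSpaceOver_toBase (n * m + n + m) S
  haveI : IsProper (φ ≫ CohB1.ProjSpaceOver.toBase (n * m + n + m) S) := by
    rw [hb]; infer_instance
  haveI : IsProper φ := IsProper.of_comp φ (CohB1.ProjSpaceOver.toBase (n * m + n + m) S)
  exact (IsClosedImmersion.iff_isProper_and_mono φ).mpr ⟨inferInstance, inferInstance⟩

end

end Groth.Chow
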