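import Mathlib
import Groth.Agent.PicAux.FreeBasis
import Groth.Agent.PicAux.PushPull

/-!
# The norm along a morphism with finite locally free direct image
-/

universe u

open CategoryTheory AlgebraicGeometry Opposite TopologicalSpace

set_option backward.isDefEq.respectTransparency.types false

namespace Groth.Chow

open Groth.PicAux

variable {X' X : Scheme.{u}} (g : X' ⟶ X)

theorem app_resX {U V : X.Opens} (h : V ≤ U) (a : Γ(X, U)) :
    g.app V (resX X h a) = resX X' (g.preimage_mono h) (g.app U a) :=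
  congr($(g.naturality (homOfLE h).op) a)

/-- The functions on `g⁻¹V` as an algebra over the functions on `V`. -/
noncomputable abbrev secAlg (V : X.Opens) : Algebra Γ(X, V) Γ(X', g ⁻¹ᵁ V) := (g.app V).hom.toAlgebra

/-- A basis of `g_*O` over every open inside `W`. -/
def SecBasis (W : X.Opens) {n : ℕ} (b : Fin n → Γ(X', g ⁻¹ᵁ W)) : Prop :=
  ∀ (V : X.Opens) (h : V ≤ W), Function.Bijective fun r : Fin n → Γ(X, V) =>
    ∑ i, g.app V (r i) * resX X' (g.preimage_mono h) (b i)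

theorem exists_secBasis (hfree : FlatMod.IsFinLocFree ((Coh.push g).obj (Coh.structureModule X')))
    (x : X) : ∃ (W : X.Opens) (n : ℕ) (b : Fin n → Γ(X', g ⁻¹ᵁ W)), x ∈ W ∧ SecBasis g W b := by
  obtain ⟨W, n, s, hx, hs⟩ := exists_basis_of_isFinLocFree hfree x
  exact ⟨W, n, fun i => s i, hx, fun V h => hs V h⟩

variable {g}

theorem SecBasis.res {W : X.Opens} {n : ℕ} {b : Fin n → Γ(X', g ⁻¹ᵁ W)} (hb : SecBasis g W b)
    {W' : X.Opens} (h : W' ≤ W) : SecBasis g W' fun i => resX X' (g.preimage_mono h) (b i) := by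
  intro V hV
  simpa using hb V (hV.trans h)

theorem SecBasis.exists_basis {W : X.Opens} {n : ℕ} {b : Fin n → Γ(X', g ⁻¹ᵁ W)}
    (hb : SecBasis g W b) :
    letI := secAlg g W
    ∃ β : Module.Basis (Fin n) Γ(X, W) Γ(X', g ⁻¹ᵁ W), ∀ i, β i = b i := by
  letI := secAlg g W
  have h : Function.Bijective (Fintype.linearCombination Γ(X, W) b) := by
    convert hb W le_rfl using 1
    funext r
    simp [Fintype.linearCombination_apply, Algebra.smul_def]
    rfl
  refine ⟨Module.Basis.ofEquivFun (LinearEquiv.ofBijective _ h).symm, fun i => ?_⟩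
  rw [Module.Basis.coe_ofEquivFun]
  simp [Fintype.linearCombination_apply]

variable (g) in
/-- The norm of a function on `g⁻¹V`. -/
noncomputable def nm (V : X.Opens) : Γ(X', g ⁻¹ᵁ V) →* Γ(X, V) :=
  letI := secAlg g V
  Algebra.norm Γ(X, V)

theorem nm_app {V : X.Opens} {n : ℕ} {b : Fin n → Γ(X', g ⁻¹ᵁ V)} (hb : SecBasis g V b) (a : Γ(X, V)) :
    nm g V (g.app V a) = a ^ n := by
  letI := secAlg g V
  obtain ⟨β, -⟩ := hb.exists_basis
  exact (Algebra.norm_algebraMap_of_basis β a).trans (by rw [Fintype.card_fin])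

theorem resX_nm {W V : X.Opens} {n : ℕ} {b : Fin n → Γ(X', g ⁻¹ᵁ W)} (hb : SecBasis g W b)
    (h : V ≤ W) (c : Γ(X', g ⁻¹ᵁ W)) :
    resX X h (nm g W c) = nm g V (resX X' (g.preimage_mono h) c) := by
  classical
  letI := secAlg g W
  letI := secAlg g V
  obtain ⟨β, hβ⟩ := hb.exists_basis
  obtain ⟨γ, hγ⟩ := (hb.res h).exists_basis
  change resX X h (Algebra.norm Γ(X, W) c) = Algebra.norm Γ(X, V) (resX X' (g.preimage_mono h) c)
  rw [Algebra.norm_eq_matrix_det β, Algebra.norm_eq_matrix_det γ, RingHom.map_det]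
  congr 1
  refine Matrix.ext fun i j => ?_
  rw [Algebra.leftMulMatrix_eq_repr_mul]
  change resX X h (Algebra.leftMulMatrix β c i j) = _
  rw [Algebra.leftMulMatrix_eq_repr_mul]
  have e : resX X' (g.preimage_mono h) c * γ j =
      ∑ k, resX X h (β.repr (c * β j) k) • γ k := by
    rw [hγ, ← map_mul, ← hβ, ← β.sum_repr (c * β j), map_sum, β.sum_repr]
    refine Finset.sum_congr rfl fun k _ => ?_
    rw [Algebra.smul_def, Algebra.smul_def, map_mul, hγ]
    refine congr_arg₂ (· * ·) ?_ (by rw [hβ])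
    exact (app_resX g h _).symm
  rw [e, Module.Basis.repr_sum_self]

theorem isUnit_nm_iff {V : X.Opens} {n : ℕ} {b : Fin n → Γ(X', g ⁻¹ᵁ V)} (hb : SecBasis g V b)
    (c : Γ(X', g ⁻¹ᵁ V)) : IsUnit (nm g V c) ↔ IsUnit c := by
  letI := secAlg g V
  obtain ⟨β, -⟩ := hb.exists_basis
  refine ⟨fun h => ?_, fun h => h.map _⟩
  haveI := Module.Free.of_basis β
  haveI := Module.Finite.of_basis β
  have h1 : IsUnit (LinearMap.det (Algebra.lmul Γ(X, V) Γ(X', g ⁻¹ᵁ V) c)) := by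
    rwa [← Algebra.norm_apply]
  obtain ⟨u, hu⟩ := (LinearMap.isUnit_iff_isUnit_det _).2 h1
  have h2 : c * (↑u⁻¹ : Module.End Γ(X, V) Γ(X', g ⁻¹ᵁ V)) 1 = 1 := by
    have h3 := congr($(u.mul_inv) 1)
    rw [hu] at h3
    exact h3
  exact IsUnit.of_mul_eq_one _ h2

theorem secBasis_card_eq {V : X.Opens} {n m : ℕ} {b : Fin n → Γ(X', g ⁻¹ᵁ V)}
    {b' : Fin m → Γ(X', g ⁻¹ᵁ V)} (hb : SecBasis g V b) (hb' : SecBasis g V b') :
    n = m ∨ Subsingleton Γ(X, V) := by
  rcases subsingleton_or_nontrivial Γ(X, V) with h | h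
  · exact .inr h
  letI := secAlg g V
  obtain ⟨β, -⟩ := hb.exists_basis
  obtain ⟨γ, -⟩ := hb'.exists_basis
  exact .inl (by simpa using Fintype.card_congr (β.indexEquiv γ))

theorem secBasis_rank_pos {W : X.Opens} {n : ℕ} {b : Fin n → Γ(X', g ⁻¹ᵁ W)} (hb : SecBasis g W b)
    {y : X'} (hy : g y ∈ W) : 0 < n := by
  by_contra h
  obtain rfl : n = 0 := by omega
  obtain ⟨β, -⟩ := hb.exists_basis
  letI := secAlg g W
  haveI : Nonempty (g ⁻¹ᵁ W : X'.Opens) := ⟨⟨y, hy⟩⟩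
  haveI : Nontrivial Γ(X', g ⁻¹ᵁ W) := inferInstance
  obtain ⟨r, hr⟩ := (hb W le_rfl).2 1
  exact one_ne_zero (hr.symm.trans (Finset.sum_eq_zero fun i _ => i.elim0))

/-- Bases of `g_*O` restrict to the part of `g` over an open. -/
theorem SecBasis.restrict {W : X.Opens} {n : ℕ} {b : Fin n → Γ(X', g ⁻¹ᵁ W)} (hb : SecBasis g W b)
    (U : X.Opens) {V₀ : U.toScheme.Opens} (hV₀ : U.ι ''ᵁ V₀ ≤ W) :
    SecBasis (g ∣_ U) V₀ fun i => resX X'
      (show (g ⁻¹ᵁ U).ι ''ᵁ ((g ∣_ U) ⁻¹ᵁ V₀) ≤ g ⁻¹ᵁ W by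
        rw [image_morphismRestrict_preimage]; exact g.preimage_mono hV₀) (b i) := by
  intro V hV
  have h1 := hb (U.ι ''ᵁ V) ((U.ι.image_mono hV).trans hV₀)
  let e : Γ(X', g ⁻¹ᵁ (U.ι ''ᵁ V)) →+* Γ(X', (g ⁻¹ᵁ U).ι ''ᵁ ((g ∣_ U) ⁻¹ᵁ V)) :=
    resX X' (image_morphismRestrict_preimage g U V).le
  have he : Function.Bijective e := by
    refine Function.bijective_iff_has_inverse.2
      ⟨resX X' (image_morphismRestrict_preimage g U V).ge, fun a => ?_, fun a => ?_⟩ <;> simp [e]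
  refine (congrArg Function.Bijective (funext fun r => ?_)).mpr (he.comp h1)
  refine Eq.trans (Finset.sum_congr rfl fun i _ => ?_) (map_sum e _ _).symm
  rw [map_mul]
  refine congr_arg₂ (· * ·) ?_ ?_
  · exact congr($(morphismRestrict_app g U V) (r i))
  · change resX X' ((g ⁻¹ᵁ U).ι.image_mono ((g ∣_ U).preimage_mono hV)) (resX X' _ (b i)) =
      resX X' _ (resX X' _ (b i))
    exact (resX_resX _ _ _).trans (resX_resX _ _ _).symm

end Groth.Chow
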