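import Groth.Agent.Chow.AmpleTwist
import Groth.Agent.QCohMod.FiniteType

/-! Sections of quasi-coherent modules extend after twisting; Serre's global generation theorem. -/

universe u

open CategoryTheory CategoryTheory.Limits AlgebraicGeometry Opposite TopologicalSpace

set_option backward.isDefEq.respectTransparency.types false

namespace Groth.Chow

open Groth.PicAux Groth.PropsBasic.Ample

variable {X : Scheme.{u}} {L : X.Modules}

/-- On a quasi-compact separated scheme a section of a quasi-coherent module on `X_s` extends after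
tensoring with a large power of `s`. -/
theorem exists_extend_qcoh [CompactSpace X] [X.IsSeparated] (F : X.Modules) [F.IsQuasicoherent]
    (hL : PicF.IsInvertible L) (s : Γ(L, ⊤)) (σ : Γ(F, gloc s)) :
    ∃ k₀ : ℕ, ∀ k, k₀ ≤ k → ∃ b : Γ(CohB1.tensorMod F (CohB1.tensorPow L k), ⊤),
      res _ le_top b = tmulSec σ (powSec (res L (le_top : gloc s ≤ ⊤) s) k) := by
  classical
  obtain ⟨U₁, e₁, hU₁, -, he₁, hcov₁⟩ := PropsBasic.Ample.exists_gen_cover hL
  obtain ⟨t, ht⟩ := isCompact_univ.elim_finite_subcover (fun x => (U₁ x : Set X))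
    (fun x => (U₁ x).isOpen) (fun x _ => by
      simpa using Opens.mem_iSup.1 (hcov₁.ge (trivial : x ∈ (⊤ : X.Opens))))
  let U : t → X.Opens := fun i => U₁ i
  have hU : ∀ i, IsAffineOpen (U i) := fun i => hU₁ i
  let e : ∀ i, Γ(L, U i) := fun i => e₁ i
  have he : ∀ i, Gen L (U i) (e i) := fun i => he₁ i
  have hcov : (⊤ : X.Opens) ≤ iSup U := fun x _ => by
    obtain ⟨i, hi⟩ := Set.mem_iUnion₂.1 (ht (Set.mem_univ x))
    exact Opens.mem_iSup.2 ⟨⟨i, hi.1⟩, hi.2⟩
  choose c hc using fun i => (he i).exists_coeff le_rfl (res L le_top s)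
  replace hc : ∀ i, res L (le_top : U i ≤ ⊤) s = c i • e i := fun i => by simpa using hc i
  have hD : ∀ i, gloc s ⊓ U i = X.basicOpen (c i) := fun i => gloc_inf_eq_basicOpen (he i) (hc i)
  have hDs : ∀ i, X.basicOpen (c i) ≤ gloc s := fun i => (hD i).ge.trans inf_le_left
  -- on each chart
  have hloc : ∀ i, ∃ (n : ℕ) (a : Γ(F, U i)), res F (X.basicOpen_le (c i)) a =
      resX X (X.basicOpen_le (c i)) (c i) ^ n • res F (hDs i) σ := fun i =>
    Groth.QCohMod.exists_pow_smul_eq_res F (hU i) (c i) _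
  choose n a ha using hloc
  obtain ⟨N, hN⟩ : ∃ N, ∀ i, n i ≤ N :=
    ⟨Finset.univ.sup n, fun i => Finset.le_sup (Finset.mem_univ i)⟩
  let a' : ∀ i, Γ(F, U i) := fun i => c i ^ (N - n i) • a i
  have ha' : ∀ i, res F (X.basicOpen_le (c i)) (a' i) =
      resX X (X.basicOpen_le (c i)) (c i) ^ N • res F (hDs i) σ := by
    intro i
    rw [res_smul, map_pow, ha, ← mul_smul, ← pow_add, Nat.sub_add_cancel (hN i)]
  -- comparison on overlaps
  choose u hu using fun i j : t =>
    (he i).exists_coeff (inf_le_left : U i ⊓ U j ≤ U i) (res L (inf_le_right : U i ⊓ U j ≤ U j) (e j))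
  have hcu : ∀ i j, resX X (inf_le_left : U i ⊓ U j ≤ U i) (c i) =
      resX X (inf_le_right : U i ⊓ U j ≤ U j) (c j) * u i j := by
    intro i j
    refine (he i).smul_inj inf_le_left ?_
    have h1 := congrArg (res L (inf_le_left : U i ⊓ U j ≤ U i)) (hc i)
    have h2 := congrArg (res L (inf_le_right : U i ⊓ U j ≤ U j)) (hc j)
    simp only [res_smul, res_res] at h1 h2
    rw [mul_smul, ← hu, ← h1, ← h2]
  have hM : ∀ i j, ∃ m : ℕ, resX X (inf_le_left : U i ⊓ U j ≤ U i) (c i) ^ m •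
      (res F (inf_le_left : U i ⊓ U j ≤ U i) (a' i) -
        u i j ^ N • res F (inf_le_right : U i ⊓ U j ≤ U j) (a' j)) = 0 := by
    intro i j
    have hle1 : X.basicOpen (resX X (inf_le_left : U i ⊓ U j ≤ U i) (c i)) ≤ X.basicOpen (c i) :=
      (X.basicOpen_res (c i) (homOfLE (inf_le_left : U i ⊓ U j ≤ U i)).op).le.trans inf_le_right
    have hle2 : X.basicOpen (resX X (inf_le_left : U i ⊓ U j ≤ U i) (c i)) ≤ X.basicOpen (c j) := by
      rw [← hD j]
      exact le_inf (hle1.trans (hDs i)) ((X.basicOpen_le _).trans inf_le_right)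
    have hij : IsAffineOpen (U i ⊓ U j) := (hU i).inf (hU j)
    refine Groth.QCohMod.exists_pow_smul_eq_zero F hij _ _ ?_
    change res F (X.basicOpen_le _) _ = 0
    have h1 := congrArg (res F hle1) (ha' i)
    have h2 := congrArg (res F hle2) (ha' j)
    simp only [res_smul, res_res, map_pow, resX_resX] at h1 h2
    have h3 := congrArg (resX X (X.basicOpen_le (resX X (inf_le_left : U i ⊓ U j ≤ U i) (c i))))
      (hcu i j)
    simp only [map_mul, resX_resX] at h3
    rw [show ∀ {A B : X.Opens} (h : B ≤ A) (p q : Γ(F, A)), res F h (p - q) = res F h p - res F h q from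
      fun h p q => map_sub (F.presheaf.map _).hom p q]
    simp only [res_smul, res_res, map_pow]
    rw [h1, h2, h3, ← mul_smul, mul_pow, mul_comm, sub_self]
  choose m hm using hM
  obtain ⟨K₀, hK₀⟩ : ∃ K, ∀ i j, m i j ≤ K :=
    ⟨Finset.univ.sup fun p : t × t => m p.1 p.2, fun i j =>
      Finset.le_sup (f := fun p : t × t => m p.1 p.2) (Finset.mem_univ (i, j))⟩
  refine ⟨N + K₀, fun k hk => ?_⟩
  obtain ⟨d, rfl⟩ := Nat.exists_eq_add_of_le hk
  have hK : ∀ i j, m i j ≤ K₀ + d := fun i j => (hK₀ i j).trans (Nat.le_add_right _ _)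
  rw [show N + K₀ + d = N + (K₀ + d) by ring]
  generalize K₀ + d = K at hK ⊢
  -- gluing
  obtain ⟨b, hb, -⟩ := res_glue (M := CohB1.tensorMod F (CohB1.tensorPow L (N + K))) U (fun _ => le_top)
    hcov (fun i => tmulSec (c i ^ K • a' i) (powSec (e i) (N + K))) (fun i j => by
      simp only [res_smul, res_tmulSec, res_powSec, hu, powSec_smul, tmulSec_smul_right, map_pow]
      rw [← tmulSec_smul_left]
      congr 1
      have h1 := hm i j
      have h2 : resX X (inf_le_left : U i ⊓ U j ≤ U i) (c i) ^ K •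
          (res F (inf_le_left : U i ⊓ U j ≤ U i) (a' i) -
            u i j ^ N • res F (inf_le_right : U i ⊓ U j ≤ U j) (a' j)) = 0 := by
        rw [← Nat.sub_add_cancel (hK i j), pow_add, mul_smul, h1, smul_zero]
      rw [smul_sub, sub_eq_zero] at h2
      rw [h2, hcu, ← mul_smul, ← mul_smul, mul_pow, pow_add]
      congr 1
      ring)
  refine ⟨b, res_ext (fun i => X.basicOpen (c i)) hDs (fun x hx => ?_) fun i => ?_⟩
  · obtain ⟨i, hi⟩ := Opens.mem_iSup.1 (hcov (trivial : x ∈ (⊤ : X.Opens)))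
    exact Opens.mem_iSup.2 ⟨i, (hD i).le ⟨hx, hi⟩⟩
  · have h1 := congrArg (res _ (X.basicOpen_le (c i))) (hb i)
    simp only [res_smul, res_tmulSec, res_powSec, res_res] at h1
    have h2 := congrArg (res L (X.basicOpen_le (c i))) (hc i)
    simp only [res_smul, res_res] at h2
    simp only [res_tmulSec, res_powSec, res_res]
    rw [h1, h2, powSec_smul, tmulSec_smul_right, ← tmulSec_smul_left, map_pow, ha', ← mul_smul,
      ← pow_add, add_comm K N]

/-- Sections on `W` that span locally every section below `W`. -/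
def LocSpan (M : X.Modules) (W : X.Opens) (S : Set Γ(M, W)) : Prop :=
  ∀ (V : X.Opens) (_ : V ≤ W) (y : Γ(M, V)), ∀ x ∈ V, ∃ (V' : X.Opens) (h : V' ≤ V) (h' : V' ≤ W),
    x ∈ V' ∧ res M h y ∈ Submodule.span Γ(X, V') (res M h' '' S)

theorem res_mem_span {M : X.Modules} {V V' : X.Opens} (h : V' ≤ V) {S : Set Γ(M, V)} {y : Γ(M, V)}
    (hy : y ∈ Submodule.span Γ(X, V) S) : res M h y ∈ Submodule.span Γ(X, V') (res M h '' S) := by
  induction hy using Submodule.span_induction with
  | mem z hz => exact Submodule.subset_span ⟨z, hz, rfl⟩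
  | zero => rw [res_zero]; exact zero_mem _
  | add a b _ _ ha hb => rw [res_add]; exact add_mem ha hb
  | smul r a _ ha => rw [res_smul]; exact Submodule.smul_mem _ _ ha

theorem LocSpan.tensor {M N : X.Modules} {W : X.Opens} {S : Set Γ(M, W)} (hS : LocSpan M W S)
    {e : Γ(N, W)} (he : Gen N W e) :
    LocSpan (CohB1.tensorMod M N) W ((fun s => tmulSec s e) '' S) := by
  intro V hV y x hx
  obtain ⟨V₁, h₁, p, hx₁, hp⟩ := ptenUnit_locally_surjective M N V y x hx
  suffices ∀ p : PTen M N V₁, ∃ (V' : X.Opens) (h : V' ≤ V₁) (h' : V' ≤ W),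
      x ∈ V' ∧ res (CohB1.tensorMod M N) h (ptenUnit M N V₁ p) ∈
        Submodule.span Γ(X, V') (res (CohB1.tensorMod M N) h' '' ((fun s => tmulSec s e) '' S)) by
    obtain ⟨V', h, h', hx', hmem⟩ := this p
    rw [hp, res_res] at hmem
    exact ⟨V', h.trans h₁, h', hx', hmem⟩
  intro p
  induction p using TensorProduct.induction_on with
  | zero => exact ⟨V₁, le_rfl, h₁.trans hV, hx₁, by rw [map_zero, res_zero]; exact zero_mem _⟩
  | add p q hp hq =>
    obtain ⟨A, hA, hA', hxA, hpA⟩ := hp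
    obtain ⟨B, hB, hB', hxB, hqB⟩ := hq
    have hA2 := res_mem_span (inf_le_left : A ⊓ B ≤ A) hpA
    have hB2 := res_mem_span (inf_le_right : A ⊓ B ≤ B) hqB
    rw [res_res, ← Set.image_comp] at hA2 hB2
    simp only [Function.comp_def, res_res] at hA2 hB2
    exact ⟨A ⊓ B, inf_le_left.trans hA, inf_le_left.trans hA', ⟨hxA, hxB⟩, by
      rw [map_add, res_add]; exact add_mem hA2 hB2⟩
  | tmul m v =>
    obtain ⟨V', h, h', hx', hm⟩ := hS V₁ (h₁.trans hV) m x hx₁
    refine ⟨V', h, h', hx', ?_⟩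
    obtain ⟨r, hr⟩ := he.exists_coeff h' (res N h v)
    change res _ h (tmulSec m v) ∈ _
    rw [res_tmulSec, hr, tmulSec_smul_right]
    refine Submodule.smul_mem _ _ ?_
    generalize res M h m = m' at hm
    induction hm using Submodule.span_induction with
    | mem z hz =>
      obtain ⟨s, hs, rfl⟩ := hz
      exact Submodule.subset_span ⟨_, ⟨s, hs, rfl⟩, res_tmulSec _ _ _⟩
    | zero => rw [tmulSec_zero_left]; exact zero_mem _
    | add a b _ _ ha hb =>
      rw [show tmulSec (a + b) (res N h' e) = tmulSec a (res N h' e) + tmulSec b (res N h' e) by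
        simp only [tmulSec, TensorProduct.add_tmul, map_add]]
      exact add_mem ha hb
    | smul r a _ ha => rw [tmulSec_smul_left]; exact Submodule.smul_mem _ _ ha

/-- Finitely many sections span a quasi-coherent module of finite type on an affine open. -/
theorem exists_locSpan (F : X.Modules) [F.IsQuasicoherent] (hF : CohB1.IsFT F) {W : X.Opens}
    (hW : IsAffineOpen W) : ∃ S : Finset Γ(F, W), LocSpan F W (S : Set Γ(F, W)) := by
  have := Groth.QCohMod.finite_sections F hF hW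
  obtain ⟨S, hS⟩ := this.fg_top
  refine ⟨S, fun V hV y x hx => ?_⟩
  obtain ⟨f, hfV, hxf⟩ := hW.exists_basicOpen_le (V := V) ⟨x, hx⟩ (hV hx)
  refine ⟨X.basicOpen f, hfV, X.basicOpen_le f, hxf, ?_⟩
  obtain ⟨n, a, ha⟩ := Groth.QCohMod.exists_pow_smul_eq_res F hW f (res F hfV y)
  replace ha : res F (X.basicOpen_le f) a = resX X (X.basicOpen_le f) f ^ n • res F hfV y := ha
  have hu : IsUnit (resX X (X.basicOpen_le f) f ^ n) :=
    (RingedSpace.isUnit_res_basicOpen _ f).pow n
  obtain ⟨v, hv⟩ := hu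
  have hy : res F hfV y = (↑v⁻¹ : Γ(X, X.basicOpen f)) • res F (X.basicOpen_le f) a := by
    rw [ha, ← mul_smul]
    change _ = ((↑v⁻¹ : Γ(X, X.basicOpen f)) * resX X (X.basicOpen_le f) f ^ n) • _
    rw [← hv, Units.inv_mul, one_smul]
  rw [hy]
  exact Submodule.smul_mem _ _ (res_mem_span _ (hS.ge Submodule.mem_top))

/-- A module covered by opens each locally spanned by restrictions of global sections is globally generated. -/
theorem isGloballyGenerated_of_locSpan {M : X.Modules} {ι : Type u} (t : ι → Γ(M, ⊤))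
    (h : ∀ x : X, ∃ (W : X.Opens) (S : Set Γ(M, W)), x ∈ W ∧ LocSpan M W S ∧
      ∀ s ∈ S, ∃ i, res M le_top (t i) = s) : Curv2.IsGloballyGenerated M := by
  choose W S hxW hS hst using h
  refine ⟨ι, Sigma.desc fun i => homOfSection (t i), ⟨fun {Z} (ψ ψ' : M ⟶ Z) he => ?_⟩⟩
  have hi : ∀ i, ψ.app ⊤ (t i) = ψ'.app ⊤ (t i) := fun i => by
    have h1 : homOfSection (t i) ≫ ψ = homOfSection (t i) ≫ ψ' :=
      ((Sigma.ι_desc_assoc (fun i => homOfSection (t i)) i ψ).symm.trans
        (congrArg (Sigma.ι (fun _ : ι => Coh.structureModule X) i ≫ ·) he)).trans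
          (Sigma.ι_desc_assoc (fun i => homOfSection (t i)) i ψ')
    have h2 := congr(($h1).app ⊤ (oneSec X ⊤))
    simp only [Scheme.Modules.Hom.comp_app, ConcreteCategory.comp_apply, homOfSection_one] at h2
    exact h2
  refine hom_ext_cover (U := W) (top_le_iff.1 fun x _ => Opens.mem_iSup.2 ⟨x, hxW x⟩) fun x₀ V hV y => ?_
  choose V' h h' hx' hmem using hS x₀ V hV y
  refine res_ext (fun x : V => V' x.1 x.2) (fun x => h x.1 x.2)
    (fun x hx => Opens.mem_iSup.2 ⟨⟨x, hx⟩, hx' x hx⟩) fun x => ?_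
  rw [← app_res, ← app_res]
  have := hmem x.1 x.2
  generalize res M (h x.1 x.2) y = y' at this ⊢
  induction this using Submodule.span_induction with
  | mem z hz =>
    obtain ⟨s, hs, rfl⟩ := hz
    obtain ⟨i, rfl⟩ := hst x₀ s hs
    rw [res_res, app_res, app_res, hi]
  | zero => rw [map_zero, map_zero]
  | add a b _ _ ha hb => rw [map_add, map_add, ha, hb]
  | smul r a _ ha => rw [Scheme.Modules.Hom.app_smul, Scheme.Modules.Hom.app_smul, ha]

theorem LocSpan.map {M N : X.Modules} (φ : M ≅ N) {W : X.Opens} {S : Set Γ(M, W)} (hS : LocSpan M W S) :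
    LocSpan N W ((fun s => φ.hom.app W s) '' S) := by
  intro V hV y x hx
  obtain ⟨V', h, h', hx', hm⟩ := hS V hV (φ.inv.app V y) x hx
  refine ⟨V', h, h', hx', ?_⟩
  have hy : res N h y = φ.hom.app V' (res M h (φ.inv.app V y)) := by
    rw [app_res]
    congr 1
    exact (congr(($(φ.inv_hom_id)).app V y)).symm
  rw [hy]
  generalize res M h (φ.inv.app V y) = y' at hm
  induction hm using Submodule.span_induction with
  | mem z hz =>
    obtain ⟨s, hs, rfl⟩ := hz
    exact Submodule.subset_span ⟨_, ⟨s, hs, rfl⟩, (app_res φ.hom h' s).symm⟩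
  | zero => rw [map_zero]; exact zero_mem _
  | add a b _ _ ha hb => rw [map_add]; exact add_mem ha hb
  | smul r a _ ha => rw [Scheme.Modules.Hom.app_smul]; exact Submodule.smul_mem _ _ ha

/-- Serre: large twists of a finite type quasi-coherent module by an ample one are globally generated. -/
theorem exists_isGloballyGenerated_twist (hA : CohB1.IsAmple L) (F : X.Modules) [F.IsQuasicoherent]
    (hF : CohB1.IsFT F) :
    ∃ n₀ : ℕ, ∀ n, n₀ ≤ n → Curv2.IsGloballyGenerated (CohB1.tensorMod F (CohB1.tensorPow L n)) := by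
  classical
  have hL := hA.1
  haveI : CompactSpace X := hA.2.1
  haveI := isSeparated_of_cover hL hA.2.2
  have hB := isBasis_of_isAmple hA
  -- the local data
  have key : ∀ x : X, ∃ (W : X.Opens) (n₀ : ℕ), x ∈ W ∧ ∀ n, n₀ ≤ n →
      ∃ (S : Set Γ(CohB1.tensorMod F (CohB1.tensorPow L n), W)),
        LocSpan (CohB1.tensorMod F (CohB1.tensorPow L n)) W S ∧
        ∀ s ∈ S, ∃ b : Γ(CohB1.tensorMod F (CohB1.tensorPow L n), ⊤), res _ le_top b = s := by
    intro x
    obtain ⟨W, hW, hxW, hWsec⟩ := exists_uniform_sections hA x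
    obtain ⟨_, ⟨m, s, rfl⟩, hxs, hsW⟩ := Opens.isBasis_iff_nbhd.1 hB hxW
    rw [genLocus_eq_gloc] at hxs hsW
    have hWt : IsAffineOpen (gloc (gsec s)) := by
      have h := isAffineOpen_gloc_inf (isInvertible_tensorPow hL (m + 1)) (homOfSection (gsec s)) hW
      rwa [inf_eq_left.2 hsW] at h
    generalize gsec s = t at hxs hsW hWt
    have hP := isInvertible_tensorPow hL (m + 1)
    obtain ⟨S, hS⟩ := exists_locSpan F hF hWt
    choose k₀ hk₀ using fun g : Γ(F, gloc t) => exists_extend_qcoh F hP t g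
    let k := S.sup k₀
    obtain ⟨n₁, hn₁⟩ := hWsec ∅
    refine ⟨gloc t, (m + 1) * k + n₁, hxs, fun n hn => ?_⟩
    obtain ⟨j, rfl⟩ := Nat.exists_eq_add_of_le hn
    obtain ⟨σ, hσ, -⟩ := hn₁ (n₁ + j) (Nat.le_add_right _ _)
    obtain ⟨φ⟩ : Nonempty (CohB1.tensorMod (CohB1.tensorMod F (CohB1.tensorPow (CohB1.tensorPow L (m + 1)) k))
        (CohB1.tensorPow L (n₁ + j)) ≅ CohB1.tensorMod F (CohB1.tensorPow L ((m + 1) * k + n₁ + j))) :=
      ⟨(exists_associator _ _ _).choose ≪≫ PicGrp.tensorModIso (Iso.refl F)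
        (PicGrp.tensorModIso (tensorPow_mul L (m + 1) k).some.symm (Iso.refl _) ≪≫
          (tensorPow_add L _ _).some.symm ≪≫ eqToIso (by rw [add_assoc]))⟩
    have h1 := (hS.tensor ((gen_gloc t le_rfl).pow k)).tensor (gen_gloc σ (hsW.trans hσ.ge))
    refine ⟨_, h1.map φ, ?_⟩
    rintro _ ⟨_, ⟨_, ⟨g, hg, rfl⟩, rfl⟩, rfl⟩
    obtain ⟨b, hb⟩ := hk₀ g k (Finset.le_sup hg)
    refine ⟨φ.hom.app ⊤ (tmulSec b σ), ?_⟩
    rw [← app_res, res_tmulSec, hb]
  choose W N hxW hsec using key
  obtain ⟨T, hT⟩ := isCompact_univ.elim_finite_subcover (fun x => (W x : Set X))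
    (fun x => (W x).isOpen) (fun x _ => Set.mem_iUnion.2 ⟨x, hxW x⟩)
  refine ⟨T.sup N, fun n hn => isGloballyGenerated_of_locSpan
    (ι := Γ(CohB1.tensorMod F (CohB1.tensorPow L n), ⊤)) id fun y => ?_⟩
  obtain ⟨x, hx⟩ := Set.mem_iUnion₂.1 (hT (Set.mem_univ y))
  obtain ⟨S, hS, hSb⟩ := hsec x n ((Finset.le_sup hx.1).trans hn)
  exact ⟨W x, S, hx.2, hS, hSb⟩

end Groth.Chow
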