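import Groth.Agent.Ega2Proj.RelAmple
import Groth.Prelude.Def_RelProj

/-! Quasi-projectivity of a coproduct. -/

set_option linter.style.haveILetI false
universe u

open CategoryTheory CategoryTheory.Limits AlgebraicGeometry Opposite TopologicalSpace

set_option backward.isDefEq.respectTransparency.types false

namespace Groth.Chow

open Groth.PicAux Groth.PropsBasic.Ample Groth.Ega2Proj

/-- The direct image along `j` restricted along an immersion with disjoint image is zero. -/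
theorem isZero_restrict_push_disjoint {A B X : Scheme.{u}} (i : A ⟶ X) (j : B ⟶ X) [IsOpenImmersion i]
    (h : Disjoint (Set.range i) (Set.range j)) (N : B.Modules) :
    IsZero (((Scheme.Modules.pushforward j).obj N).restrict i) := by
  rw [IsZero.iff_id_eq_zero]
  ext W (x : Γ(N, j ⁻¹ᵁ (i ''ᵁ W)))
  have he : j ⁻¹ᵁ (i ''ᵁ W) ≤ ⊥ := fun b hb => by
    obtain ⟨a, -, hab⟩ := hb
    exact absurd (hab.symm ▸ ⟨b, rfl⟩ : i a ∈ Set.range j) (Set.disjoint_left.mp h ⟨a, rfl⟩)
  have hsub : ∀ y z : Γ(N, j ⁻¹ᵁ (i ''ᵁ W)), y = z := fun y z =>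
    res_ext (M := N) (fun e : PEmpty.{1} => e.elim) (fun e => e.elim)
      (he.trans bot_le) fun e => e.elim
  exact hsub _ _

/-- Sum of the direct images along the two coprojections. -/
theorem exists_coprod_module (X X' : Scheme.{u}) (L : X.Modules) (L' : X'.Modules) :
    ∃ M : (X ⨿ X').Modules, Nonempty (M.restrict coprod.inl ≅ L) ∧ Nonempty (M.restrict coprod.inr ≅ L') := by
  have hd := (isCompl_range_inl_inr X X').disjoint
  refine ⟨(Scheme.Modules.pushforward coprod.inl).obj L ⊞ (Scheme.Modules.pushforward coprod.inr).obj L', ⟨?_⟩, ⟨?_⟩⟩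
  · haveI : PreservesBinaryBiproducts (Scheme.Modules.restrictFunctor (coprod.inl : X ⟶ X ⨿ X')) :=
      preservesBinaryBiproducts_of_preservesBinaryCoproducts _
    exact (Scheme.Modules.restrictFunctor (coprod.inl : X ⟶ X ⨿ X')).mapBiprod _ _ ≪≫
      (isoBiprodZero (isZero_restrict_push_disjoint coprod.inl coprod.inr hd L')).symm ≪≫
      (Scheme.Modules.restrictFunctorAdjCounitIso (coprod.inl : X ⟶ X ⨿ X')).app L
  · haveI : PreservesBinaryBiproducts (Scheme.Modules.restrictFunctor (coprod.inr : X' ⟶ X ⨿ X')) :=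
      preservesBinaryBiproducts_of_preservesBinaryCoproducts _
    exact (Scheme.Modules.restrictFunctor (coprod.inr : X' ⟶ X ⨿ X')).mapBiprod _ _ ≪≫
      (isoZeroBiprod (isZero_restrict_push_disjoint coprod.inr coprod.inl hd.symm L)).symm ≪≫
      (Scheme.Modules.restrictFunctorAdjCounitIso (coprod.inr : X' ⟶ X ⨿ X')).app L'

theorem quasiCompact_coprodDesc {X X' Y : Scheme.{u}} (f : X ⟶ Y) (f' : X' ⟶ Y) [QuasiCompact f]
    [QuasiCompact f'] : QuasiCompact (coprod.desc f f') := by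
  refine ⟨fun U hU hUc => ?_⟩
  have h1 := ((QuasiCompact.isCompact_preimage (f := f) U hU hUc).image (coprod.inl : X ⟶ X ⨿ X').continuous).union
    ((QuasiCompact.isCompact_preimage (f := f') U hU hUc).image (coprod.inr : X' ⟶ X ⨿ X').continuous)
  convert h1 using 1
  ext z
  obtain ⟨(x | x), rfl⟩ := (coprodMk X X').surjective z
  all_goals simp only [coprodMk_inl, coprodMk_inr, Set.mem_preimage, Set.mem_union, Set.mem_image]
  · constructor
    · exact fun h => Or.inl ⟨x, by rwa [← Scheme.Hom.comp_apply, coprod.inl_desc] at h, rfl⟩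
    · rintro (⟨a, ha, he⟩ | ⟨a, ha, he⟩)
      · rw [← he, ← Scheme.Hom.comp_apply, coprod.inl_desc]; exact ha
      · exact absurd (⟨a, he⟩ : (coprod.inl : X ⟶ X ⨿ X') x ∈ Set.range (coprod.inr : X' ⟶ X ⨿ X'))
          (Set.disjoint_left.mp (isCompl_range_inl_inr X X').disjoint ⟨x, rfl⟩)
  · constructor
    · exact fun h => Or.inr ⟨x, by rwa [← Scheme.Hom.comp_apply, coprod.inr_desc] at h, rfl⟩
    · rintro (⟨a, ha, he⟩ | ⟨a, ha, he⟩)
      · exact absurd (⟨a, he⟩ : (coprod.inr : X' ⟶ X ⨿ X') x ∈ Set.range (coprod.inl : X ⟶ X ⨿ X'))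
          (Set.disjoint_right.mp (isCompl_range_inl_inr X X').disjoint ⟨x, rfl⟩)
      · rw [← he, ← Scheme.Hom.comp_apply, coprod.inr_desc]; exact ha

/-- A module on a scheme ample on the two parts of a clopen partition is ample. -/
theorem isAmple_of_isCompl {X : Scheme.{u}} [CompactSpace X] {M : X.Modules} (A B : X.Opens)
    (hdisj : A ⊓ B = ⊥) (hcov : A ⊔ B = ⊤) (hA : CohB1.IsAmple (M.restrict A.ι))
    (hB : CohB1.IsAmple (M.restrict B.ι)) : CohB1.IsAmple M := by
  have key : ∀ (A B : X.Opens), A ⊓ B = ⊥ → A ⊔ B = ⊤ → ∃ g : Γ(X, ⊤), X.basicOpen g = A := by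
    intro A B hdisj hcov
    let U : Bool → X.Opens := fun b => bif b then A else B
    have hU : iSup U = ⊤ := by rw [iSup_bool_eq]; exact hcov
    obtain ⟨g, hg, -⟩ := resX_glue U (fun _ => le_top) hU.ge
      (fun b => (Bool.rec (0 : Γ(X, B)) (1 : Γ(X, A)) b : Γ(X, U b))) (fun a b => by
        cases a <;> cases b
        · rfl
        · exact (show ∀ (W : X.Opens), W = ⊥ → ∀ p q : Γ(X, W), p = q from
            fun W hW p q => by subst hW; exact Subsingleton.elim _ _) _ (by rw [inf_comm]; exact hdisj) _ _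
        · exact (show ∀ (W : X.Opens), W = ⊥ → ∀ p q : Γ(X, W), p = q from
            fun W hW p q => by subst hW; exact Subsingleton.elim _ _) _ hdisj _ _
        · rfl)
    refine ⟨g, opens_ext_cover hU fun b => ?_⟩
    have h := X.basicOpen_res g (homOfLE (le_top : U b ≤ ⊤)).op
    rw [inf_comm, ← h, show X.presheaf.map (homOfLE (le_top : U b ≤ ⊤)).op g = _ from hg b]
    cases b
    · exact (X.basicOpen_zero _).trans hdisj.symm
    · exact (X.basicOpen_of_isUnit isUnit_one).trans (inf_idem A).symm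
  obtain ⟨g, hg⟩ := key A B hdisj hcov
  obtain ⟨g', hg'⟩ := key B A (by rw [inf_comm]; exact hdisj) (by rw [sup_comm]; exact hcov)
  refine isAmple_of_basicOpen_cover fun x => ?_
  rcases (hcov.ge (Set.mem_univ x) : x ∈ A ⊔ B) with h | h
  · exact ⟨g, by rw [hg]; exact h, by rw [hg]; exact hA⟩
  · exact ⟨g', by rw [hg']; exact h, by rw [hg']; exact hB⟩

theorem isQuasiProjective_coprodDesc {X X' Y : Scheme.{u}} (f : X ⟶ Y) (f' : X' ⟶ Y)
    (hf : RelProj.IsQuasiProjective f) (hf' : RelProj.IsQuasiProjective f') :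
    RelProj.IsQuasiProjective (coprod.desc f f') := by
  obtain ⟨hft, hqc, L, hL⟩ := hf
  obtain ⟨hft', hqc', L', hL'⟩ := hf'
  haveI := quasiCompact_coprodDesc f f'
  refine ⟨?_, inferInstance, ?_⟩
  · refine IsZariskiLocalAtSource.of_openCover (coprodOpenCover.{u, u} X X') ?_
    rintro (_ | _)
    · exact (congrArg (fun g : X ⟶ Y => LocallyOfFiniteType g) (coprod.inl_desc f f')).mpr hft
    · exact (congrArg (fun g : X' ⟶ Y => LocallyOfFiniteType g) (coprod.inr_desc f f')).mpr hft'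
  obtain ⟨M, ⟨e⟩, ⟨e'⟩⟩ := exists_coprod_module X X' L L'
  refine ⟨M, isRelAmple_of_local _ fun z => ?_⟩
  obtain ⟨V, hV, hzV, -⟩ := exists_isAffineOpen_mem_and_subset
    (x := coprod.desc f f' z) (U := (⊤ : Y.Opens)) trivial
  let Z : (X ⨿ X').Opens := coprod.desc f f' ⁻¹ᵁ V
  refine ⟨V, Z, Z.ι, inferInstance, hzV, fun y hy => ⟨⟨y, hy⟩, rfl⟩, ?_⟩
  haveI : CompactSpace Z.toScheme :=
    isCompact_iff_compactSpace.mp (QuasiCompact.isCompact_preimage _ V.2 hV.isCompact)
  let A : Z.toScheme.Opens := Z.ι ⁻¹ᵁ (coprod.inl : X ⟶ X ⨿ X').opensRange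
  let B : Z.toScheme.Opens := Z.ι ⁻¹ᵁ (coprod.inr : X' ⟶ X ⨿ X').opensRange
  have hc := isCompl_range_inl_inr X X'
  have part : ∀ {W : Scheme.{u}} (i : W ⟶ X ⨿ X') [IsOpenImmersion i] (g : W ⟶ Y)
      (_ : i ≫ coprod.desc f f' = g) (N : W.Modules) (_ : RelAmple.IsRelAmple g N) (_ : M.restrict i ≅ N),
      CohB1.IsAmple ((M.restrict Z.ι).restrict (Z.ι ⁻¹ᵁ i.opensRange).ι) := by
    intro W i _ g hg N hN eN
    haveI := hN.1
    haveI : CompactSpace (g ⁻¹ᵁ V : Scheme.Opens W).toScheme :=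
      isCompact_iff_compactSpace.mp (QuasiCompact.isCompact_preimage _ V.2 hV.isCompact)
    have hA := hN.2 ⟨V, hV⟩
    let j := (g ⁻¹ᵁ V).ι ≫ i
    have hj : CohB1.IsAmple (M.restrict j) := isAmple_of_iso
      ((Scheme.Modules.restrictFunctor (g ⁻¹ᵁ V).ι).mapIso eN.symm ≪≫ (restrictRestrictIso _ i M).symm) hA
    have hsub : Set.range ((Z.ι ⁻¹ᵁ i.opensRange).ι ≫ Z.ι) ⊆ Set.range j := by
      rintro _ ⟨⟨⟨w, hwV⟩, ⟨a, ha⟩⟩, rfl⟩
      refine ⟨⟨a, ?_⟩, ha⟩
      show g a ∈ V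
      rw [← hg, Scheme.Hom.comp_apply]
      exact (congrArg (fun p => coprod.desc f f' p ∈ V) ha).mpr hwV
    have heq : Set.range ((Z.ι ⁻¹ᵁ i.opensRange).ι ≫ Z.ι) = Set.range j := by
      refine hsub.antisymm ?_
      rintro _ ⟨⟨a, ha⟩, rfl⟩
      have ha' : i a ∈ Z := by
        show coprod.desc f f' (i a) ∈ V
        rw [← Scheme.Hom.comp_apply, hg]; exact ha
      exact ⟨⟨⟨i a, ha'⟩, a, rfl⟩, rfl⟩
    haveI : CompactSpace (Z.ι ⁻¹ᵁ i.opensRange : Z.toScheme.Opens).toScheme := by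
      have h1 : IsCompact (Set.range ((Z.ι ⁻¹ᵁ i.opensRange).ι ≫ Z.ι)) := by
        rw [heq]; exact isCompact_range j.continuous
      rw [← isCompact_univ_iff]
      exact ((Z.ι ⁻¹ᵁ i.opensRange).ι ≫ Z.ι).isOpenEmbedding.isEmbedding.isCompact_iff.mpr
        (by rwa [Set.image_univ])
    exact isAmple_of_iso (restrictRestrictIso _ Z.ι M) (isAmple_restrict_of_range_le _ j hsub hj)
  refine isAmple_of_isCompl A B ?_ ?_ (part coprod.inl f (coprod.inl_desc f f') L hL e)
    (part coprod.inr f' (coprod.inr_desc f f') L' hL' e')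
  · exact eq_bot_iff.mpr fun y hy => (Set.disjoint_left.mp hc.disjoint hy.1 hy.2)
  · exact top_le_iff.mp fun y _ => (hc.codisjoint.top_le (Set.mem_univ (Z.ι y))).imp id id

end Groth.Chow
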