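import Groth.Agent.PropsBasic.AmpleExtend

/-!
# Extending sections of an invertible module on `X_s` after twisting by a power of `s`
-/

universe u

open CategoryTheory AlgebraicGeometry Opposite TopologicalSpace

set_option backward.isDefEq.respectTransparency.types false

namespace Groth.Chow

open Groth.PicAux Groth.PropsBasic.Ample

variable {X : Scheme.{u}} {L M : X.Modules}

/-- On a qcqs scheme `m ⊗ s^k` extends for all large `k` when `m` is a section of an invertible module on `X_s`. -/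
theorem exists_extend_sec [CompactSpace X] [QuasiSeparatedSpace X] (hM : PicF.IsInvertible M)
    (hL : PicF.IsInvertible L) (s : Γ(L, ⊤)) (σ : Γ(M, gloc s)) :
    ∃ k₀ : ℕ, ∀ k, k₀ ≤ k → ∃ b : Γ(CohB1.tensorMod M (CohB1.tensorPow L k), ⊤),
      res _ le_top b = tmulSec σ (powSec (res L (le_top : gloc s ≤ ⊤) s) k) := by
  classical
  obtain ⟨U₁, e₁, -, hx₁, he₁, -⟩ := PropsBasic.Ample.exists_gen_cover hL
  obtain ⟨U₂, e₂, -, hx₂, he₂, -⟩ := PropsBasic.Ample.exists_gen_cover hM
  have haff : ∀ x, ∃ U : X.Opens, IsAffineOpen U ∧ x ∈ U ∧ U ≤ U₁ x ⊓ U₂ x := fun x => by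
    obtain ⟨_, ⟨U, hU, rfl⟩, hxU, hUle⟩ :=
      X.isBasis_affineOpens.exists_subset_of_mem_open (show x ∈ U₁ x ⊓ U₂ x from ⟨hx₁ x, hx₂ x⟩)
        (U₁ x ⊓ U₂ x).isOpen
    exact ⟨U, hU, hxU, hUle⟩
  choose U₀ hU₀ hx₀ hle₀ using haff
  obtain ⟨t, ht⟩ := isCompact_univ.elim_finite_subcover (fun x => (U₀ x : Set X))
    (fun x => (U₀ x).isOpen) (fun x _ => Set.mem_iUnion.2 ⟨x, hx₀ x⟩)
  let U : t → X.Opens := fun i => U₀ i
  have hU : ∀ i, IsAffineOpen (U i) := fun i => hU₀ i
  let e : ∀ i, Γ(L, U i) := fun i => res L ((hle₀ i).trans inf_le_left) (e₁ i)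
  have he : ∀ i, Gen L (U i) (e i) := fun i => (he₁ i).res _
  let e' : ∀ i, Γ(M, U i) := fun i => res M ((hle₀ i).trans inf_le_right) (e₂ i)
  have he' : ∀ i, Gen M (U i) (e' i) := fun i => (he₂ i).res _
  have hcov : (⊤ : X.Opens) ≤ iSup U := fun x _ => by
    obtain ⟨i, hi⟩ := Set.mem_iUnion₂.1 (ht (Set.mem_univ x))
    exact Opens.mem_iSup.2 ⟨⟨i, hi.1⟩, hi.2⟩
  choose c hc using fun i => (he i).exists_coeff le_rfl (res L le_top s)
  replace hc : ∀ i, res L (le_top : U i ≤ ⊤) s = c i • e i := fun i => by simpa using hc i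
  have hD : ∀ i, gloc s ⊓ U i = X.basicOpen (c i) := fun i => gloc_inf_eq_basicOpen (he i) (hc i)
  have hDs : ∀ i, X.basicOpen (c i) ≤ gloc s := fun i => (hD i).ge.trans inf_le_left
  choose f hf using fun i => (he' i).exists_coeff (X.basicOpen_le (c i)) (res M (hDs i) σ)
  -- on each chart
  have hloc : ∀ i, ∃ (n : ℕ) (a : Γ(X, U i)), resX X (X.basicOpen_le (c i)) a =
      resX X (X.basicOpen_le (c i)) (c i) ^ n * f i := by
    intro i
    have := (hU i).isLocalization_basicOpen (c i)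
    obtain ⟨⟨a, _, n, rfl⟩, ha⟩ :=
      IsLocalization.surj (M := Submonoid.powers (c i)) (f i)
    refine ⟨n, a, ?_⟩
    rw [RingHom.algebraMap_toAlgebra, map_pow] at ha
    rw [mul_comm]
    exact ha.symm
  choose n a ha using hloc
  obtain ⟨N, hN⟩ : ∃ N, ∀ i, n i ≤ N :=
    ⟨Finset.univ.sup n, fun i => Finset.le_sup (Finset.mem_univ i)⟩
  let a' : ∀ i, Γ(X, U i) := fun i => a i * c i ^ (N - n i)
  have ha' : ∀ i, resX X (X.basicOpen_le (c i)) (a' i) =
      resX X (X.basicOpen_le (c i)) (c i) ^ N * f i := by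
    intro i
    rw [map_mul, map_pow, ha, mul_right_comm, ← pow_add, Nat.add_sub_of_le (hN i)]
  -- comparison on overlaps
  choose u hu using fun i j : t =>
    (he i).exists_coeff (inf_le_left : U i ⊓ U j ≤ U i) (res L (inf_le_right : U i ⊓ U j ≤ U j) (e j))
  choose v hv using fun i j : t =>
    (he' i).exists_coeff (inf_le_left : U i ⊓ U j ≤ U i) (res M (inf_le_right : U i ⊓ U j ≤ U j) (e' j))
  have hcu : ∀ i j, resX X (inf_le_left : U i ⊓ U j ≤ U i) (c i) =
      resX X (inf_le_right : U i ⊓ U j ≤ U j) (c j) * u i j := by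
    intro i j
    refine (he i).smul_inj inf_le_left ?_
    have h1 := congrArg (res L (inf_le_left : U i ⊓ U j ≤ U i)) (hc i)
    have h2 := congrArg (res L (inf_le_right : U i ⊓ U j ≤ U j)) (hc j)
    simp only [res_smul, res_res] at h1 h2
    rw [mul_smul, ← hu, ← h1, ← h2]
  have hM' : ∀ i j, ∃ m : ℕ, resX X (inf_le_left : U i ⊓ U j ≤ U i) (c i) ^ m *
      (resX X (inf_le_left : U i ⊓ U j ≤ U i) (a' i) -
        resX X (inf_le_right : U i ⊓ U j ≤ U j) (a' j) * u i j ^ N * v i j) = 0 := by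
    intro i j
    have hle1 : X.basicOpen (resX X (inf_le_left : U i ⊓ U j ≤ U i) (c i)) ≤ X.basicOpen (c i) :=
      (X.basicOpen_res (c i) (homOfLE (inf_le_left : U i ⊓ U j ≤ U i)).op).le.trans inf_le_right
    have hle2 : X.basicOpen (resX X (inf_le_left : U i ⊓ U j ≤ U i) (c i)) ≤ X.basicOpen (c j) := by
      rw [← hD j]
      exact le_inf (hle1.trans (hDs i)) ((X.basicOpen_le _).trans inf_le_right)
    refine exists_pow_mul_eq_zero_of_res_basicOpen_eq_zero_of_isCompact X
      (QuasiSeparatedSpace.inter_isCompact _ _ (U i).isOpen (hU i).isCompact (U j).isOpen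
        (hU j).isCompact) _ _ ?_
    change resX X (X.basicOpen_le _) _ = 0
    have h1 := congrArg (resX X hle1) (ha' i)
    have h2 := congrArg (resX X hle2) (ha' j)
    simp only [map_mul, map_pow, resX_resX] at h1 h2
    have h3 := congrArg (resX X (X.basicOpen_le (resX X (inf_le_left : U i ⊓ U j ≤ U i) (c i))))
      (hcu i j)
    simp only [map_mul, resX_resX] at h3
    have h4 : resX X hle1 (f i) = resX X hle2 (f j) *
        resX X (X.basicOpen_le (resX X (inf_le_left : U i ⊓ U j ≤ U i) (c i))) (v i j) := by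
      refine (he' i).smul_inj (hle1.trans (X.basicOpen_le (c i))) ?_
      have g1 := congrArg (res M hle1) (hf i)
      have g2 := congrArg (res M hle2) (hf j)
      have g3 := congrArg (res M (X.basicOpen_le (resX X (inf_le_left : U i ⊓ U j ≤ U i) (c i)))) (hv i j)
      simp only [res_smul, res_res] at g1 g2 g3
      rw [mul_smul, ← g3, ← g1, ← g2]
    simp only [map_sub, map_mul, map_pow, resX_resX]
    rw [h1, h2, h3, h4, mul_pow]
    ring
  choose m hm using hM'
  obtain ⟨K₀, hK₀⟩ : ∃ K, ∀ i j, m i j ≤ K :=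
    ⟨Finset.univ.sup fun p : t × t => m p.1 p.2, fun i j =>
      Finset.le_sup (f := fun p : t × t => m p.1 p.2) (Finset.mem_univ (i, j))⟩
  refine ⟨N + K₀, fun k hk => ?_⟩
  obtain ⟨d, rfl⟩ := Nat.exists_eq_add_of_le hk
  have hK : ∀ i j, m i j ≤ K₀ + d := fun i j => (hK₀ i j).trans (Nat.le_add_right _ _)
  rw [show N + K₀ + d = N + (K₀ + d) by ring]
  generalize K₀ + d = K at hK ⊢
  -- gluing
  obtain ⟨b, hb, -⟩ := res_glue (M := CohB1.tensorMod M (CohB1.tensorPow L (N + K))) U (fun _ => le_top)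
    hcov (fun i => (a' i * c i ^ K) • tmulSec (e' i) (powSec (e i) (N + K))) (fun i j => by
      simp only [res_smul, res_tmulSec, res_powSec, hu, hv, powSec_smul, tmulSec_smul_left,
        tmulSec_smul_right, ← mul_smul, map_mul, map_pow]
      congr 1
      have h1 := hm i j
      have h2 : resX X (inf_le_left : U i ⊓ U j ≤ U i) (c i) ^ K *
          (resX X (inf_le_left : U i ⊓ U j ≤ U i) (a' i) -
            resX X (inf_le_right : U i ⊓ U j ≤ U j) (a' j) * u i j ^ N * v i j) = 0 := by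
        rw [← Nat.sub_add_cancel (hK i j), pow_add, mul_assoc, h1, mul_zero]
      rw [hcu, mul_pow] at h2 ⊢
      linear_combination h2)
  refine ⟨b, res_ext (fun i => X.basicOpen (c i)) hDs (fun x hx => ?_) fun i => ?_⟩
  · obtain ⟨i, hi⟩ := Opens.mem_iSup.1 (hcov (trivial : x ∈ (⊤ : X.Opens)))
    exact Opens.mem_iSup.2 ⟨i, (hD i).le ⟨hx, hi⟩⟩
  · have h1 := congrArg (res _ (X.basicOpen_le (c i))) (hb i)
    simp only [res_smul, res_tmulSec, res_powSec, res_res] at h1
    have h2 := congrArg (res L (X.basicOpen_le (c i))) (hc i)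
    simp only [res_smul, res_res] at h2
    simp only [res_tmulSec, res_powSec, res_res]
    rw [h1, h2, hf i, powSec_smul, tmulSec_smul_left, tmulSec_smul_right, ← mul_smul, map_mul,
      map_pow, ha']
    congr 1
    ring

end Groth.Chow
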