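import Groth.Agent.Chow.Segre
import Groth.Prelude.Def_RelProj

/-! Elementary facts on H-projective morphisms. -/

set_option linter.style.haveILetI false
universe u

open CategoryTheory CategoryTheory.Limits AlgebraicGeometry

namespace Groth.Chow

theorem isHProjective_comp {X Y Z : Scheme.{u}} (f : X ⟶ Y) (g : Y ⟶ Z)
    (hf : RelProj.IsHProjective f) (hg : RelProj.IsHProjective g) :
    RelProj.IsHProjective (f ≫ g) := by
  obtain ⟨n, i, hi, hif⟩ := hf
  obtain ⟨m, k, hk, hkg⟩ := hg
  obtain ⟨φ, hφ, hφb⟩ := exists_segre_over Z n m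
  haveI := Groth.Variety2.isProper_projSpaceOver_toBase n Z
  haveI := Groth.Variety2.isProper_projSpaceOver_toBase n Y
  haveI := Groth.Variety2.isProper_projSpaceOver_toBase m Z
  haveI : IsProper g := by rw [← hkg]; infer_instance
  let pn : CohB1.ProjSpaceOver n Y ⟶ CohB1.ProjSpaceOver n Z :=
    pullback.lift (pullback.fst _ _) (CohB1.ProjSpaceOver.toBase n Y ≫ g) (specULiftZIsTerminal.hom_ext _ _)
  have hpn : pn ≫ CohB1.ProjSpaceOver.toBase n Z = CohB1.ProjSpaceOver.toBase n Y ≫ g :=
    pullback.lift_snd _ _ _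
  let u : CohB1.ProjSpaceOver n Y ⟶
      pullback (CohB1.ProjSpaceOver.toBase n Z) (CohB1.ProjSpaceOver.toBase m Z) :=
    pullback.lift pn (CohB1.ProjSpaceOver.toBase n Y ≫ k) (by rw [hpn, Category.assoc, hkg])
  haveI : Mono u := ⟨fun {V} a b h => by
    have u1 : u ≫ pullback.fst _ _ = pn := pullback.lift_fst _ _ _
    have u2 : u ≫ pullback.snd _ _ = CohB1.ProjSpaceOver.toBase n Y ≫ k := pullback.lift_snd _ _ _
    have h1 : a ≫ pn = b ≫ pn := by
      rw [← u1, ← Category.assoc, ← Category.assoc, h]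
    have h2 : a ≫ CohB1.ProjSpaceOver.toBase n Y = b ≫ CohB1.ProjSpaceOver.toBase n Y := by
      rw [← cancel_mono k, Category.assoc, Category.assoc, ← u2, ← Category.assoc, ← Category.assoc, h]
    refine pullback.hom_ext ?_ h2
    have e : pn ≫ pullback.fst _ _ = pullback.fst _ _ := pullback.lift_fst _ _ _
    rw [← e]
    exact (Category.assoc _ _ _).symm.trans ((congrArg (· ≫ pullback.fst _ _) h1).trans (Category.assoc _ _ _))⟩
  let b := pullback.fst (CohB1.ProjSpaceOver.toBase n Z) (CohB1.ProjSpaceOver.toBase m Z) ≫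
    CohB1.ProjSpaceOver.toBase n Z
  have hub : u ≫ b = CohB1.ProjSpaceOver.toBase n Y ≫ g := by
    exact (pullback.lift_fst_assoc _ _ _ _).trans hpn
  haveI : IsProper (u ≫ b) := by rw [hub]; infer_instance
  haveI : IsProper u := IsProper.of_comp u b
  haveI : IsClosedImmersion u := (IsClosedImmersion.iff_isProper_and_mono u).mpr ⟨inferInstance, inferInstance⟩
  refine ⟨_, i ≫ u ≫ φ, inferInstance, ?_⟩
  rw [Category.assoc, Category.assoc, hφb]
  change i ≫ u ≫ b = f ≫ g
  rw [hub, reassoc_of% hif]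

end Groth.Chow
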