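import Groth.Agent.Chow.Lemma

/-! Chow's lemma without finiteness of irreducible components: isomorphism over some nonempty open. -/

set_option linter.style.haveILetI false
universe u

open CategoryTheory CategoryTheory.Limits AlgebraicGeometry TopologicalSpace

namespace Groth.Chow

theorem exists_affine_le_or_disjoint {X : Scheme.{u}} [Nonempty X] {k : ℕ} (V : Fin k → X.Opens)
    (t : Finset (Fin k)) : ∃ U : X.Opens, IsAffineOpen U ∧ (U : Set X).Nonempty ∧
      ∀ i ∈ t, U ≤ V i ∨ Disjoint U (V i) := by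
  classical
  induction t using Finset.induction with
  | empty =>
    obtain ⟨x⟩ := ‹Nonempty X›
    obtain ⟨_, ⟨U, hU, rfl⟩, hx, -⟩ :=
      X.isBasis_affineOpens.exists_subset_of_mem_open (Set.mem_univ x) isOpen_univ
    exact ⟨U, hU, ⟨x, hx⟩, by simp⟩
  | insert a t _ ih =>
    obtain ⟨U, hU, hne, hUt⟩ := ih
    by_cases hd : Disjoint U (V a)
    · refine ⟨U, hU, hne, fun i hi => ?_⟩
      rcases Finset.mem_insert.mp hi with rfl | hi
      · exact Or.inr hd
      · exact hUt i hi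
    · obtain ⟨x, hx⟩ : ((U ⊓ V a : X.Opens) : Set X).Nonempty := by
        by_contra h
        exact hd (disjoint_iff_inf_le.mpr fun z hz => (h ⟨z, hz⟩).elim)
      obtain ⟨_, ⟨U', hU', rfl⟩, hx', hle⟩ :=
        X.isBasis_affineOpens.exists_subset_of_mem_open hx (U ⊓ V a).isOpen
      have hle' : U' ≤ U ⊓ V a := hle
      refine ⟨U', hU', ⟨x, hx'⟩, fun i hi => ?_⟩
      rcases Finset.mem_insert.mp hi with rfl | hi
      · exact Or.inl (hle'.trans inf_le_right)
      · exact (hUt i hi).imp (fun h => (hle'.trans inf_le_left).trans h)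
          (fun h => h.mono_left (hle'.trans inf_le_left))

theorem exists_chow_nonempty {X S : Scheme.{u}} (f : X ⟶ S) [IsSeparated f] [LocallyOfFiniteType f]
    [CompactSpace X] [QuasiSeparatedSpace X] [Nonempty X] :
    ∃ (N : ℕ) (X' : Scheme.{u}) (π : X' ⟶ X) (j : X' ⟶ CohB1.ProjSpaceOver N S),
      IsImmersion j ∧ j ≫ CohB1.ProjSpaceOver.toBase N S = π ≫ f ∧ IsProper π ∧
      ∃ U : X.Opens, (U : Set X).Nonempty ∧ IsIso (π ∣_ U) := by
  classical
  have hb : ∀ x : X, ∃ U : X.Opens, IsAffineOpen U ∧ x ∈ U := fun x => by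
    obtain ⟨_, ⟨U, hU, rfl⟩, hx, -⟩ :=
      X.isBasis_affineOpens.exists_subset_of_mem_open (Set.mem_univ x) isOpen_univ
    exact ⟨U, hU, hx⟩
  choose W hW hxW using hb
  obtain ⟨t, ht⟩ := CompactSpace.isCompact_univ.elim_finite_subcover
    (fun x => (W x : Set X)) (fun x => (W x).isOpen) (fun x _ => Set.mem_iUnion.mpr ⟨x, hxW x⟩)
  let V₀ : Fin t.card → X.Opens := fun i => W (t.equivFin.symm i)
  obtain ⟨U, hU, hne, hUV⟩ := exists_affine_le_or_disjoint V₀ Finset.univ
  let V : Fin t.card → X.Opens := fun i => V₀ i ⊔ U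
  have hVaff : ∀ i, IsAffineOpen (V i) := fun i => by
    rcases hUV i (Finset.mem_univ _) with h | h
    · show IsAffineOpen (V₀ i ⊔ U)
      rw [sup_eq_left.mpr h]; exact hW _
    · exact IsAffineOpen.sup_of_disjoint (hW _) hU h.symm
  have hV : ⨆ i, V i = ⊤ := by
    refine top_le_iff.mp fun z _ => ?_
    obtain ⟨x, hx⟩ := Set.mem_iUnion.mp (ht (Set.mem_univ z))
    obtain ⟨hxt, hz⟩ := Set.mem_iUnion.mp hx
    exact TopologicalSpace.Opens.mem_iSup.mpr ⟨t.equivFin ⟨x, hxt⟩, Or.inl (by simpa [V₀] using hz)⟩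
  have hemb : ∀ i, ∃ (m : ℕ) (e : (V i).toScheme ⟶ CohB1.ProjSpaceOver m S),
      IsImmersion e ∧ e ≫ CohB1.ProjSpaceOver.toBase m S = (V i).ι ≫ f := fun i => by
    haveI : IsAffine (V i).toScheme := hVaff i
    exact exists_immersion_projSpaceOver _
  choose m e he heb using hemb
  obtain ⟨N, X', π, j, hj, hjb, hπ, hiso, -⟩ :=
    chow_core f V hV m e he heb U hU.isCompact fun i => le_sup_right
  exact ⟨N, X', π, j, hj, hjb, hπ, U, hne, hiso⟩

end Groth.Chow
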