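import Mathlib

/-!
# Determinants of endomorphisms preserving a finitely generated lattice
-/

universe u v w

namespace Groth.Chow

open Module

/-- If `f` maps the generators of a lattice into `J` times the lattice, `det f` is a root of a monic
polynomial which is congruent to a power of the variable modulo `J`. -/
theorem exists_monic_det_of_lattice {A : Type u} {K : Type v} {V : Type w} [CommRing A] [Field K]
    [AddCommGroup V] [Module K V] [Algebra A K] [Module A V] [IsScalarTower A K V] [FiniteDimensional K V]
    [Nontrivial V] {k : ℕ} (v : Fin k → V) (hv : Submodule.span K (Set.range v) = ⊤) (J : Ideal A)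
    (f : V →ₗ[K] V) (hf : ∀ i, f (v i) ∈ J • Submodule.span A (Set.range v)) :
    ∃ P : Polynomial A, P.Monic ∧ Polynomial.aeval (LinearMap.det f) P = 0 ∧
      ∀ i < P.natDegree, P.coeff i ∈ J := by
  classical
  let n := finrank K V
  let β : Basis (Fin n) K V := finBasis K V
  have hn : 0 < n := finrank_pos
  let w : (Fin n → Fin k) → K := fun σ => β.det fun j => v (σ j)
  let I : Submodule A K := Submodule.span A (Set.range w)
  choose m hm hmv using fun i => (Submodule.mem_ideal_smul_span_iff_exists_sum J v (f (v i))).1 (hf i)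
  have key : ∀ σ, LinearMap.det f * w σ ∈ J • I := by
    intro σ
    change LinearMap.det f * β.det (fun j => v (σ j)) ∈ _
    rw [← β.det_comp f]
    have e : (f ∘ fun j => v (σ j)) = fun j => ∑ i, m (σ j) i • v i := by
      funext j
      rw [Function.comp_apply, ← hmv (σ j)]
      exact Finsupp.sum_fintype _ _ fun i => zero_smul A (v i)
    rw [e]
    change ((β.det.toMultilinearMap.restrictScalars A) fun j => ∑ i, m (σ j) i • v i) ∈ _
    rw [MultilinearMap.map_sum]
    refine sum_mem fun τ _ => ?_
    rw [MultilinearMap.map_smul_univ]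
    exact Submodule.smul_mem_smul
      (Ideal.mem_of_dvd J (Finset.dvd_prod_of_mem _ (Finset.mem_univ ⟨0, hn⟩)) (hm _ _))
      (Submodule.subset_span ⟨τ, rfl⟩)
  obtain ⟨σ, hσ⟩ : ∃ σ, w σ ≠ 0 := by
    obtain ⟨b, hbv, hsp, hli⟩ := exists_linearIndependent K (Set.range v)
    rw [hv] at hsp
    let bb : Basis b K V := Basis.mk hli (by rw [Subtype.range_coe]; exact hsp.ge)
    haveI : Fintype b := FiniteDimensional.fintypeBasisIndex bb
    let e : Fin n ≃ b := (Fintype.equivFinOfCardEq (finrank_eq_card_basis bb).symm).symm
    choose σ hσ using fun j => hbv (e j).2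
    refine ⟨σ, ?_⟩
    change β.det (fun j => v (σ j)) ≠ 0
    have : (fun j => v (σ j)) = bb.reindex e.symm := funext fun j => by simp [bb, hσ]
    rw [this]
    exact IsUnit.ne_zero (β.isUnit_det (bb.reindex e.symm))
  have hI : ∀ x ∈ I, LinearMap.det f * x ∈ J • I := by
    intro x hx
    induction hx using Submodule.span_induction with
    | mem x hx => obtain ⟨σ, rfl⟩ := hx; exact key σ
    | zero => rw [mul_zero]; exact zero_mem _
    | add x y _ _ hx hy => rw [mul_add]; exact add_mem hx hy
    | smul a x _ hx => rw [mul_smul_comm]; exact Submodule.smul_mem _ a hx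
  let φ : Module.End A I :=
    (LinearMap.mulLeft A (LinearMap.det f)).restrict fun x hx => Submodule.smul_le_right (hI x hx)
  haveI : Module.Finite A I := Module.Finite.iff_fg.2 (Submodule.fg_span (Set.finite_range w))
  have hφ : LinearMap.range φ ≤ J • (⊤ : Submodule A I) := by
    rintro _ ⟨x, rfl⟩
    refine (Submodule.mem_smul_top_iff J I _).2 ?_
    exact hI x.1 x.2
  obtain ⟨P, hP, hdeg, hcoeff, hPφ⟩ :=
    LinearMap.exists_monic_and_natDegree_eq_and_coeff_mem_pow_and_aeval_eq_zero A φ J hφ
  refine ⟨P, hP, ?_, fun i hi => ?_⟩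
  · have e : ∀ (Q : Polynomial A) (x : I),
        ((Polynomial.aeval φ Q) x : K) = Polynomial.aeval (LinearMap.det f) Q * (x : K) := by
      intro Q x
      induction Q using Polynomial.induction_on' with
      | add p q hp hq => simp [hp, hq, add_mul]
      | monomial i a =>
        have hpow : ∀ i, ((φ ^ i) x : K) = LinearMap.det f ^ i * (x : K) := by
          intro i
          induction i with
          | zero => simp
          | succ i ih =>
            rw [pow_succ', Module.End.mul_apply]
            change LinearMap.det f * ((φ ^ i) x : K) = _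
            rw [ih, pow_succ', mul_assoc]
        rw [Polynomial.aeval_monomial, Polynomial.aeval_monomial]
        simp [hpow, Algebra.smul_def, mul_assoc]
    have := e P ⟨w σ, Submodule.subset_span ⟨σ, rfl⟩⟩
    rw [hPφ] at this
    simpa [hσ] using this.symm
  · have h1 := hcoeff i
    rw [hdeg] at hi
    exact Ideal.pow_le_self (by omega) (hdeg ▸ h1)

/-- Over a normal domain the determinant is integral, and lies in `J` if `J` is prime. -/
theorem exists_det_eq_algebraMap {A : Type u} {K : Type v} {V : Type w} [CommRing A] [IsDomain A]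
    [IsIntegrallyClosed A] [Field K] [AddCommGroup V] [Module K V] [Algebra A K] [IsFractionRing A K]
    [Module A V] [IsScalarTower A K V] [FiniteDimensional K V] [Nontrivial V] {k : ℕ} (v : Fin k → V)
    (hv : Submodule.span K (Set.range v) = ⊤) (J : Ideal A) (f : V →ₗ[K] V)
    (hf : ∀ i, f (v i) ∈ J • Submodule.span A (Set.range v)) :
    ∃ a : A, algebraMap A K a = LinearMap.det f ∧ (J.IsPrime → a ∈ J) := by
  obtain ⟨P, hP, hd, hcoeff⟩ := exists_monic_det_of_lattice v hv J f hf
  obtain ⟨a, ha⟩ := IsIntegrallyClosed.isIntegral_iff.1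
    (⟨P, hP, by rwa [← Polynomial.aeval_def]⟩ : IsIntegral A (LinearMap.det f))
  refine ⟨a, ha, fun hJ => ?_⟩
  rw [← ha, Polynomial.aeval_algebraMap_apply, map_eq_zero_iff _ (IsFractionRing.injective A K)] at hd
  rw [Polynomial.aeval_eq_sum_range, Finset.sum_range_succ, hP.coeff_natDegree, one_smul] at hd
  refine hJ.mem_of_pow_mem P.natDegree ?_
  rw [eq_neg_of_add_eq_zero_right hd]
  exact neg_mem (sum_mem fun i hi => by
    rw [smul_eq_mul]
    exact J.mul_mem_right _ (hcoeff i (Finset.mem_range.1 hi)))

end Groth.Chow
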