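import Groth.Agent.Chow.NormGen

universe u

open CategoryTheory AlgebraicGeometry Opposite TopologicalSpace

set_option backward.isDefEq.respectTransparency.types false

namespace Groth.Chow

open Groth.PicAux

variable {X' X : Scheme.{u}} (g : X' ⟶ X)

/-- A basis of the restriction of `g_*O` to `T` is a basis of `g_*O`. -/
theorem bijective_of_restrict_basis (T : X.Opens) {W₀ : T.toScheme.Opens} {n : ℕ}
    {s : Fin n → Γ(((Coh.push g).obj (Coh.structureModule X')).restrict T.ι, W₀)}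
    (hs : Basis' (((Coh.push g).obj (Coh.structureModule X')).restrict T.ι) W₀ s) (V : X.Opens)
    (hV : V ≤ T.ι ''ᵁ W₀) :
    Function.Bijective fun r : Fin n → Γ(X, V) =>
      ∑ i, g.app V (r i) * resX X' (g.preimage_mono hV) (s i : Γ(X', g ⁻¹ᵁ (T.ι ''ᵁ W₀))) := by
  obtain ⟨A, rfl⟩ : ∃ A : T.toScheme.Opens, T.ι ''ᵁ A = V :=
    ⟨T.ι ⁻¹ᵁ V, by
      rw [Scheme.Hom.image_preimage_eq_opensRange_inf, Scheme.Opens.opensRange_ι]
      exact inf_eq_right.2 (hV.trans (T.ι_image_le W₀))⟩
  have hA : A ≤ W₀ := fun y hy => by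
    obtain ⟨z, hz, hzy⟩ := hV ⟨y, hy, rfl⟩
    exact T.ι.isOpenEmbedding.injective hzy ▸ hz
  refine (congrArg Function.Bijective (funext fun r => ?_)).mpr (hs A hA)
  exact Finset.sum_congr rfl fun i _ => Eq.trans rfl (restrict_smul T A (r i)
    (res (((Coh.push g).obj (Coh.structureModule X')).restrict T.ι) hA (s i))).symm

end Groth.Chow
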