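import Mathlib
import Groth.Agent.Chow.NormFin
import Groth.Agent.Chow.NormInt
import Groth.Agent.VarietyBC.AffineNhd
import Groth.Agent.PropsBasic2.SchTop

/-!
# The generic norm along a finite morphism to a reduced scheme
-/

universe u

open CategoryTheory AlgebraicGeometry Opposite TopologicalSpace

set_option backward.isDefEq.respectTransparency.types false

namespace Groth.Chow

open Groth.PicAux

variable {X' X : Scheme.{u}} (g : X' ⟶ X)

/-- The stalk of `g_*O` as a ring. -/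
def PStalk (z : X) : Type u :=
  ((TopCat.Presheaf.pushforward CommRingCat.{u} g.base).obj X'.presheaf).stalk z

noncomputable instance (z : X) : CommRing (PStalk g z) :=
  inferInstanceAs (CommRing
    (((TopCat.Presheaf.pushforward CommRingCat.{u} g.base).obj X'.presheaf).stalk z : CommRingCat.{u}))

/-- The germ of a function on `g⁻¹V`. -/
noncomputable def pgerm (V : X.Opens) (z : X) (hz : z ∈ V) : Γ(X', g ⁻¹ᵁ V) →+* PStalk g z :=
  (((TopCat.Presheaf.pushforward CommRingCat.{u} g.base).obj X'.presheaf).germ V z hz).hom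

noncomputable instance (z : X) : Algebra (X.presheaf.stalk z) (PStalk g z) :=
  (((TopCat.Presheaf.stalkFunctor CommRingCat.{u} z).map g.c).hom :
    X.presheaf.stalk z →+* PStalk g z).toAlgebra

theorem pgerm_app {V : X.Opens} {z : X} (hz : z ∈ V) (a : Γ(X, V)) :
    pgerm g V z hz (g.app V a) = algebraMap _ (PStalk g z) (X.presheaf.germ V z hz a) :=
  (TopCat.Presheaf.stalkFunctor_map_germ_apply V z hz g.c a).symm

theorem pgerm_res {V W : X.Opens} (h : W ≤ V) {z : X} (hz : z ∈ W) (c : Γ(X', g ⁻¹ᵁ V)) :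
    pgerm g W z hz (resX X' (g.preimage_mono h) c) = pgerm g V z (h hz) c :=
  TopCat.Presheaf.germ_res_apply ((TopCat.Presheaf.pushforward CommRingCat.{u} g.base).obj X'.presheaf)
    (homOfLE h) z hz c

theorem germ_resX {V W : X.Opens} (h : W ≤ V) {z : X} (hz : z ∈ W) (a : Γ(X, V)) :
    X.presheaf.germ W z hz (resX X h a) = X.presheaf.germ V z (h hz) a :=
  TopCat.Presheaf.germ_res_apply X.presheaf (homOfLE h) z hz a

theorem exists_pgerm (z : X) (b : PStalk g z) :
    ∃ (V : X.Opens) (hz : z ∈ V) (c : Γ(X', g ⁻¹ᵁ V)), pgerm g V z hz c = b :=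
  TopCat.Presheaf.exists_germ_eq ((TopCat.Presheaf.pushforward CommRingCat.{u} g.base).obj X'.presheaf)
    (x := z) b

theorem pgerm_eq_iff {V V' : X.Opens} {z : X} (hz : z ∈ V) (hz' : z ∈ V') (c : Γ(X', g ⁻¹ᵁ V))
    (c' : Γ(X', g ⁻¹ᵁ V')) (h : pgerm g V z hz c = pgerm g V' z hz' c') :
    ∃ (W : X.Opens) (i : W ≤ V) (i' : W ≤ V'), z ∈ W ∧
      resX X' (g.preimage_mono i) c = resX X' (g.preimage_mono i') c' := by
  obtain ⟨W, hW, i, i', e⟩ := TopCat.Presheaf.germ_eq
    ((TopCat.Presheaf.pushforward CommRingCat.{u} g.base).obj X'.presheaf) z hz hz' c c' h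
  exact ⟨W, i.le, i'.le, hW, e⟩

/-- Generalization of stalks. -/
noncomputable def pspec {η z : X} (h : η ⤳ z) : PStalk g z →+* PStalk g η :=
  (((TopCat.Presheaf.pushforward CommRingCat.{u} g.base).obj X'.presheaf).stalkSpecializes h).hom

theorem pspec_pgerm {η z : X} (h : η ⤳ z) {V : X.Opens} (hz : z ∈ V) (c : Γ(X', g ⁻¹ᵁ V)) :
    pspec g h (pgerm g V z hz c) = pgerm g V η (h.mem_open V.isOpen hz) c :=
  congr($(TopCat.Presheaf.germ_stalkSpecializes
    ((TopCat.Presheaf.pushforward CommRingCat.{u} g.base).obj X'.presheaf) hz h) c)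

theorem stalkSpec_germ {η z : X} (h : η ⤳ z) {V : X.Opens} (hz : z ∈ V) (a : Γ(X, V)) :
    X.presheaf.stalkSpecializes h (X.presheaf.germ V z hz a) =
      X.presheaf.germ V η (h.mem_open V.isOpen hz) a :=
  congr($(TopCat.Presheaf.germ_stalkSpecializes X.presheaf hz h) a)

theorem pspec_algebraMap {η z : X} (h : η ⤳ z) (a : X.presheaf.stalk z) :
    pspec g h (algebraMap _ (PStalk g z) a) =
      algebraMap _ (PStalk g η) (X.presheaf.stalkSpecializes h a) := by
  obtain ⟨V, hz, r, rfl⟩ := TopCat.Presheaf.exists_germ_eq X.presheaf (x := z) a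
  rw [← pgerm_app, pspec_pgerm, pgerm_app, stalkSpec_germ]

theorem isUnit_pgerm_iff (hg : IsClosedMap g) {V : X.Opens} {z : X} (hz : z ∈ V)
    (c : Γ(X', g ⁻¹ᵁ V)) :
    IsUnit (pgerm g V z hz c) ↔ ∀ y, g y = z → y ∈ X'.basicOpen c := by
  constructor
  · intro h y hy
    obtain ⟨b, hb⟩ := h.exists_right_inv
    obtain ⟨V', hz', d, rfl⟩ := exists_pgerm g z b
    have e : pgerm g (V ⊓ V') z ⟨hz, hz'⟩
        (resX X' (g.preimage_mono inf_le_left) c * resX X' (g.preimage_mono inf_le_right) d) =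
        pgerm g (V ⊓ V') z ⟨hz, hz'⟩ 1 := by
      rw [map_mul, pgerm_res g inf_le_left, pgerm_res g inf_le_right, hb, map_one]
    obtain ⟨W, i, i', hzW, e'⟩ := pgerm_eq_iff g _ _ _ _ e
    rw [map_mul, map_one, resX_resX] at e'
    have h1 := Scheme.basicOpen_of_isUnit _ (IsUnit.of_mul_eq_one _ e')
    rw [show X'.basicOpen (resX X' _ c) = g ⁻¹ᵁ W ⊓ X'.basicOpen c from
      X'.basicOpen_res c (homOfLE _).op] at h1
    exact (h1.ge (show g y ∈ W from hy ▸ hzW)).2
  · intro h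
    let O : X.Opens :=
      ⟨(g '' (X'.basicOpen c : Set X')ᶜ)ᶜ, (hg _ (X'.basicOpen c).isOpen.isClosed_compl).isOpen_compl⟩
    have hzO : z ∈ O := fun ⟨y, hy, hyz⟩ => hy (h y hyz)
    have hle : g ⁻¹ᵁ (V ⊓ O) ≤ X'.basicOpen c := fun y hy => by
      by_contra hy'
      exact hy.2 ⟨y, hy', rfl⟩
    rw [← pgerm_res g (inf_le_left : V ⊓ O ≤ V) ⟨hz, hzO⟩]
    refine IsUnit.map _ ?_
    have h2 := (RingedSpace.isUnit_res_basicOpen _ c).map (resX X' hle)
    exact (resX_resX (X'.basicOpen_le c) hle c) ▸ h2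

/-- The germs of generators on an affine open generate every stalk. -/
theorem exists_span_pgerm [IsFinite g] {V : X.Opens} (hV : IsAffineOpen V) :
    ∃ (k : ℕ) (v : Fin k → Γ(X', g ⁻¹ᵁ V)), ∀ (z : X) (hz : z ∈ V),
      Submodule.span (X.presheaf.stalk z) (Set.range fun i => pgerm g V z hz (v i)) = ⊤ := by
  letI := secAlg g V
  haveI : Module.Finite Γ(X, V) Γ(X', g ⁻¹ᵁ V) := g.finite_app V hV
  obtain ⟨k, v, hv⟩ := Module.Finite.exists_fin (R := Γ(X, V)) (M := Γ(X', g ⁻¹ᵁ V))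
  refine ⟨k, v, fun z hz => eq_top_iff.2 fun b _ => ?_⟩
  have hlin : ∀ s : Γ(X', g ⁻¹ᵁ V), pgerm g V z hz s ∈
      Submodule.span (X.presheaf.stalk z) (Set.range fun i => pgerm g V z hz (v i)) := by
    intro s
    have hs : s ∈ Submodule.span Γ(X, V) (Set.range v) := hv ▸ trivial
    induction hs using Submodule.span_induction with
    | mem x hx => obtain ⟨i, rfl⟩ := hx; exact Submodule.subset_span ⟨i, rfl⟩
    | zero => rw [map_zero]; exact zero_mem _
    | add x y _ _ hx hy => rw [map_add]; exact add_mem hx hy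
    | smul a x _ hx =>
      rw [Algebra.smul_def, map_mul]
      change pgerm g V z hz (g.app V a) * _ ∈ _
      rw [pgerm_app, ← Algebra.smul_def]
      exact Submodule.smul_mem _ _ hx
  obtain ⟨W, hzW, c, rfl⟩ := exists_pgerm g z b
  obtain ⟨a, haW, hza⟩ := hV.exists_basicOpen_le (V := W) ⟨z, hzW⟩ hz
  rw [← pgerm_res g haW hza]
  generalize resX X' (g.preimage_mono haW) c = c'
  let i : g ⁻¹ᵁ X.basicOpen a ⟶ g ⁻¹ᵁ V := homOfLE (g.preimage_mono (X.basicOpen_le a))
  letI : Algebra Γ(X', g ⁻¹ᵁ V) Γ(X', g ⁻¹ᵁ X.basicOpen a) := (X'.presheaf.map i.op).hom.toAlgebra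
  haveI : IsLocalization.Away (g.app V a) Γ(X', g ⁻¹ᵁ X.basicOpen a) :=
    (hV.preimage g).isLocalization_of_eq_basicOpen _ i (g.preimage_basicOpen a)
  obtain ⟨m, s, hs⟩ := IsLocalization.Away.surj (g.app V a) c'
  have h1 := congrArg (pgerm g (X.basicOpen a) z hza) hs
  rw [map_mul, map_pow] at h1
  change pgerm g _ z hza c' * pgerm g _ z hza (resX X' (g.preimage_mono (X.basicOpen_le a)) (g.app V a)) ^ m =
    pgerm g _ z hza (resX X' (g.preimage_mono (X.basicOpen_le a)) s) at h1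
  rw [pgerm_res g (X.basicOpen_le a), pgerm_res g (X.basicOpen_le a), pgerm_app, ← map_pow, mul_comm, ← Algebra.smul_def] at h1
  have hu : IsUnit (X.presheaf.germ V z hz a) := (X.mem_basicOpen _ _ hz).1 hza
  have h2 := hlin s
  rw [← h1] at h2
  obtain ⟨u, hu'⟩ := hu.pow m
  have h3 := Submodule.smul_mem _ (↑u⁻¹ : X.presheaf.stalk z) h2
  rwa [← hu', smul_smul, Units.inv_mul, one_smul] at h3

instance [IsFinite g] (z : X) : Module.Finite (X.presheaf.stalk z) (PStalk g z) := by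
  obtain ⟨V, hV, hz, -⟩ := exists_isAffineOpen_mem_and_subset (x := z) (U := (⊤ : X.Opens)) trivial
  obtain ⟨k, v, hv⟩ := exists_span_pgerm g hV
  exact ⟨Submodule.fg_def.2 ⟨_, Set.finite_range _, hv z hz⟩⟩

theorem nontrivial_pstalk [Surjective g] (z : X) : Nontrivial (PStalk g z) := by
  obtain ⟨y, rfl⟩ := g.surjective z
  refine ⟨⟨0, 1, fun h => ?_⟩⟩
  have e : pgerm g ⊤ (g y) trivial 0 = pgerm g ⊤ (g y) trivial 1 := by rw [map_zero, map_one]; exact h
  obtain ⟨W, i, i', hzW, e'⟩ := pgerm_eq_iff g _ _ _ _ e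
  haveI : Nonempty (g ⁻¹ᵁ W : X'.Opens) := ⟨⟨y, hzW⟩⟩
  rw [map_zero, map_one] at e'
  exact zero_ne_one e'

/-- `η` has no proper generalization. -/
def IsGen (η : X) : Prop := ∀ w : X, w ⤳ η → w = η

theorem exists_isGen_specializes (x : X) : ∃ η, IsGen η ∧ η ⤳ x := by
  obtain ⟨η, h1, h2⟩ := Groth.PropsBasic2.exists_genericPoint_specializes x
  exact ⟨η, (Groth.PropsBasic2.closure_mem_irreducibleComponents_iff η).1 h1, h2⟩

theorem finite_isGen [IsNoetherian X] : {η : X | IsGen η}.Finite :=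
  (genericPoints.finite (NoetherianSpace.finite_irreducibleComponents (α := X))).subset fun η h =>
    (Groth.PropsBasic2.closure_mem_irreducibleComponents_iff η).2 h

theorem exists_nhd_isGen [IsNoetherian X] (z : X) :
    ∃ W : X.Opens, z ∈ W ∧ ∀ η ∈ W, IsGen η → η ⤳ z := by
  let C : Set X := ⋃ η ∈ {η : X | IsGen η ∧ ¬ η ⤳ z}, closure {η}
  have hC : IsClosed C :=
    (finite_isGen.subset fun η h => h.1).isClosed_biUnion fun _ _ => isClosed_closure
  refine ⟨⟨Cᶜ, hC.isOpen_compl⟩, fun h => ?_, fun η hη hg => by_contra fun h => hη ?_⟩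
  · obtain ⟨η, hη, hz⟩ := Set.mem_iUnion₂.1 h
    exact hη.2 (specializes_iff_mem_closure.2 hz)
  · exact Set.mem_iUnion₂.2 ⟨η, ⟨hg, h⟩, subset_closure rfl⟩

theorem section_ext_gen [IsReduced X] {V : X.Opens} {r r' : Γ(X, V)}
    (h : ∀ η, IsGen η → ∀ hη : η ∈ V, X.presheaf.germ V η hη r = X.presheaf.germ V η hη r') :
    r = r' := by
  rw [← sub_eq_zero]
  refine eq_zero_of_basicOpen_eq_bot _ (eq_bot_iff.2 fun x hx => ?_)
  obtain ⟨η, hη, hηx⟩ := exists_isGen_specializes x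
  have h1 : η ∈ X.basicOpen (r - r') := hηx.mem_open (X.basicOpen (r - r')).isOpen hx
  have hηV : η ∈ V := X.basicOpen_le _ h1
  rw [X.mem_basicOpen _ _ hηV, map_sub, h η hη hηV, sub_self] at h1
  exact (not_isUnit_zero h1).elim

theorem stalk_ext_gen [IsNoetherian X] [IsReduced X] {z : X} {a a' : X.presheaf.stalk z}
    (h : ∀ η, IsGen η → ∀ hz : η ⤳ z,
      X.presheaf.stalkSpecializes hz a = X.presheaf.stalkSpecializes hz a') : a = a' := by
  obtain ⟨V, hV, r, rfl⟩ := TopCat.Presheaf.exists_germ_eq X.presheaf (x := z) a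
  obtain ⟨V', hV', r', rfl⟩ := TopCat.Presheaf.exists_germ_eq X.presheaf (x := z) a'
  obtain ⟨W, hzW, hW⟩ := exists_nhd_isGen z
  have hU : z ∈ V ⊓ V' ⊓ W := ⟨⟨hV, hV'⟩, hzW⟩
  rw [← germ_resX (inf_le_left.trans inf_le_left : V ⊓ V' ⊓ W ≤ V) hU,
    ← germ_resX (inf_le_left.trans inf_le_right : V ⊓ V' ⊓ W ≤ V') hU] at h ⊢
  congr 1
  refine section_ext_gen fun η hη hηU => ?_
  have h1 := h η hη (hW η hηU.2 hη)
  rwa [stalkSpec_germ, stalkSpec_germ] at h1

end Groth.Chow
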