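import Groth.Agent.Chow.Segre
import Groth.Agent.Ega2Proj.ProjSpaceSection

/-! Finite products of projective spaces over a base, embedded by Segre. -/

universe u

open CategoryTheory CategoryTheory.Limits AlgebraicGeometry

namespace Groth.Chow

/-- A finite product of projective spaces over `S` is a closed subscheme of a projective space.
Only the existence part of the universal property is recorded. -/
theorem exists_prodProj (S : Scheme.{u}) : ∀ (k : ℕ) (m : Fin k → ℕ),
    ∃ (N : ℕ) (P : Scheme.{u}) (p : P ⟶ S) (pr : ∀ i, P ⟶ CohB1.ProjSpaceOver (m i) S)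
      (c : P ⟶ CohB1.ProjSpaceOver N S),
      IsClosedImmersion c ∧ c ≫ CohB1.ProjSpaceOver.toBase N S = p ∧
      (∀ i, pr i ≫ CohB1.ProjSpaceOver.toBase (m i) S = p) ∧
      ∀ {T : Scheme.{u}} (t : T ⟶ S) (g : ∀ i, T ⟶ CohB1.ProjSpaceOver (m i) S),
        (∀ i, g i ≫ CohB1.ProjSpaceOver.toBase (m i) S = t) →
          ∃ h : T ⟶ P, h ≫ p = t ∧ ∀ i, h ≫ pr i = g i
  | 0, m => by
    refine ⟨0, _, CohB1.ProjSpaceOver.toBase 0 S, fun i => i.elim0, 𝟙 _, inferInstance,
      Category.id_comp _, fun i => i.elim0, fun {T} t g _ => ?_⟩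
    obtain ⟨s, hs⟩ := Groth.Ega2Proj.exists_section_projSpace.{u} 0 (ULift.{u} ℤ)
    exact ⟨pullback.lift (specULiftZIsTerminal.from T ≫ s) t (specULiftZIsTerminal.hom_ext _ _),
      pullback.lift_snd _ _ _, fun i => i.elim0⟩
  | k + 1, m => by
    obtain ⟨N, P, p, pr, c, hc, hcp, hpr, hlift⟩ := exists_prodProj S k (fun i => m i.succ)
    obtain ⟨φ, hφ, hφb⟩ := exists_segre_over S N (m 0)
    let p' := pullback.fst p (CohB1.ProjSpaceOver.toBase (m 0) S) ≫ p
    let c' : pullback p (CohB1.ProjSpaceOver.toBase (m 0) S) ⟶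
        pullback (CohB1.ProjSpaceOver.toBase N S) (CohB1.ProjSpaceOver.toBase (m 0) S) :=
      pullback.map _ _ _ _ c (𝟙 _) (𝟙 _) (by simp [hcp]) (by simp)
    haveI : IsClosedImmersion c' :=
      MorphismProperty.pullbackMap (P := @IsClosedImmersion) hc
        (MorphismProperty.id_mem _ _) hcp.symm (Category.id_comp _).symm
    let pr' : ∀ i : Fin (k + 1), pullback p (CohB1.ProjSpaceOver.toBase (m 0) S) ⟶
        CohB1.ProjSpaceOver (m i) S :=
      Fin.cases (pullback.snd _ _) (fun i => pullback.fst _ _ ≫ pr i)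
    refine ⟨_, _, p', pr', c' ≫ φ, inferInstance, ?_, ?_, fun {T} t g hg => ?_⟩
    · rw [Category.assoc, hφb, pullback.lift_fst_assoc, Category.assoc, hcp]
    · intro i
      induction i using Fin.cases with
      | zero => exact pullback.condition.symm
      | succ i => simp [pr', p', hpr]
    · obtain ⟨h, hh, hhi⟩ := hlift t (fun i => g i.succ) (fun i => hg i.succ)
      refine ⟨pullback.lift h (g 0) (hh.trans (hg 0).symm), ?_, fun i => ?_⟩
      · exact (pullback.lift_fst_assoc _ _ _ p).trans hh
      · induction i using Fin.cases with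
        | zero => exact pullback.lift_snd _ _ _
        | succ i => exact (pullback.lift_fst_assoc _ _ _ (pr i)).trans (hhi i)

end Groth.Chow
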