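import Groth.Agent.Chow.ImmAmple
import Groth.Agent.Chow.ProjEmb.Iso

/-! From an immersion into projective space over the base: projectivity over `X`, quasi-projectivity over `S`. -/

set_option linter.style.haveILetI false
universe u

open CategoryTheory CategoryTheory.Limits AlgebraicGeometry

namespace Groth.Chow

theorem isProjective_of_immersion {X' X S : Scheme.{u}} {N : ℕ} (π : X' ⟶ X) (f : X ⟶ S)
    (j : X' ⟶ CohB1.ProjSpaceOver N S) [IsImmersion j] [IsProper π]
    (hj : j ≫ CohB1.ProjSpaceOver.toBase N S = π ≫ f) : RelProj.IsProjective π := by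
  haveI := Groth.Variety2.isProper_projSpaceOver_toBase N X
  let pn : CohB1.ProjSpaceOver N X ⟶ CohB1.ProjSpaceOver N S :=
    pullback.lift (pullback.fst _ _) (CohB1.ProjSpaceOver.toBase N X ≫ f) (specULiftZIsTerminal.hom_ext _ _)
  let l : X' ⟶ CohB1.ProjSpaceOver N X :=
    pullback.lift (j ≫ PEmb.prZ N S) π (specULiftZIsTerminal.hom_ext _ _)
  have hl : l ≫ CohB1.ProjSpaceOver.toBase N X = π := pullback.lift_snd _ _ _
  have hl1 : l ≫ PEmb.prZ N X = j ≫ PEmb.prZ N S := pullback.lift_fst _ _ _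
  have hlj : l ≫ pn = j := by
    apply pullback.hom_ext
    · show (l ≫ pn) ≫ PEmb.prZ N S = j ≫ PEmb.prZ N S
      rw [Category.assoc, show pn ≫ PEmb.prZ N S = PEmb.prZ N X from pullback.lift_fst _ _ _, hl1]
    · show (l ≫ pn) ≫ CohB1.ProjSpaceOver.toBase N S = j ≫ CohB1.ProjSpaceOver.toBase N S
      rw [Category.assoc, show pn ≫ CohB1.ProjSpaceOver.toBase N S =
        CohB1.ProjSpaceOver.toBase N X ≫ f from pullback.lift_snd _ _ _, hj, reassoc_of% hl]
  haveI : Mono (l ≫ pn) := by rw [hlj]; infer_instance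
  haveI : Mono l := mono_of_mono l pn
  haveI : IsProper (l ≫ CohB1.ProjSpaceOver.toBase N X) := by rw [hl]; infer_instance
  haveI : IsProper l := IsProper.of_comp l (CohB1.ProjSpaceOver.toBase N X)
  haveI : IsClosedImmersion l := (IsClosedImmersion.iff_isProper_and_mono l).mpr ⟨inferInstance, inferInstance⟩
  rw [← hl]
  exact PEmb.isProjective l

theorem isQuasiProjective_of_immersion {X' X S : Scheme.{u}} {N : ℕ} (π : X' ⟶ X) (f : X ⟶ S)
    (j : X' ⟶ CohB1.ProjSpaceOver N S) [IsImmersion j] [QuasiCompact π] [QuasiCompact f]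
    (hj : j ≫ CohB1.ProjSpaceOver.toBase N S = π ≫ f) : RelProj.IsQuasiProjective (π ≫ f) := by
  haveI : QuasiCompact (PEmb.strMap j) := by
    show QuasiCompact (j ≫ CohB1.ProjSpaceOver.toBase N S)
    rw [hj]; infer_instance
  rw [← hj]
  exact PEmb.isQuasiProjective j

end Groth.Chow
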