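import Groth.Agent.Chow.ProjEmb.Data
import Groth.Agent.Ega2Proj2.GenDeg
import Groth.Agent.Ega2Proj2.ProjLoc

/-! `Proj` of a graded algebra generated by finitely many degree-one elements is closed in a projective space. -/

set_option linter.style.haveILetI false
universe u

open CategoryTheory CategoryTheory.Limits AlgebraicGeometry TopologicalSpace
open scoped HomogeneousIdeal

namespace Groth.Chow.PLoc

noncomputable section

open HomogeneousLocalization

variable {A τ : Type u} [CommRing A] [SetLike τ A] [AddSubgroupClass τ A] {𝒜 : ℕ → τ} [GradedRing 𝒜]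
  {B : Scheme.{u}} [IsAffine B] {m : ℕ} (σ : Γ(B, ⊤) ⟶ CommRingCat.of (𝒜 0))
  (t : Fin (m + 1) → A) (ht : ∀ j, t j ∈ 𝒜 1)

/-- the comparison from the polynomial ring -/
def φ : pg.{u} m →+*ᵍ 𝒜 :=
  { (MvPolynomial.eval₂Hom (castZ A) t : MvPolynomial (Fin (m + 1)) Z.{u} →+* A) with
    map_mem := fun {n p} hp => by
      show MvPolynomial.eval₂ (castZ A) t p ∈ 𝒜 n
      rw [MvPolynomial.eval₂_eq']
      refine sum_mem fun d hd => ?_
      have hp' : MvPolynomial.IsHomogeneous p n := by simpa using hp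
      have hdeg : ∑ l, d l = n := by
        have := hp' (MvPolynomial.mem_support_iff.mp hd)
        rwa [Finsupp.weight_apply, Finsupp.sum_fintype _ _ (by simp), show
          (∑ l, d l • (1 : Fin (m + 1) → ℕ) l) = ∑ l, d l by simp] at this
      have h0 : castZ A (p.coeff d) ∈ 𝒜 0 := SetLike.intCast_mem_graded _ _
      have h1 := SetLike.prod_pow_mem_graded 𝒜 (fun _ : Fin (m + 1) => 1) t
        (F := Finset.univ) d (fun j _ => ht j)
      simp only [smul_eq_mul, mul_one, hdeg] at h1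
      simpa using SetLike.mul_mem_graded h0 h1 }

theorem φ_X (j : Fin (m + 1)) : φ t ht (MvPolynomial.X j) = t j := MvPolynomial.eval₂_X _ _ j

variable (hgen : Subring.closure ((𝒜 0 : Set A) ∪ (𝒜 1 : Set A)) = ⊤)
  (hspan : ∀ a ∈ 𝒜 1, ∃ c : Fin (m + 1) → Γ(B, ⊤), a = ∑ l, (σ (c l) : A) * t l)

omit [IsAffine B] in
include hgen hspan ht in
theorem irrelevant_le_span : 𝒜₊.toIdeal ≤ Ideal.span (Set.range t) := by
  refine (HomogeneousIdeal.toIdeal_irrelevant_le _).mpr fun n hn b hb => ?_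
  refine Groth.Ega2P2.mem_span_of_mem_closure (𝒜 := 𝒜) (G := (𝒜 0 : Set A)) subset_rfl
    (T := Set.range t) (by rintro _ ⟨j, rfl⟩; exact ht j) ?_ hn hb
  suffices (𝒜 0 : Set A) ∪ (𝒜 1 : Set A) ⊆ Subring.closure ((𝒜 0 : Set A) ∪ Set.range t) from
    Subring.closure_le.mpr this (hgen.ge (Subring.mem_top b))
  rintro a (ha | ha)
  · exact Subring.subset_closure (Or.inl ha)
  · obtain ⟨c, rfl⟩ := hspan a ha
    exact sum_mem fun l _ => mul_mem (Subring.subset_closure (Or.inl (σ (c l)).2))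
      (Subring.subset_closure (Or.inr ⟨l, rfl⟩))

omit [IsAffine B] in
include hgen hspan in
theorem irrelevant_le_φ : 𝒜₊ ≤ ((pg.{u} m)₊).map (φ t ht) := by
  intro b hb
  refine (Ideal.span_le.mpr ?_) (irrelevant_le_span σ t ht hgen hspan hb)
  rintro _ ⟨j, rfl⟩
  show t j ∈ Ideal.map (φ t ht) ((pg.{u} m)₊).toIdeal
  rw [← φ_X t ht]
  exact Ideal.mem_map_of_mem _ (HomogeneousIdeal.mem_irrelevant_of_mem _ one_pos (X_mem j))

/-- to `P^m_ℤ` -/
def toPZ : Proj 𝒜 ⟶ CohB1.ProjSpace m Z.{u} := Proj.map (φ t ht) (irrelevant_le_φ σ t ht hgen hspan)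

/-- to the base -/
def toB : Proj 𝒜 ⟶ B := Proj.toSpecZero 𝒜 ≫ Spec.map σ ≫ B.isoSpec.inv

/-- to `P^m_B` -/
def Φ : Proj 𝒜 ⟶ CohB1.ProjSpaceOver m B :=
  pullback.lift (toPZ σ t ht hgen hspan) (toB σ) (specULiftZIsTerminal.hom_ext _ _)

theorem Φ_prZ : Φ σ t ht hgen hspan ≫ PEmb.prZ m B = toPZ σ t ht hgen hspan := pullback.lift_fst _ _ _

theorem Φ_toBase : Φ σ t ht hgen hspan ≫ CohB1.ProjSpaceOver.toBase m B = toB σ := pullback.lift_snd _ _ _

variable (j : Fin (m + 1))

/-- the generators `t_l / t_j` -/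
def frac (l : Fin (m + 1)) : Away 𝒜 (t j) :=
  Away.mk 𝒜 (ht j) 1 (t l) (by rw [one_smul]; exact ht l)

/-- the base in the chart -/
def baseHom : Γ(B, ⊤) →+* Away 𝒜 (t j) := (fromZeroRingHom 𝒜 _).comp σ.hom

omit [IsAffine B] in
include hgen hspan in
theorem mk_mem_closure (n : ℕ) (a : A) (ha : a ∈ 𝒜 (n • 1)) :
    Away.mk 𝒜 (ht j) n a ha ∈
      Subring.closure (Set.range (baseHom σ t j) ∪ Set.range (frac t ht j)) := by
  classical
  set K := Subring.closure (Set.range (baseHom σ t j) ∪ Set.range (frac t ht j))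
  have hz : ∀ (a : A) (ha : a ∈ 𝒜 (1 • 1)), Away.mk 𝒜 (ht j) 1 a ha ∈ K := by
    intro a ha
    obtain ⟨c, hc⟩ := hspan a (by rwa [one_smul] at ha)
    have : Away.mk 𝒜 (ht j) 1 a ha = ∑ l, baseHom σ t j (c l) * frac t ht j l := by
      apply val_injective
      rw [Away.val_mk, ← HomogeneousLocalization.algebraMap_apply, map_sum]
      simp only [map_mul, HomogeneousLocalization.algebraMap_apply, frac, Away.val_mk, baseHom, RingHom.comp_apply,
        Groth.Ega2P2.val_fromZero, Localization.mk_mul, one_mul]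
      rw [← Localization.mk_sum]
      exact congrArg₂ Localization.mk hc rfl
    rw [this]
    exact sum_mem fun l _ => mul_mem (Subring.subset_closure (Or.inl ⟨_, rfl⟩))
      (Subring.subset_closure (Or.inr ⟨_, rfl⟩))
  induction n generalizing a with
  | zero =>
    have ha' : a * t j ∈ 𝒜 (1 • 1) := by
      have := SetLike.mul_mem_graded ha (ht j)
      simpa using this
    have : Away.mk 𝒜 (ht j) 0 a ha = Away.mk 𝒜 (ht j) 1 (a * t j) ha' := by
      apply val_injective
      rw [Away.val_mk, Away.val_mk, Localization.mk_eq_mk_iff, Localization.r_iff_exists]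
      exact ⟨1, by simp; ring⟩
    rw [this]
    exact hz _ ha'
  | succ n ih =>
    have ha' : a ∈ 𝒜 (n + 1) := by simpa using ha
    have hsp := irrelevant_le_span σ t ht hgen hspan
      (HomogeneousIdeal.mem_irrelevant_of_mem 𝒜 n.succ_pos ha')
    obtain ⟨b, hb⟩ := (Submodule.mem_span_range_iff_exists_fun A).mp hsp
    let b' : Fin (m + 1) → A := fun l => (DirectSum.decompose 𝒜 (b l) n : A)
    have hb' : a = ∑ l, b' l * t l := by
      have h := congrArg (fun z => (DirectSum.decompose 𝒜 z (n + 1) : A)) hb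
      simp only [smul_eq_mul, DirectSum.decompose_of_mem_same 𝒜 ha'] at h
      rw [← h, DirectSum.decompose_sum, DFinsupp.finsetSum_apply, AddSubmonoidClass.coe_finsetSum]
      exact Finset.sum_congr rfl fun l _ => DirectSum.coe_decompose_mul_add_of_right_mem 𝒜 (ht l)
    have hbm : ∀ l, b' l ∈ 𝒜 (n • 1) := fun l => by simp [b']
    have : Away.mk 𝒜 (ht j) (n + 1) a ha = ∑ l, Away.mk 𝒜 (ht j) n (b' l) (hbm l) * frac t ht j l := by
      apply val_injective
      rw [Away.val_mk, ← HomogeneousLocalization.algebraMap_apply, map_sum]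
      simp only [map_mul, HomogeneousLocalization.algebraMap_apply, frac, Away.val_mk, Localization.mk_mul]
      rw [← Localization.mk_sum]
      exact Localization.mk_eq_mk_iff.mpr (Localization.r_iff_exists.mpr
        ⟨1, by rw [hb']; simp [pow_succ]⟩)
    rw [this]
    exact sum_mem fun l _ => mul_mem (ih _ _) (Subring.subset_closure (Or.inr ⟨_, rfl⟩))

theorem awayι_comp_toPZ (f : A) (hf : φ t ht (MvPolynomial.X j) = f) (hfd : f ∈ 𝒜 1)
    (α : Groth.Chow.A.{u} m j →+* Away 𝒜 f)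
    (hα : ∀ l, α (q j l) = Away.mk 𝒜 hfd 1 (t l) (by rw [one_smul]; exact ht l)) :
    Proj.awayι 𝒜 f hfd one_pos ≫ toPZ σ t ht hgen hspan = Spec.map (CommRingCat.ofHom α) ≫ qι j := by
  subst hf
  have : α = Away.map (φ t ht) (MvPolynomial.X j) := by
    refine ringHom_ext fun l => ?_
    rw [hα, q, Away.map_mk]
    congr 1
    exact (φ_X t ht l).symm
  rw [this]
  exact Proj.awayι_comp_map (φ t ht) (irrelevant_le_φ σ t ht hgen hspan) one_pos _ (X_mem j)

theorem chart_closedImmersion : ∀ (k : Fin (m + 1)), IsClosedImmersion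
    (Φ σ t ht hgen hspan ∣_ (PEmb.W (𝟙 (CohB1.ProjSpaceOver m B)) k ⊤)) := by
  intro j
  let P := CohB1.ProjSpaceOver m B
  let R : P.Opens := PEmb.W (𝟙 P) j ⊤
  have hR : IsAffineOpen R := PEmb.isAffineOpen_W (𝟙 P) j (isAffineOpen_top B)
  let F := Φ σ t ht hgen hspan
  have hpre : F ⁻¹ᵁ R = Proj.basicOpen 𝒜 (t j) := by
    have h1 : F ⁻¹ᵁ R = toPZ σ t ht hgen hspan ⁻¹ᵁ (qι.{u} j).opensRange := by
      rw [← Φ_prZ σ t ht hgen hspan, Scheme.Hom.comp_preimage]
      ext z
      exact ⟨fun h => h.1, fun h => ⟨h, Set.mem_univ _⟩⟩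
    rw [h1]
    show Proj.map (φ t ht) _ ⁻¹ᵁ (Proj.awayι _ _ _ _).opensRange = _
    rw [Proj.opensRange_awayι, Proj.map_preimage_basicOpen, φ_X]
  let aι : Spec (CommRingCat.of (Away 𝒜 (t j))) ⟶ Proj 𝒜 := Proj.awayι 𝒜 (t j) (ht j) one_pos
  haveI : IsOpenImmersion aι := by unfold aι; infer_instance
  have hQ : Set.range aι = Set.range (F ⁻¹ᵁ R).ι := by
    rw [Scheme.Opens.range_ι, hpre, ← Scheme.Hom.coe_opensRange]
    exact congrArg _ (Proj.opensRange_awayι 𝒜 (t j) (ht j) one_pos)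
  let e := IsOpenImmersion.isoOfRangeEq aι (F ⁻¹ᵁ R).ι hQ
  refine (MorphismProperty.cancel_left_of_respectsIso @IsClosedImmersion e.hom _).mp ?_
  haveI : IsAffine R.toScheme := hR
  refine IsClosedImmersion.of_surjective_of_isAffine _ fun z => ?_
  obtain ⟨z, rfl⟩ := (ConcreteCategory.bijective_of_isIso
    (Scheme.ΓSpecIso (CommRingCat.of (Away 𝒜 (t j)))).inv).2 z
  let c := e.hom ≫ F ∣_ R
  have hc : c ≫ R.ι = aι ≫ F := by
    rw [Category.assoc, morphismRestrict_ι, IsOpenImmersion.isoOfRangeEq_hom_fac_assoc]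
  let K : Subring (Away 𝒜 (t j)) :=
    (c.appTop.hom.range).comap (Scheme.ΓSpecIso (CommRingCat.of (Away 𝒜 (t j)))).inv.hom
  suffices hK : Subring.closure (Set.range (baseHom σ t j) ∪ Set.range (frac t ht j)) ≤ K by
    obtain ⟨n, a, ha, rfl⟩ := Away.mk_surjective 𝒜 (ht j) z
    exact hK (mk_mem_closure σ t ht hgen hspan j n a ha)
  rw [Subring.closure_le]
  rintro _ (⟨r, rfl⟩ | ⟨l, rfl⟩)
  · have h : c ≫ (R.ι ≫ CohB1.ProjSpaceOver.toBase m B ≫ B.isoSpec.hom) =
        Spec.map (CommRingCat.ofHom (baseHom σ t j)) := by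
      rw [reassoc_of% hc]
      show aι ≫ Φ σ t ht hgen hspan ≫ _ = _
      rw [reassoc_of% (Φ_toBase σ t ht hgen hspan), toB, Category.assoc, Category.assoc, Iso.inv_hom_id,
        Category.comp_id, ← Category.assoc]
      erw [Proj.awayι_toSpecZero]
      rw [← Spec.map_comp]
      rfl
    have h2 := RingHom.congr_fun (congrArg homOf h) r
    rw [homOf_comp] at h2
    refine ⟨homOf (R.ι ≫ CohB1.ProjSpaceOver.toBase m B ≫ B.isoSpec.hom) r, h2.trans ?_⟩
    exact ConcreteCategory.congr_hom (Scheme.ΓSpecIso_inv_naturality (CommRingCat.ofHom (baseHom σ t j))).symm r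
  · obtain ⟨α, hα⟩ := exists_ringHom.{u} j (frac t ht j) (by
      apply val_injective
      rw [frac, Away.val_mk, val_one, ← Localization.mk_one, Localization.mk_eq_mk_iff,
        Localization.r_iff_exists]
      exact ⟨1, by simp⟩)
    let a : R.toScheme ⟶ Spec (CommRingCat.of (Groth.Chow.A.{u} m j)) :=
      IsOpenImmersion.lift (qι j) (R.ι ≫ PEmb.prZ m B) (by rintro _ ⟨x, rfl⟩; exact x.2.1)
    have ha : a ≫ qι j = R.ι ≫ PEmb.prZ m B := IsOpenImmersion.lift_fac _ _ _
    have hca : c ≫ a = Spec.map (CommRingCat.ofHom α) := by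
      rw [← cancel_mono (qι j), Category.assoc, ha, reassoc_of% hc, Φ_prZ]
      exact awayι_comp_toPZ σ t ht hgen hspan j (t j) (φ_X t ht j) (ht j) α hα
    have h2 := RingHom.congr_fun (congrArg homOf hca) (q j l)
    rw [homOf_comp] at h2
    refine ⟨homOf a (q j l), h2.trans ?_⟩
    refine (ConcreteCategory.congr_hom (Scheme.ΓSpecIso_inv_naturality (CommRingCat.ofHom α)).symm (q j l)).trans ?_
    exact congrArg (fun z => (Scheme.ΓSpecIso (CommRingCat.of (Away 𝒜 (t j)))).inv.hom z) (hα l)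

theorem isClosedImmersion_Φ : IsClosedImmersion (Φ σ t ht hgen hspan) := by
  refine IsZariskiLocalAtTarget.of_iSup_eq_top
    (fun k => PEmb.W (𝟙 (CohB1.ProjSpaceOver m B)) k ⊤) ?_ (chart_closedImmersion σ t ht hgen hspan)
  rw [PEmb.iSup_W]
  rfl

end

end Groth.Chow.PLoc
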