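import Groth.Prelude.Def_CohB1
import Groth.Agent.Variety2.ProjBasics
import Mathlib

/-! Points of projective space over `ℤ` through the standard charts. -/

universe u

open CategoryTheory CategoryTheory.Limits AlgebraicGeometry

namespace Groth.Chow

open HomogeneousLocalization

noncomputable section

/-- the coefficient ring -/
abbrev Z : Type u := ULift.{u} ℤ

theorem ringHom_Z_ext {R : Type*} [CommRing R] (f g : Z.{u} →+* R) : f = g := by
  have h : f.comp ULift.ringEquiv.symm.toRingHom = g.comp ULift.ringEquiv.symm.toRingHom :=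
    Subsingleton.elim _ _
  refine RingHom.ext fun x => ?_
  have := RingHom.congr_fun h (ULift.ringEquiv x)
  simpa only [RingHom.comp_apply, RingEquiv.toRingHom_eq_coe, RingHom.coe_coe,
    RingEquiv.symm_apply_apply] using this

def castZ (R : Type u) [CommRing R] : Z.{u} →+* R := (Int.castRingHom R).comp ULift.ringEquiv.toRingHom

abbrev pg (N : ℕ) : ℕ → Submodule Z.{u} (MvPolynomial (Fin (N + 1)) Z.{u}) := CohB1.polyGrading N Z.{u}

theorem X_mem {N : ℕ} (k : Fin (N + 1)) :
    (MvPolynomial.X k : MvPolynomial (Fin (N + 1)) Z.{u}) ∈ pg.{u} N 1 :=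
  MvPolynomial.isHomogeneous_X _ k

abbrev A (N : ℕ) (k : Fin (N + 1)) : Type u := Away (pg.{u} N) (MvPolynomial.X k : MvPolynomial (Fin (N + 1)) Z.{u})

/-- the coordinate `x_l / x_k` -/
def q {N : ℕ} (k l : Fin (N + 1)) : A.{u} N k :=
  Away.mk (pg.{u} N) (X_mem k) 1 (MvPolynomial.X l) (by simpa using X_mem l)

/-- the chart `D₊(x_k)` -/
def qι {N : ℕ} (k : Fin (N + 1)) : Spec (CommRingCat.of (A.{u} N k)) ⟶ CohB1.ProjSpace N Z.{u} :=
  Proj.awayι (pg.{u} N) _ (X_mem k) one_pos

instance {N : ℕ} (k : Fin (N + 1)) : IsOpenImmersion (qι.{u} k) := by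
  unfold qι CohB1.ProjSpace
  infer_instance

theorem qpoly_surjective {N : ℕ} (k : Fin (N + 1)) :
    Function.Surjective (MvPolynomial.eval₂Hom (castZ (A.{u} N k)) (q k)) := by
  intro z
  obtain ⟨n, p, hp, rfl⟩ := Away.mk_surjective (pg.{u} N) (X_mem k) z
  refine ⟨p, val_injective _ ?_⟩
  rw [Away.val_mk, Localization.mk_eq_mk', eq_comm, IsLocalization.mk'_eq_iff_eq_mul]
  let L := Localization.Away (MvPolynomial.X k : MvPolynomial (Fin (N + 1)) Z.{u})
  let am : MvPolynomial (Fin (N + 1)) Z.{u} →+* L := algebraMap _ L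
  let c : Z.{u} →+* L := am.comp MvPolynomial.C
  let v : A.{u} N k →+* L := algebraMap _ L
  have hv : ∀ x, v x = x.val := fun x => rfl
  change am p = v _ * am (MvPolynomial.X k ^ n)
  rw [MvPolynomial.coe_eval₂Hom, MvPolynomial.eval₂_comp_left v, ringHom_Z_ext (v.comp _) c]
  have hX : ∀ l, am (MvPolynomial.X l) = (v ∘ q k) l * am (MvPolynomial.X k) := by
    intro l
    rw [Function.comp_apply, hv, q, Away.val_mk, Localization.mk_eq_mk', eq_comm]
    simp only [pow_one]
    exact IsLocalization.mk'_spec L _ _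
  have h1 : am p = MvPolynomial.eval₂ c (fun l => am (MvPolynomial.X l)) p := by
    conv_lhs => rw [← MvPolynomial.eval₂_eta p]
    rw [MvPolynomial.eval₂_comp_left am]
    rfl
  rw [h1, MvPolynomial.eval₂_eq', MvPolynomial.eval₂_eq', Finset.sum_mul]
  refine Finset.sum_congr rfl fun d hd => ?_
  have hp' : MvPolynomial.IsHomogeneous p n := by simpa using hp
  have hdeg : ∑ l, d l = n := by
    have := hp' (MvPolynomial.mem_support_iff.mp hd)
    rwa [Finsupp.weight_apply, Finsupp.sum_fintype _ _ (by simp), show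
      (∑ i, d i • (1 : Fin (N + 1) → ℕ) i) = ∑ l, d l by simp] at this
  rw [mul_assoc]
  congr 1
  rw [map_pow, ← hdeg, ← Finset.prod_pow_eq_pow_sum, ← Finset.prod_mul_distrib]
  exact Finset.prod_congr rfl fun l _ => by rw [← mul_pow, hX]

theorem ringHom_ext {N : ℕ} {k : Fin (N + 1)} {R : Type u} [CommRing R] {f g : A.{u} N k →+* R}
    (h : ∀ l, f (q k l) = g (q k l)) : f = g := by
  have : f.comp (MvPolynomial.eval₂Hom (castZ (A.{u} N k)) (q k)) =
      g.comp (MvPolynomial.eval₂Hom (castZ (A.{u} N k)) (q k)) := by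
    apply MvPolynomial.ringHom_ext'
    · exact ringHom_Z_ext _ _
    · intro l; simpa using h l
  ext z
  obtain ⟨p, rfl⟩ := qpoly_surjective k z
  exact RingHom.congr_fun this p

theorem q_self {N : ℕ} (k : Fin (N + 1)) : q.{u} k k = 1 := by
  apply val_injective
  rw [q, Away.val_mk, val_one]
  simp only [pow_one]
  exact Localization.mk_self (⟨MvPolynomial.X k, ⟨1, pow_one _⟩⟩ : Submonoid.powers (MvPolynomial.X k : MvPolynomial (Fin (N + 1)) Z.{u}))

/-- a ring map out of a chart with prescribed coordinates -/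
theorem exists_ringHom {N : ℕ} (k : Fin (N + 1)) {R : Type u} [CommRing R] (a : Fin (N + 1) → R)
    (ha : a k = 1) : ∃ f : A.{u} N k →+* R, ∀ l, f (q k l) = a l := by
  let ev : MvPolynomial (Fin (N + 1)) Z.{u} →+* R := MvPolynomial.eval₂Hom (castZ R) a
  have hu : IsUnit (ev (MvPolynomial.X k)) := by simp [ev, ha]
  refine ⟨(Localization.awayLift ev _ hu).comp (algebraMap _ _), fun l => ?_⟩
  rw [RingHom.comp_apply, HomogeneousLocalization.algebraMap_apply, q, Away.val_mk]
  rw [Localization.awayLift_mk (v := (1 : R)) (hv := by simp [ev, ha])]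
  simp [ev]

theorem irrelevant_le_span (N : ℕ) : (HomogeneousIdeal.irrelevant (pg.{u} N)).toIdeal ≤
    Ideal.span (Set.range fun k : Fin (N + 1) => (MvPolynomial.X k : MvPolynomial (Fin (N + 1)) Z.{u})) := by
  intro p hp
  have hp0 : MvPolynomial.coeff 0 p = 0 := by
    have h := (HomogeneousIdeal.mem_irrelevant_iff _ _).mp hp
    rw [GradedRing.proj_apply] at h
    have h' : MvPolynomial.homogeneousComponent 0 p = 0 :=
      (MvPolynomial.decomposition.decompose'_apply p 0).symm.trans h
    rw [MvPolynomial.homogeneousComponent_zero] at h'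
    exact MvPolynomial.C_injective _ _ (h'.trans (map_zero _).symm)
  rw [← Set.image_univ]
  refine (MvPolynomial.mem_ideal_span_X_image).mpr fun d hd => ?_
  by_contra hne
  push Not at hne
  have : d = 0 := Finsupp.ext fun l => hne l (Set.mem_univ l)
  subst this
  exact MvPolynomial.mem_support_iff.mp hd hp0

section Scheme

variable {W : Scheme.{u}}

/-- the morphism to projective space given by a ring map from the `k`-th chart -/
def mor {N : ℕ} {k : Fin (N + 1)} (α : A.{u} N k →+* Γ(W, ⊤)) : W ⟶ CohB1.ProjSpace N Z.{u} :=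
  W.toSpecΓ ≫ Spec.map (CommRingCat.ofHom α) ≫ qι k

/-- the ring map of a morphism to an affine scheme -/
def homOf {R : CommRingCat.{u}} (g : W ⟶ Spec R) : R →+* Γ(W, ⊤) :=
  ((Scheme.ΓSpecIso R).inv ≫ g.appTop).hom

theorem toSpecΓ_homOf {R : CommRingCat.{u}} (g : W ⟶ Spec R) :
    W.toSpecΓ ≫ Spec.map (CommRingCat.ofHom (homOf g)) = g := by
  rw [homOf, CommRingCat.ofHom_hom, Spec.map_comp, ← Category.assoc, ← Scheme.toSpecΓ_naturality,
    Category.assoc, toSpecΓ_SpecMap_ΓSpecIso_inv, Category.comp_id]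

theorem homOf_toSpecΓ {R : Type u} [CommRing R] (α : R →+* Γ(W, ⊤)) :
    homOf (W.toSpecΓ ≫ Spec.map (CommRingCat.ofHom α)) = α := by
  have : (Scheme.ΓSpecIso (CommRingCat.of R)).inv ≫
      (W.toSpecΓ ≫ Spec.map (CommRingCat.ofHom α)).appTop = CommRingCat.ofHom α := by
    rw [Scheme.Hom.comp_appTop, ← Category.assoc, ← Scheme.ΓSpecIso_inv_naturality, Scheme.toSpecΓ_appTop,
      Category.assoc, Iso.inv_hom_id, Category.comp_id]
  exact congrArg CommRingCat.Hom.hom this

theorem homOf_comp {V : Scheme.{u}} {R : CommRingCat.{u}} (h : V ⟶ W) (g : W ⟶ Spec R) :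
    homOf (h ≫ g) = h.appTop.hom.comp (homOf g) := rfl

theorem comp_mor {V : Scheme.{u}} {N : ℕ} {k : Fin (N + 1)} (h : V ⟶ W) (α : A.{u} N k →+* Γ(W, ⊤)) :
    h ≫ mor α = mor (h.appTop.hom.comp α) := by
  rw [mor, mor, Scheme.toSpecΓ_naturality_assoc, CommRingCat.ofHom_comp, CommRingCat.ofHom_hom,
    Spec.map_comp, Category.assoc]

theorem awayMap_qι {N : ℕ} (i k : Fin (N + 1)) {x : MvPolynomial (Fin (N + 1)) Z.{u}}
    (hx : x = MvPolynomial.X i * MvPolynomial.X k) :
    Spec.map (CommRingCat.ofHom (awayMap (pg.{u} N) (X_mem k) hx)) ≫ qι i =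
      Spec.map (CommRingCat.ofHom (awayMap (pg.{u} N) (X_mem i) (hx.trans (mul_comm _ _)))) ≫ qι k := by
  exact (Proj.SpecMap_awayMap_awayι (pg.{u} N) (X_mem i) one_pos (X_mem k) hx).trans
    (Proj.SpecMap_awayMap_awayι (pg.{u} N) (X_mem k) one_pos (X_mem i) (hx.trans (mul_comm _ _))).symm

theorem awayMap_q {N : ℕ} (i k l : Fin (N + 1)) {x : MvPolynomial (Fin (N + 1)) Z.{u}}
    (hx : x = MvPolynomial.X i * MvPolynomial.X k) :
    awayMap (pg.{u} N) (X_mem i) (hx.trans (mul_comm _ _)) (q k l) * awayMap (pg.{u} N) (X_mem k) hx (q i k) =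
      awayMap (pg.{u} N) (X_mem k) hx (q i l) := by
  subst hx
  apply val_injective
  rw [val_mul, q, q, q, awayMap_mk, awayMap_mk, awayMap_mk, Away.val_mk, Away.val_mk, Away.val_mk,
    Localization.mk_mul, Localization.mk_eq_mk_iff, Localization.r_iff_exists]
  exact ⟨1, by simp; ring⟩

/-- When two chart maps give the same point. -/
theorem mor_eq_iff {N : ℕ} {i k : Fin (N + 1)} (α : A.{u} N i →+* Γ(W, ⊤)) (β : A.{u} N k →+* Γ(W, ⊤)) :
    mor α = mor β ↔ ∀ l, β (q k l) * α (q i k) = α (q i l) := by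
  let x : MvPolynomial (Fin (N + 1)) Z.{u} := MvPolynomial.X i * MvPolynomial.X k
  constructor
  · intro h
    let P := pullback.lift (W.toSpecΓ ≫ Spec.map (CommRingCat.ofHom α))
      (W.toSpecΓ ≫ Spec.map (CommRingCat.ofHom β))
      (by rw [Category.assoc, Category.assoc]; exact h) ≫
      (Proj.pullbackAwayιIso (pg.{u} N) (X_mem i) one_pos (X_mem k) one_pos (rfl : x = _)).hom
    have h1 : P ≫ Spec.map (CommRingCat.ofHom (awayMap (pg.{u} N) (X_mem k) (rfl : x = _))) =
        W.toSpecΓ ≫ Spec.map (CommRingCat.ofHom α) := by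
      simp only [P, Category.assoc, Proj.pullbackAwayιIso_hom_SpecMap_awayMap_left]
      exact pullback.lift_fst _ _ _
    have h2 : P ≫ Spec.map (CommRingCat.ofHom (awayMap (pg.{u} N) (X_mem i)
        ((rfl : x = _).trans (mul_comm _ _)))) =
        W.toSpecΓ ≫ Spec.map (CommRingCat.ofHom β) := by
      simp only [P, Category.assoc, Proj.pullbackAwayιIso_hom_SpecMap_awayMap_right]
      exact pullback.lift_snd _ _ _
    rw [← toSpecΓ_homOf P, Category.assoc, ← Spec.map_comp, ← CommRingCat.ofHom_comp] at h1 h2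
    have e1 := congrArg homOf h1
    have e2 := congrArg homOf h2
    rw [homOf_toSpecΓ, homOf_toSpecΓ] at e1 e2
    intro l
    rw [← e1, ← e2]
    exact (map_mul (homOf P) _ _).symm.trans (congrArg (homOf P) (awayMap_q i k l (rfl : x = _)))
  · intro h
    have hu : IsUnit (α (q i k)) := by
      refine IsUnit.of_mul_eq_one (β (q k i)) ?_
      rw [mul_comm, h, q_self, map_one]
    letI := (awayMap (pg.{u} N) (X_mem k) (rfl : x = MvPolynomial.X i * MvPolynomial.X k)).toAlgebra
    haveI := Away.isLocalization_mul (X_mem i) (X_mem k) (rfl : x = MvPolynomial.X i * MvPolynomial.X k)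
      one_ne_zero
    have he : Away.isLocalizationElem (X_mem i) (X_mem k) = q.{u} i k := by
      apply val_injective
      simp [q]
    let γ : Away (pg.{u} N) x →+* Γ(W, ⊤) :=
      IsLocalization.Away.lift (Away.isLocalizationElem (X_mem i) (X_mem k)) (g := α) (by rw [he]; exact hu)
    have hγ : γ.comp (awayMap (pg.{u} N) (X_mem k) (rfl : x = _)) = α :=
      IsLocalization.Away.lift_comp _ _
    have hγ' : γ.comp (awayMap (pg.{u} N) (X_mem i) ((rfl : x = _).trans (mul_comm _ _))) = β := by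
      refine ringHom_ext fun l => hu.mul_left_inj.mp ?_
      rw [h l]
      conv_lhs => rw [← hγ]
      conv_rhs => rw [← hγ]
      exact (map_mul γ _ _).symm.trans (congrArg γ (awayMap_q i k l (rfl : x = _)))
    rw [mor, mor, ← hγ, ← hγ', CommRingCat.ofHom_comp, CommRingCat.ofHom_comp, Spec.map_comp,
      Spec.map_comp, Category.assoc, Category.assoc]
    exact congrArg (fun t => W.toSpecΓ ≫ Spec.map (CommRingCat.ofHom γ) ≫ t) (awayMap_qι i k (rfl : x = _))

end Scheme

end

end Groth.Chow
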