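import Groth.Agent.ProjClosed.Kernel

/-!
# Closed subschemes of `Proj` are `Proj` of quotients
-/

set_option backward.isDefEq.respectTransparency false

universe u

open CategoryTheory AlgebraicGeometry HomogeneousLocalization

namespace Groth.ProjClosed

variable {R A : Type u} [CommRing R] [CommRing A] [Algebra R A] (𝒜 : ℕ → Submodule R A)
  [GradedAlgebra 𝒜]

theorem exists_quotient_alg (s : Finset A) (hs1 : ∀ f ∈ s, f ∈ 𝒜 1)
    (hs : (HomogeneousIdeal.irrelevant 𝒜).toIdeal = Ideal.span (s : Set A))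
    {Z : Scheme.{u}} (i : Z ⟶ Proj 𝒜) [IsClosedImmersion i] :
    ∃ (B : Type u) (_ : CommRing B) (_ : Algebra R B) (ℬ : ℕ → Submodule R B) (_ : GradedAlgebra ℬ)
      (φ : 𝒜 →+*ᵍ ℬ) (_ : Function.Surjective φ)
      (hφ : HomogeneousIdeal.irrelevant ℬ ≤ (HomogeneousIdeal.irrelevant 𝒜).map φ)
      (e : Z ≅ Proj ℬ), e.hom ≫ Proj.map φ hφ = i ∧ ∀ r : R, φ (algebraMap R A r) = algebraMap R B r := by
  classical
  let I := idealOf i (s : Set A)
  let hgr := quotGradedAlgebra 𝒜 I (isHomogeneous_idealOf i (s : Set A))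
  let φ : 𝒜 →+*ᵍ quotGrading 𝒜 I :=
    { Ideal.Quotient.mk I with map_mem := fun {_ _} h ↦ mk_mem_quotGrading 𝒜 I h }
  have hsurj : Function.Surjective φ := Ideal.Quotient.mk_surjective
  have hφ : HomogeneousIdeal.irrelevant (quotGrading 𝒜 I) ≤
      (HomogeneousIdeal.irrelevant 𝒜).map φ := by
    refine (HomogeneousIdeal.toIdeal_irrelevant_le _).2 ?_
    rintro k hk _ ⟨a, ha, rfl⟩
    exact Ideal.mem_map_of_mem φ (HomogeneousIdeal.mem_irrelevant_of_mem 𝒜 hk ha)
  let p := Proj.map φ hφ
  have : IsClosedImmersion p := Ega2Proj.proj_map_isClosedImmersion_of_surjective φ hφ hsurj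
  let U : s → (Proj 𝒜).affineOpens := fun f ↦
    ⟨Proj.basicOpen 𝒜 (f : A), Proj.isAffineOpen_basicOpen 𝒜 _ (hs1 f f.2) Nat.one_pos⟩
  have hU : ⨆ f, (U f).1 = ⊤ := Proj.iSup_basicOpen_eq_top 𝒜 (fun f : s ↦ (f : A))
    (hs.le.trans (Ideal.span_mono fun x hx ↦ ⟨⟨x, hx⟩, rfl⟩))
  have hker : i.ker = p.ker := by
    refine Scheme.IdealSheafData.ext_of_iSup_eq_top U hU fun f ↦ ?_
    rw [Scheme.Hom.ker_apply, Scheme.Hom.ker_apply]
    have hf1 := hs1 f f.2
    have hiso : IsIso (Proj.awayToSection 𝒜 (f : A)) := by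
      rw [← Proj.basicOpenIsoAway_hom 𝒜 (f : A) hf1 Nat.one_pos]
      infer_instance
    have hiso' : IsIso (Proj.awayToSection (quotGrading 𝒜 I) (φ (f : A))) := by
      rw [← Proj.basicOpenIsoAway_hom (quotGrading 𝒜 I) (φ (f : A)) (φ.2 hf1) Nat.one_pos]
      infer_instance
    have hp : ∀ z, p.app (Proj.basicOpen 𝒜 (f : A)) (Proj.awayToSection 𝒜 (f : A) z) =
        Proj.awayToSection (quotGrading 𝒜 I) (φ (f : A)) (Away.map φ (f : A) z) := by
      intro z
      have h := ConcreteCategory.congr_hom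
        (Proj.awayToSection_comp_appLE φ hφ (s := (f : A)) hf1) z
      rw [Scheme.Hom.appLE] at h
      refine Eq.trans ?_ h
      change _ = ((Proj (quotGrading 𝒜 I)).presheaf.map _)
        (p.app (Proj.basicOpen 𝒜 (f : A)) (Proj.awayToSection 𝒜 (f : A) z))
      exact (ConcreteCategory.congr_hom ((Proj (quotGrading 𝒜 I)).presheaf.map_id
        (Opposite.op (Proj.basicOpen (quotGrading 𝒜 I) (φ (f : A))))) _).symm
    have key : ∀ z, chartHom i (f : A) z = 0 ↔ Away.map φ (f : A) z = 0 := by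
      intro z
      obtain ⟨n, a, ha, rfl⟩ := fr_surjective hf1 z
      constructor
      · intro h0
        obtain ⟨k, hk⟩ := exists_pow_mul_mem_idealOf i s hs1 f.2 ha h0
        apply HomogeneousLocalization.val_injective
        rw [fr, Away.map_mk, Away.val_mk, HomogeneousLocalization.val_zero, Localization.mk_eq_mk',
          IsLocalization.mk'_eq_zero_iff]
        refine ⟨⟨φ (f : A) ^ k, (Submonoid.mem_powers_iff _ _).2 ⟨k, rfl⟩⟩, ?_⟩
        change φ (f : A) ^ k * φ a = 0
        rw [← map_pow, ← map_mul]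
        exact Ideal.Quotient.eq_zero_iff_mem.2 hk
      · intro h0
        have h0' := congrArg HomogeneousLocalization.val h0
        rw [fr, Away.map_mk, Away.val_mk, HomogeneousLocalization.val_zero, Localization.mk_eq_mk',
          IsLocalization.mk'_eq_zero_iff] at h0'
        obtain ⟨⟨_, k, rfl⟩, hk⟩ := h0'
        change φ (f : A) ^ k * φ a = 0 at hk
        rw [← map_pow, ← map_mul] at hk
        have hk' : (f : A) ^ k * a ∈ I := Ideal.Quotient.eq_zero_iff_mem.1 hk
        have hfk : (f : A) ^ k ∈ 𝒜 k := by simpa using SetLike.pow_mem_graded k hf1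
        have hmem : (f : A) ^ k * a ∈ 𝒜 (k + n) := SetLike.mul_mem_graded hfk ha
        have h1 := vanishes_of_mem i (s : Set A) hk' hmem (f : A) f.2 hf1 hmem
        have h2 : fr hf1 n a ha = fr hf1 (k + n) _ hmem := by
          apply HomogeneousLocalization.val_injective
          simp only [val_fr, Localization.mk_eq_mk_iff, Localization.r_iff_exists]
          exact ⟨1, by simp only [OneMemClass.coe_one, one_mul, pow_add]; ring⟩
        rw [h2]
        exact h1
    ext w
    obtain ⟨z, rfl⟩ := (ConcreteCategory.bijective_of_isIso (Proj.awayToSection 𝒜 (f : A))).2 w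
    simp only [RingHom.mem_ker]
    refine (key z).trans ?_
    rw [← map_eq_zero_iff (Proj.awayToSection (quotGrading 𝒜 I) (φ (f : A))).hom
      (ConcreteCategory.bijective_of_isIso _).1]
    exact Iff.of_eq (congrArg (· = 0) (hp z).symm)
  let e := IsClosedImmersion.lift p i hker.ge
  have he : e ≫ p = i := IsClosedImmersion.lift_fac p i hker.ge
  have : IsIso e := IsClosedImmersion.isIso_of_ker_eq i p e he hker
  exact ⟨A ⧸ I, inferInstance, inferInstance, quotGrading 𝒜 I, hgr, φ, hsurj, hφ, asIso e, he, fun r => rfl⟩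

end Groth.ProjClosed
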