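import Groth.Agent.Chow.VeryAmplePn

/-! Proper schemes with an ample module over `Spec A` embed in `Proj A[T₀, …, T_m]`. -/

set_option linter.style.haveILetI false
universe u

open CategoryTheory CategoryTheory.Limits AlgebraicGeometry Opposite TopologicalSpace

namespace Groth.Chow

open Groth.PicAux Groth.PropsBasic.Ample

theorem isImmersion_r {A : Type u} [CommRing A] {X : Scheme.{u}} {q : X ⟶ Spec (CommRingCat.of A)}
    {L : X.Modules} {m : ℕ} {s : Fin (m + 1) → Γ(L, ⊤)} {r : X ⟶ Proj (CohB1.polyGrading m A)}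
    (hr : ∀ i, (ToPn.U L s i).ι ≫ r = ToPn.rU q L s i) (hU : ⨆ j, ToPn.U L s j = ⊤)
    {κ : Type*} (l : κ → Fin (m + 1)) (W : κ → X.Opens) (hl : ∀ x, ToPn.U L s (l x) = W x)
    (hW : ∀ x, IsAffineOpen (W x)) (hcov : ∀ y, ∃ x, y ∈ W x)
    (hgen : ∀ x, Subring.closure (Set.range (q.appLE ⊤ (W x) le_top) ∪
      {g | ∃ j, res L (le_top : W x ≤ ⊤) (s j) = g • res L (le_top : W x ≤ ⊤) (s (l x))}) = ⊤) :
    IsImmersion r := by
  obtain rfl : W = fun x => ToPn.U L s (l x) := funext fun x => (hl x).symm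
  let D : κ → (Proj (CohB1.polyGrading m A)).Opens := fun x =>
    Proj.basicOpen (CohB1.polyGrading m A) (MvPolynomial.X (l x))
  have hpre : ∀ x, r ⁻¹ᵁ D x = ToPn.U L s (l x) := fun x => ToPn.preimage_D hr hU (l x)
  refine isImmersion_of_pieces r D (fun y => ?_) fun x => ?_
  · obtain ⟨x, hx⟩ := hcov y
    exact ⟨x, (hpre x).ge hx⟩
  haveI : IsAffine (D x).toScheme := Proj.isAffineOpen_basicOpen _ _ (ToPn.X_mem (l x)) one_pos
  haveI : IsAffine (r ⁻¹ᵁ D x).toScheme := by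
    rw [hpre]; exact hW x
  have hsurj : Function.Surjective (r.appLE (D x) (ToPn.U L s (l x)) (hpre x).ge) := by
    intro z
    suffices h : z ∈ (r.appLE (D x) (ToPn.U L s (l x)) (hpre x).ge).hom.range from h
    refine ((hgen x).ge.trans (Subring.closure_le.mpr ?_)) (Subring.mem_top z)
    rintro g (⟨a, rfl⟩ | ⟨j, hj⟩)
    · obtain ⟨a, rfl⟩ : ∃ a' : A, (Scheme.ΓSpecIso (CommRingCat.of A)).inv a' = a :=
        ⟨(Scheme.ΓSpecIso (CommRingCat.of A)).hom a, Iso.hom_inv_id_apply _ _⟩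
      let w := HomogeneousLocalization.Away.mk (CohB1.polyGrading m A) (ToPn.X_mem (l x)) 0
        (MvPolynomial.C a) (by rw [zero_smul]; exact MvPolynomial.isHomogeneous_C _ a)
      refine ⟨Proj.awayToSection _ _ w, ?_⟩
      refine (ToPn.appLE_awayToSection hr (l x) (hpre x).ge w).trans ?_
      rw [ToPn.α, ToPn.chart_mk, MvPolynomial.eval₂_C]
      rfl
    · let w := HomogeneousLocalization.Away.mk (CohB1.polyGrading m A) (ToPn.X_mem (l x)) 1
        (MvPolynomial.X j) (by rw [one_smul]; exact ToPn.X_mem j)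
      refine ⟨Proj.awayToSection _ _ w, ?_⟩
      refine (ToPn.appLE_awayToSection hr (l x) (hpre x).ge w).trans ?_
      rw [ToPn.α, ToPn.chart_mk, MvPolynomial.eval₂_X]
      refine (ToPn.gen_U L s (l x)).smul_inj le_rfl ?_
      rw [res_self, ← ToPn.c_spec]
      exact hj
  rw [← Scheme.Hom.resLE_eq_morphismRestrict]
  refine IsClosedImmersion.of_surjective_of_isAffine _ fun z => ?_
  let z' := (r ⁻¹ᵁ D x).topIso.hom z
  obtain ⟨w, hw⟩ := hsurj (resX X (hpre x).ge z')
  refine ⟨(D x).topIso.inv w, ?_⟩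
  rw [Scheme.Hom.appTop, Scheme.Hom.resLE_app_top]
  simp only [CommRingCat.comp_apply]
  rw [Iso.inv_hom_id_apply]
  have hinj : ∀ (V : X.Opens) (h : V = ToPn.U L s (l x)), Function.Injective (resX X h.ge) := by
    rintro V rfl p p' hpp
    rwa [resX_self, resX_self] at hpp
  have : r.appLE (D x) (r ⁻¹ᵁ D x) le_rfl w = z' := by
    refine hinj _ (hpre x) ?_
    rw [← hw]
    exact ConcreteCategory.congr_hom (Scheme.Hom.appLE_map r le_rfl (homOfLE (hpre x).ge).op) w
  rw [this]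
  exact Iso.hom_inv_id_apply _ z

theorem exists_isClosedImmersion_projSpace {A : Type u} [CommRing A] {X : Scheme.{u}}
    (q : X ⟶ Spec (CommRingCat.of A)) [IsProper q] {L : X.Modules} (hA : CohB1.IsAmple L) :
    ∃ (m : ℕ) (r : X ⟶ Proj (CohB1.polyGrading m A)), IsClosedImmersion r ∧
      r ≫ CohB1.ProjSpace.toSpec m A = q := by
  classical
  haveI : CompactSpace X := hA.2.1
  choose W hWaff hxW hWsec using exists_uniform_sections hA
  obtain ⟨t, ht⟩ := isCompact_univ.elim_finite_subcover (fun x => (W x : Set X))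
    (fun x => (W x).isOpen) (fun x _ => Set.mem_iUnion.2 ⟨x, hxW x⟩)
  have hft : ∀ x : X, ∃ G : Finset Γ(X, W x),
      Subring.closure (Set.range (q.appLE ⊤ (W x) le_top) ∪ ↑G) = ⊤ := by
    intro x
    have hft := q.finiteType_appLE (isAffineOpen_top _) (hWaff x) le_top
    letI : Algebra Γ(Spec (CommRingCat.of A), ⊤) Γ(X, W x) := (q.appLE ⊤ (W x) le_top).hom.toAlgebra
    haveI : Algebra.FiniteType Γ(Spec (CommRingCat.of A), ⊤) Γ(X, W x) := hft
    obtain ⟨G, hG⟩ := Algebra.FiniteType.out (R := Γ(Spec (CommRingCat.of A), ⊤)) (A := Γ(X, W x))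
    refine ⟨G, ?_⟩
    have h2 := congrArg Subalgebra.toSubring hG
    rw [Algebra.adjoin_eq_ring_closure, Algebra.top_toSubring] at h2
    exact h2
  choose G hG using hft
  choose n₀ hn₀ using fun x => hWsec x (G x)
  let n := t.sup n₀
  choose σ hσ b hb using fun x : t => hn₀ x n (Finset.le_sup x.2)
  let ι' := (t : Type u) ⊕ (Σ x : t, (G x : Type u))
  let v : ι' → Γ(CohB1.tensorPow L n, ⊤) := Sum.elim σ fun p => b p.1 p.2.1 p.2.2
  let s : Fin (Fintype.card ι' + 1) → Γ(CohB1.tensorPow L n, ⊤) :=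
    Fin.cases 0 fun j => v ((Fintype.equivFin ι').symm j)
  have hs : ∀ k, s (Fintype.equivFin ι' k).succ = v k := fun k => by simp [s]
  let l : t → Fin (Fintype.card ι' + 1) := fun x => (Fintype.equivFin ι' (Sum.inl x)).succ
  have hl : ∀ x, ToPn.U (CohB1.tensorPow L n) s (l x) = W x := fun x => by
    show gloc (s (l x)) = _
    rw [hs]; exact hσ x
  have hU : ⨆ j, ToPn.U (CohB1.tensorPow L n) s j = ⊤ := top_le_iff.mp fun y _ => by
    obtain ⟨x, hx⟩ := Set.mem_iUnion₂.1 (ht (Set.mem_univ y))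
    exact Opens.mem_iSup.mpr ⟨l ⟨x, hx.1⟩, (hl _).ge hx.2⟩
  obtain ⟨r, hr⟩ : ∃ r : X ⟶ Proj (CohB1.polyGrading (Fintype.card ι') A),
      ∀ i, (ToPn.U (CohB1.tensorPow L n) s i).ι ≫ r = ToPn.rU q (CohB1.tensorPow L n) s i :=
    ToPn.exists_r q (CohB1.tensorPow L n) s hU
  have hq : r ≫ CohB1.ProjSpace.toSpec _ A = q := ToPn.r_toSpec hr hU
  refine ⟨_, r, ?_, hq⟩
  haveI : IsImmersion r := isImmersion_r hr hU l (fun x => W x) hl (fun x => hWaff x) (fun y => by
      obtain ⟨x, hx⟩ := Set.mem_iUnion₂.1 (ht (Set.mem_univ y))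
      exact ⟨⟨x, hx.1⟩, hx.2⟩) fun x => top_le_iff.mp ((hG x).ge.trans (Subring.closure_mono
    (Set.union_subset_union le_rfl fun g hg => ⟨(Fintype.equivFin ι' (Sum.inr ⟨x, g, hg⟩)).succ, by
      rw [hs, hs]; exact hb x g hg⟩)))
  haveI : IsSeparated (CohB1.ProjSpace.toSpec (Fintype.card ι') A) := by
    exact MorphismProperty.comp_mem _ (Proj.toSpecZero (CohB1.polyGrading (Fintype.card ι') A)) _ inferInstance inferInstance
  haveI : IsProper (r ≫ CohB1.ProjSpace.toSpec (Fintype.card ι') A) := by rw [hq]; infer_instance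
  haveI : IsProper r := IsProper.of_comp r (CohB1.ProjSpace.toSpec (Fintype.card ι') A)
  exact .of_isPreimmersion _ (r.isClosedMap.isClosed_range)

end Groth.Chow
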