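import Groth.Agent.Chow.ToProj
import Groth.Agent.PropsBasic.AmpleBasis

/-! A morphism to `Proj` over the base is determined by the pullbacks of degree-one generators. -/

set_option linter.style.haveILetI false
universe u v

open CategoryTheory CategoryTheory.Limits AlgebraicGeometry Opposite TopologicalSpace
open Groth.PicAux

namespace Groth.Chow.ProjUnique

noncomputable section

open HomogeneousLocalization

variable {R : Type u} [CommRing R] {T : Type u} [CommRing T] [Algebra R T] {𝒮 : ℕ → Submodule R T}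
  [GradedAlgebra 𝒮] {κ : Type v} {ι : κ → T}

abbrev O1 (𝒮 : ℕ → Submodule R T) [GradedAlgebra 𝒮] : (Proj 𝒮).Modules := Twist.twist 𝒮 1

/-- the global section of `O(1)` given by an index -/
abbrev co (hι : ∀ m, ι m ∈ 𝒮 1) (i : κ) : Γ(O1 𝒮, ⊤) := Twist.globalOf 𝒮 ⟨ι i, hι i⟩

theorem res_coord (hι : ∀ m, ι m ∈ 𝒮 1) (i l : κ) :
    Gen (O1 𝒮) (Proj.basicOpen 𝒮 (ι i)) (res _ le_top (co hι i)) ∧
    res (O1 𝒮) (le_top : Proj.basicOpen 𝒮 (ι i) ≤ ⊤) (co hι l) =
      (Proj.awayToSection 𝒮 (ι i)) (Away.mk 𝒮 (hι i) 1 (ι l)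
        (by rw [one_smul]; exact hι l)) • res _ le_top (co hι i) := by
  have hval : ∀ (k : κ) (x : ProjectiveSpectrum 𝒮) (hx : x ∈ (⊤ : (Proj 𝒮).Opens)),
      Groth.Ega2Proj.wval (co hι k) x hx =
        algebraMap (T) (Twist.Loc 𝒮 x) (ι k) := fun k x hx =>
    Localization.mk_one_eq_algebraMap (ι k)
  refine ⟨?_, ?_⟩
  · have : res _ le_top (co hι i) =
        Groth.Ega2Proj.pwSec (N := 1) (hι i) 1 (by simp) (U := Proj.basicOpen 𝒮 (ι i))
          (fun x hx => hx) := Groth.Ega2Proj.wval_ext fun x hx => by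
      refine (Groth.Ega2Proj.wval_res _ _ x hx).trans ((hval i x trivial).trans ?_)
      refine Eq.trans ?_ (Groth.Ega2Proj.wval_pwSec _ _ _ _ x hx).symm
      rw [zpow_one, Groth.Ega2Proj.coe_funit]
    exact this ▸ Groth.Ega2Proj.gen_pwSec _ _ _ _
  · refine Groth.Ega2Proj.wval_ext fun x hx => ?_
    refine (Groth.Ega2Proj.wval_res _ _ x hx).trans ?_
    refine Eq.trans ?_ (Groth.Ega2Proj.wval_smul _ _ x hx).symm
    rw [hval, Groth.Ega2Proj.wval_res, hval]
    erw [ProjectiveSpectrum.Proj.awayToSection_apply]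
    rw [Away.val_mk, Localization.mk_eq_mk', IsLocalization.map_mk', ← IsLocalization.mk'_one
      (M := x.asHomogeneousIdeal.toIdeal.primeCompl) (Twist.Loc 𝒮 x),
      ← IsLocalization.mk'_one (M := x.asHomogeneousIdeal.toIdeal.primeCompl) (Twist.Loc 𝒮 x)
        (ι i), ← IsLocalization.mk'_mul, IsLocalization.mk'_eq_iff_eq]
    simp
    ring

theorem mem_span_products (hgen : Algebra.adjoin R (Set.range ι) = ⊤) (z : T) :
    z ∈ Submodule.span R (Submonoid.closure (Set.range ι) : Set T) := by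
  rw [← Algebra.adjoin_eq_span, hgen]
  trivial

theorem irrelevant_le_span (hι : ∀ m, ι m ∈ 𝒮 1) (hgen : Algebra.adjoin R (Set.range ι) = ⊤) :
    (HomogeneousIdeal.irrelevant 𝒮).toIdeal ≤ Ideal.span (Set.range ι) := by
  classical
  have key : ∀ z ∈ Submodule.span R (Submonoid.closure (Set.range ι) : Set T),
      z - GradedRing.proj 𝒮 0 z ∈ Ideal.span (Set.range ι) := by
    intro z hz
    induction hz using Submodule.span_induction with
    | mem x hx =>
      induction hx using Submonoid.closure_induction_left with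
      | one =>
        rw [GradedRing.proj_apply, DirectSum.decompose_of_mem_same 𝒮 SetLike.GradedOne.one_mem, sub_self]
        exact zero_mem _
      | mul_left a ha y hy ih =>
        obtain ⟨m, rfl⟩ := ha
        have hI : ι m * y ∈ Ideal.span (Set.range ι) :=
          Ideal.mul_mem_right _ _ (Ideal.subset_span ⟨m, rfl⟩)
        have h0 : GradedRing.proj 𝒮 0 (ι m * y) = 0 := by
          rw [GradedRing.proj_apply]
          exact DirectSum.coe_decompose_mul_of_left_mem_of_not_le 𝒮 (hι m) (by omega)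
        rwa [h0, sub_zero]
    | zero => simp
    | add x y _ _ hx hy =>
      have e : x + y - GradedRing.proj 𝒮 0 (x + y) =
          (x - GradedRing.proj 𝒮 0 x) + (y - GradedRing.proj 𝒮 0 y) := by rw [map_add]; ring
      rw [e]
      exact add_mem hx hy
    | smul a x _ hx =>
      have e : a • x - GradedRing.proj 𝒮 0 (a • x) = algebraMap R T a * (x - GradedRing.proj 𝒮 0 x) := by
        rw [← Algebra.smul_def, smul_sub, GradedRing.proj_apply, GradedRing.proj_apply,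
          DirectSum.decompose_smul]
        rfl
      rw [e]
      exact Ideal.mul_mem_left _ _ hx
  intro p hp
  have h := (HomogeneousIdeal.mem_irrelevant_iff _ _).mp hp
  simpa [h] using key p (mem_span_products hgen p)

theorem gloc_co (hι : ∀ m, ι m ∈ 𝒮 1) (hgen : Algebra.adjoin R (Set.range ι) = ⊤) (i : κ) :
    Groth.PropsBasic.Ample.gloc (co hι i) = Proj.basicOpen 𝒮 (ι i) := by
  have hS := irrelevant_le_span hι hgen
  have hS1 : ∀ f ∈ Set.range ι, f ∈ 𝒮 1 := by rintro _ ⟨m, rfl⟩; exact hι m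
  have hI : PicF.IsInvertible (O1 𝒮) :=
    Groth.Ega2Proj.isInvertible_twist (hS.trans (Ideal.span_mono hS1)) 1
  have e : co hι i = Groth.Ega2Proj.oneGlobal (hι i) := Groth.Ega2Proj.wval_ext fun x hx =>
    (Localization.mk_one_eq_algebraMap (ι i)).trans (Groth.Ega2Proj.wval_oneGlobal (hι i) x hx).symm
  rw [← Groth.PropsBasic.Ample.gloc_powSec hI _ one_pos, e]
  exact Groth.Ega2Proj.genLocus_powSec_eq hS1 hS (hι i)

/-- two ring maps out of `Away` agreeing on fractions of generators and on constants are equal -/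
theorem away_hom_ext (hι : ∀ m, ι m ∈ 𝒮 1) (hgen : Algebra.adjoin R (Set.range ι) = ⊤) (i : κ)
    {B : Type u} [CommRing B] (φ φ' : Away 𝒮 (ι i) →+* B)
    (hA : ∀ r : R, φ (fromZeroRingHom 𝒮 _ (algebraMap R (𝒮 0) r)) =
      φ' (fromZeroRingHom 𝒮 _ (algebraMap R (𝒮 0) r)))
    (h : ∀ l, φ (Away.mk 𝒮 (hι i) 1 (ι l) (by rw [one_smul]; exact hι l)) =
      φ' (Away.mk 𝒮 (hι i) 1 (ι l) (by rw [one_smul]; exact hι l))) : φ = φ' := by
  classical
  have hprod : ∀ z ∈ Submonoid.closure (Set.range ι), ∃ k, ∃ hz : z ∈ 𝒮 (k • 1),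
      φ (Away.mk 𝒮 (hι i) k z hz) = φ' (Away.mk 𝒮 (hι i) k z hz) := by
    intro z hz
    induction hz using Submonoid.closure_induction with
    | mem x hx =>
      obtain ⟨m, rfl⟩ := hx
      exact ⟨1, _, h m⟩
    | one =>
      have h1 : (1 : T) ∈ 𝒮 (0 • 1) := by rw [zero_smul]; exact SetLike.GradedOne.one_mem
      refine ⟨0, h1, ?_⟩
      have : Away.mk 𝒮 (hι i) 0 1 h1 = 1 := by
        apply val_injective
        simp [Away.val_mk, Localization.mk_eq_mk']
      rw [this, map_one, map_one]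
    | mul x y _ _ hx hy =>
      obtain ⟨k, hk, hkx⟩ := hx
      obtain ⟨l, hl, hly⟩ := hy
      have hm : x * y ∈ 𝒮 ((k + l) • 1) := by rw [add_smul]; exact SetLike.mul_mem_graded hk hl
      refine ⟨k + l, hm, ?_⟩
      have : Away.mk 𝒮 (hι i) (k + l) (x * y) hm = Away.mk 𝒮 (hι i) k x hk * Away.mk 𝒮 (hι i) l y hl := by
        apply val_injective
        simp only [val_mul, Away.val_mk, Localization.mk_mul]
        exact congrArg₂ Localization.mk rfl (Subtype.ext (pow_add _ _ _))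
      rw [this, map_mul, map_mul, hkx, hly]
  have key : ∀ z ∈ Submodule.span R (Submonoid.closure (Set.range ι) : Set T), ∀ d
      (hz : GradedRing.proj 𝒮 d z ∈ 𝒮 (d • 1)),
      φ (Away.mk 𝒮 (hι i) d (GradedRing.proj 𝒮 d z) hz) =
        φ' (Away.mk 𝒮 (hι i) d (GradedRing.proj 𝒮 d z) hz) := by
    have zero : ∀ d (h0 : (0 : T) ∈ 𝒮 (d • 1)), Away.mk 𝒮 (hι i) d 0 h0 = 0 := fun d h0 => by
      apply val_injective
      simp [Away.val_mk, Localization.mk_zero]
    have congr' : ∀ d (a b : T) (_ : a = b) (ha : a ∈ 𝒮 (d • 1)) (hb : b ∈ 𝒮 (d • 1)),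
        Away.mk 𝒮 (hι i) d a ha = Away.mk 𝒮 (hι i) d b hb := by
      rintro d a _ rfl ha hb; rfl
    have pmem : ∀ d (z : T), GradedRing.proj 𝒮 d z ∈ 𝒮 (d • 1) := fun d z => by
      rw [smul_eq_mul, mul_one, GradedRing.proj_apply]; exact SetLike.coe_mem _
    intro z hz
    induction hz using Submodule.span_induction with
    | mem x hx =>
      intro d hd
      obtain ⟨k, hk, hkx⟩ := hprod x hx
      have hk' : x ∈ 𝒮 k := by simpa using hk
      rcases eq_or_ne k d with rfl | hne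
      · rw [congr' k _ x (by rw [GradedRing.proj_apply, DirectSum.decompose_of_mem_same 𝒮 hk']) hd hk]
        exact hkx
      · rw [congr' d _ 0 (by rw [GradedRing.proj_apply, DirectSum.decompose_of_mem_ne 𝒮 hk' hne]) hd
          (zero_mem _), zero, map_zero, map_zero]
    | zero =>
      intro d hd
      rw [congr' d _ 0 (map_zero _) hd (zero_mem _), zero, map_zero, map_zero]
    | add x y _ _ hx hy =>
      intro d hd
      have : Away.mk 𝒮 (hι i) d (GradedRing.proj 𝒮 d (x + y)) hd =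
          Away.mk 𝒮 (hι i) d _ (pmem d x) + Away.mk 𝒮 (hι i) d _ (pmem d y) := by
        apply val_injective
        simp only [val_add, Away.val_mk, map_add, Localization.add_mk_self]
      rw [this, map_add, map_add, hx d (pmem d x), hy d (pmem d y)]
    | smul a x _ hx =>
      intro d hd
      have : Away.mk 𝒮 (hι i) d (GradedRing.proj 𝒮 d (a • x)) hd =
          fromZeroRingHom 𝒮 _ (algebraMap R (𝒮 0) a) * Away.mk 𝒮 (hι i) d _ (pmem d x) := by
        apply val_injective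
        rw [val_mul, Groth.Ega2P2.val_fromZero, Away.val_mk, Away.val_mk, Localization.mk_mul, one_mul]
        congr 1
        rw [SetLike.GradeZero.coe_algebraMap, ← Algebra.smul_def, GradedRing.proj_apply,
          GradedRing.proj_apply, DirectSum.decompose_smul]
        rfl
      rw [this, map_mul, map_mul, hA, hx d (pmem d x)]
  refine RingHom.ext fun z => ?_
  obtain ⟨d, a, ha, rfl⟩ := Away.mk_surjective 𝒮 (hι i) z
  have ha' : a ∈ 𝒮 d := by simpa using ha
  have e : GradedRing.proj 𝒮 d a = a := by rw [GradedRing.proj_apply, DirectSum.decompose_of_mem_same 𝒮 ha']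
  have h2 := key a (mem_span_products hgen a) d (by rw [e]; exact ha)
  simp only [e] at h2
  exact h2

theorem toSpecΓ_cancel {X : Scheme.{u}} {V : X.Opens} {A : CommRingCat.{u}} {f g : A ⟶ Γ(X, V)}
    (h : V.toSpecΓ ≫ Spec.map f = V.toSpecΓ ≫ Spec.map g) : f = g := by
  have h3 := congrArg (fun t => t.appTop) h
  simp only [Scheme.Hom.comp_appTop, Scheme.Opens.toSpecΓ_appTop] at h3
  rw [← Category.assoc, ← Category.assoc, Scheme.ΓSpecIso_naturality, Scheme.ΓSpecIso_naturality] at h3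
  simp only [Category.assoc] at h3
  exact (cancel_mono V.topIso.inv).mp ((cancel_epi (Scheme.ΓSpecIso A).hom).mp h3)

theorem spec_hom_eq (hι : ∀ m, ι m ∈ 𝒮 1) {X : Scheme.{u}} {r r' : X ⟶ Proj 𝒮}
    (hrr' : r ≫ Proj.toSpecZero 𝒮 ≫ Spec.map (CommRingCat.ofHom (algebraMap R (𝒮 0))) =
      r' ≫ Proj.toSpecZero 𝒮 ≫ Spec.map (CommRingCat.ofHom (algebraMap R (𝒮 0))))
    (i : κ) {V : X.Opens} {e : V ≤ r ⁻¹ᵁ Proj.basicOpen 𝒮 (ι i)}
    (e' : V ≤ r' ⁻¹ᵁ Proj.basicOpen 𝒮 (ι i)) :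
    CommRingCat.ofHom (algebraMap R (𝒮 0)) ≫ CommRingCat.ofHom (fromZeroRingHom 𝒮 _) ≫
        Proj.awayToSection 𝒮 (ι i) ≫ r.appLE _ V e =
      CommRingCat.ofHom (algebraMap R (𝒮 0)) ≫ CommRingCat.ofHom (fromZeroRingHom 𝒮 _) ≫
        Proj.awayToSection 𝒮 (ι i) ≫ r'.appLE _ V e' := by
  let D := Proj.basicOpen 𝒮 (ι i)
  let Q := Proj.toSpecZero 𝒮 ≫ Spec.map (CommRingCat.ofHom (algebraMap R (𝒮 0)))
  have key : ∀ (g : X ⟶ Proj 𝒮) (h : V ≤ g ⁻¹ᵁ D), V.ι ≫ g ≫ Q = V.toSpecΓ ≫ Spec.map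
      (CommRingCat.ofHom (algebraMap R (𝒮 0)) ≫ CommRingCat.ofHom (fromZeroRingHom 𝒮 _) ≫
        Proj.awayToSection 𝒮 (ι i) ≫ g.appLE _ V h) := by
    intro g h
    have hι' : D.ι = (D.toSpecΓ ≫ Spec.map (Proj.awayToSection 𝒮 (ι i))) ≫
        Proj.awayι 𝒮 _ (hι i) one_pos := by
      show _ = Proj.basicOpenToSpec _ _ ≫ _
      rw [← Proj.basicOpenIsoSpec_hom 𝒮 _ (hι i) one_pos, Proj.awayι, Iso.hom_inv_id_assoc]
    have h2 : g.resLE D V h ≫ D.toSpecΓ = V.toSpecΓ ≫ Spec.map (g.appLE D V h) := by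
      rw [Scheme.Opens.toSpecΓ, Scheme.toSpecΓ_naturality_assoc, Scheme.Opens.toSpecΓ, Category.assoc,
        ← Spec.map_comp, ← Spec.map_comp]
      congr 2
      rw [Scheme.Hom.appTop, Scheme.Hom.resLE_app_top]
      simp only [Scheme.Opens.topIso_inv]
      erw [← Functor.map_comp_assoc]
      try simp
    rw [← Category.assoc, ← Scheme.Hom.resLE_comp_ι g h, Category.assoc, hι']
    simp only [Category.assoc, Q]
    rw [Proj.awayι_toSpecZero_assoc, reassoc_of% h2]
    simp only [← Spec.map_comp, Category.assoc]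
    rfl
  exact toSpecΓ_cancel (((key r e).symm.trans (congrArg (V.ι ≫ ·) hrr')).trans (key r' e'))

/-- A morphism to `Proj` over the base is determined by the pullback of `O(1)` with its sections. -/
theorem hom_eq (hι : ∀ m, ι m ∈ 𝒮 1) (hgen : Algebra.adjoin R (Set.range ι) = ⊤)
    {X : Scheme.{u}} (r r' : X ⟶ Proj 𝒮)
    (hrr' : r ≫ Proj.toSpecZero 𝒮 ≫ Spec.map (CommRingCat.ofHom (algebraMap R (𝒮 0))) =
      r' ≫ Proj.toSpecZero 𝒮 ≫ Spec.map (CommRingCat.ofHom (algebraMap R (𝒮 0))))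
    (τ : (Scheme.Modules.pullback r).obj (O1 𝒮) ≅ (Scheme.Modules.pullback r').obj (O1 𝒮))
    (hτ : ∀ m : κ, τ.hom.app ⊤ (ProjUP.pullSec r (O1 𝒮) (co hι m)) =
      ProjUP.pullSec r' (O1 𝒮) (co hι m)) : r = r' := by
  have hS := irrelevant_le_span hι hgen
  have hS1 : ∀ f ∈ Set.range ι, f ∈ 𝒮 1 := by rintro _ ⟨m, rfl⟩; exact hι m
  have hI : PicF.IsInvertible (O1 𝒮) :=
    Groth.Ega2Proj.isInvertible_twist (hS.trans (Ideal.span_mono hS1)) 1
  let D : κ → (Proj 𝒮).Opens := fun m => Proj.basicOpen 𝒮 (ι m)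
  have hD : ∀ m, r' ⁻¹ᵁ D m = r ⁻¹ᵁ D m := fun m => by
    have h1 := Groth.PropsBasic.Ample.gloc_map τ.hom (pullSec r (O1 𝒮) (co hι m))
    rw [show τ.hom.app ⊤ (pullSec r (O1 𝒮) (co hι m)) = pullSec r' (O1 𝒮) (co hι m) from hτ m,
      Groth.PropsBasic.Ample.gloc_pullSec r' hI, Groth.PropsBasic.Ample.gloc_pullSec r hI,
      gloc_co hι hgen] at h1
    exact h1
  have hcov : ⨆ m, r ⁻¹ᵁ D m = ⊤ := by
    rw [← Scheme.Hom.preimage_iSup]
    have : ⨆ m, D m = ⊤ := top_le_iff.mp fun x _ => by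
      obtain ⟨⟨_, m, rfl⟩, hm⟩ := Opens.mem_iSup.mp
        ((Groth.Ega2Proj.iSup_basicOpen_eq_top_of_span hS).ge (Set.mem_univ x) :
          x ∈ ⨆ f : Set.range ι, Proj.basicOpen 𝒮 (f : T))
      exact Opens.mem_iSup.mpr ⟨m, hm⟩
    rw [this]; rfl
  suffices main : ∀ i : κ, (r ⁻¹ᵁ D i).ι ≫ r = (r ⁻¹ᵁ D i).ι ≫ r' from
    (Scheme.openCoverOfIsOpenCover X (fun m => r ⁻¹ᵁ D m)
      (TopologicalSpace.IsOpenCover.mk hcov)).hom_ext _ _ main
  intro i
  have e' : r ⁻¹ᵁ D i ≤ r' ⁻¹ᵁ D i := (hD i).ge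
  rw [← Scheme.Hom.resLE_comp_ι r (le_refl (r ⁻¹ᵁ D i)), ← Scheme.Hom.resLE_comp_ι r' e']
  congr 1
  haveI : IsAffine (D i).toScheme := Proj.isAffineOpen_basicOpen 𝒮 _ (hι i) one_pos
  have happ : r.appLE (D i) (r ⁻¹ᵁ D i) le_rfl = r'.appLE (D i) (r ⁻¹ᵁ D i) e' := by
    rw [← cancel_epi (Proj.basicOpenIsoAway 𝒮 (ι i) (hι i) one_pos).hom]
    show Proj.awayToSection 𝒮 (ι i) ≫ _ = Proj.awayToSection 𝒮 (ι i) ≫ _
    apply CommRingCat.hom_ext
    refine away_hom_ext hι hgen i _ _ (fun a => ?_) fun l => ?_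
    · exact ConcreteCategory.congr_hom (spec_hom_eq hι hrr' i e') a
    · let P : Γ((Scheme.Modules.pullback r).obj (O1 𝒮), r ⁻¹ᵁ D i) :=
        pullSec r (O1 𝒮) (res (O1 𝒮) le_top (co hι i))
      let P' : Γ((Scheme.Modules.pullback r').obj (O1 𝒮), r ⁻¹ᵁ D i) :=
        res _ e' (pullSec r' (O1 𝒮) (res (O1 𝒮) le_top (co hι i)))
      let w := Away.mk 𝒮 (hι i) 1 (ι l) (by rw [one_smul]; exact hι l)
      let σ := Proj.awayToSection 𝒮 (ι i) w
      have hP' : Gen _ (r ⁻¹ᵁ D i) P' := (Gen.pull r' (res_coord hι i i).1).res e'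
      have h1 : ∀ k, τ.hom.app _ (res _ (le_top : r ⁻¹ᵁ D i ≤ ⊤)
          (pullSec r (O1 𝒮) (co hι k))) = res _ (le_top : r ⁻¹ᵁ D i ≤ ⊤) (pullSec r' (O1 𝒮) (co hι k)) :=
        fun k => by
          exact (app_res τ.hom (le_top : r ⁻¹ᵁ D i ≤ ⊤)
            (pullSec r (O1 𝒮) (co hι k) : Γ((Scheme.Modules.pullback r).obj (O1 𝒮), ⊤))).trans
            (congrArg _ (hτ k))
      have hl : res _ (le_top : r ⁻¹ᵁ D i ≤ ⊤) (pullSec r (O1 𝒮) (co hι l)) = r.app (D i) σ • P := by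
        have := res_pullSec r (O1 𝒮) (le_top : D i ≤ ⊤) (co hι l)
        rw [(res_coord hι i l).2, pullSec_smul] at this
        exact this
      have hl' : res _ (le_top : r ⁻¹ᵁ D i ≤ ⊤) (pullSec r' (O1 𝒮) (co hι l)) =
          resX X e' (r'.app (D i) σ) • P' := by
        have := congrArg (res _ e') (res_pullSec r' (O1 𝒮) (le_top : D i ≤ ⊤) (co hι l))
        rw [(res_coord hι i l).2, pullSec_smul, res_smul, res_res] at this
        exact this
      have hi : τ.hom.app _ P = P' := by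
        have ha := res_pullSec r (O1 𝒮) (le_top : D i ≤ ⊤) (co hι i)
        have hb := congrArg (res _ e') (res_pullSec r' (O1 𝒮) (le_top : D i ≤ ⊤) (co hι i))
        rw [res_res] at hb
        exact (congrArg (fun z => τ.hom.app _ z) ha.symm).trans ((h1 i).trans hb)
      have := (h1 l).symm.trans (congrArg _ hl)
      rw [hl', Scheme.Modules.Hom.app_smul, hi] at this
      have h2 := hP'.smul_inj le_rfl (r := resX X e' (r'.app (D i) σ)) (r' := r.app (D i) σ)
        (by rw [res_self]; exact this)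
      simp only [CommRingCat.comp_apply, Scheme.Hom.appLE]
      refine Eq.trans ?_ h2.symm
      exact resX_self _ _
  apply ext_of_isAffine
  rw [Scheme.Hom.appTop, Scheme.Hom.appTop, Scheme.Hom.resLE_app_top, Scheme.Hom.resLE_app_top, happ]

end

end Groth.Chow.ProjUnique
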