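import Groth.Agent.Ega2Proj.TwistGen
import Groth.Agent.PicAux.Pullback
import Groth.Agent.PicAux.GenLocusAffine
import Groth.Agent.Ega2Proj2.ProjLoc
import Groth.Prelude.Def_ProjUP
import Mathlib

/-! The morphism to `Proj (Sym M)` given by a linear map from `M` to generating sections of an invertible module. -/

set_option linter.style.haveILetI false
universe u

open CategoryTheory CategoryTheory.Limits AlgebraicGeometry Opposite TopologicalSpace
open Groth.PicAux

namespace Groth.Chow.ToProj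

noncomputable section

open HomogeneousLocalization

variable {R : Type u} [CommRing R] {T : Type u} [CommRing T] [Algebra R T] {𝒮 : ℕ → Submodule R T}
  [GradedAlgebra 𝒮] {M : Type u} [AddCommGroup M] [Module R M] {ι : M →ₗ[R] T}

theorem adjoin_range (hsym : IsSymmetricAlgebra ι) : Algebra.adjoin R (Set.range ι) = ⊤ := by
  refine top_le_iff.mp fun z _ => ?_
  obtain ⟨w, rfl⟩ := hsym.2 z
  induction w using SymmetricAlgebra.induction with
  | algebraMap r => rw [AlgHom.commutes]; exact Subalgebra.algebraMap_mem _ r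
  | ι x => rw [SymmetricAlgebra.lift_ι_apply]; exact Algebra.subset_adjoin ⟨x, rfl⟩
  | mul x y hx hy => rw [map_mul]; exact mul_mem (hx trivial) (hy trivial)
  | add x y hx hy => rw [map_add]; exact add_mem (hx trivial) (hy trivial)

theorem mem_span_products (hsym : IsSymmetricAlgebra ι) (z : T) :
    z ∈ Submodule.span R (Submonoid.closure (Set.range ι) : Set T) := by
  rw [← Algebra.adjoin_eq_span, adjoin_range hsym]
  trivial

/-- homogeneous elements scale -/
theorem map_scale (hι : ∀ m, ι m ∈ 𝒮 1) (hsym : IsSymmetricAlgebra ι) {B : Type u} [CommRing B]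
    (ev ev' : T →+* B) (v : B) (hA : ∀ r, ev (algebraMap R T r) = ev' (algebraMap R T r))
    (h : ∀ m, ev (ι m) = v * ev' (ι m)) {d : ℕ} {p : T} (hp : p ∈ 𝒮 d) : ev p = v ^ d * ev' p := by
  classical
  have hprod : ∀ z ∈ Submonoid.closure (Set.range ι), ∃ k, z ∈ 𝒮 k ∧ ev z = v ^ k * ev' z := by
    intro z hz
    induction hz using Submonoid.closure_induction with
    | mem x hx =>
      obtain ⟨m, rfl⟩ := hx
      exact ⟨1, hι m, by rw [pow_one]; exact h m⟩
    | one => exact ⟨0, SetLike.GradedOne.one_mem, by simp⟩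
    | mul x y _ _ hx hy =>
      obtain ⟨k, hk, hkx⟩ := hx
      obtain ⟨l, hl, hly⟩ := hy
      exact ⟨k + l, SetLike.mul_mem_graded hk hl, by rw [map_mul, map_mul, hkx, hly, pow_add]; ring⟩
  have key : ∀ z ∈ Submodule.span R (Submonoid.closure (Set.range ι) : Set T), ∀ d,
      ev (GradedRing.proj 𝒮 d z) = v ^ d * ev' (GradedRing.proj 𝒮 d z) := by
    intro z hz
    induction hz using Submodule.span_induction with
    | mem x hx =>
      intro d
      obtain ⟨k, hk, hkx⟩ := hprod x hx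
      rw [GradedRing.proj_apply]
      rcases eq_or_ne k d with rfl | hne
      · rw [DirectSum.decompose_of_mem_same 𝒮 hk]; exact hkx
      · rw [DirectSum.decompose_of_mem_ne 𝒮 hk hne, map_zero, map_zero, mul_zero]
    | zero => intro d; simp
    | add x y _ _ hx hy => intro d; rw [map_add, map_add, map_add, hx, hy, mul_add]
    | smul a x _ hx =>
      intro d
      have : GradedRing.proj 𝒮 d (a • x) = a • GradedRing.proj 𝒮 d x := by
        rw [GradedRing.proj_apply, GradedRing.proj_apply, DirectSum.decompose_smul]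
        rfl
      rw [this, Algebra.smul_def, map_mul, map_mul, hx, hA]
      ring
  have := key p (mem_span_products hsym p) d
  rwa [GradedRing.proj_apply, DirectSum.decompose_of_mem_same 𝒮 hp] at this

theorem hom_ext (hsym : IsSymmetricAlgebra ι) {B : Type u} [CommRing B] {ev ev' : T →+* B}
    (hA : ∀ r, ev (algebraMap R T r) = ev' (algebraMap R T r)) (h : ∀ m, ev (ι m) = ev' (ι m)) :
    ev = ev' := by
  refine RingHom.ext fun z => ?_
  letI : Algebra R B := (ev.comp (algebraMap R T)).toAlgebra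
  exact congrArg (fun F : T →ₐ[R] B => F z) (hsym.algHom_ext
    (F := { ev with commutes' := fun r => rfl }) (G := { ev' with commutes' := fun r => (hA r).symm })
    (LinearMap.ext h))

/-- evaluation on a chart -/
def chart {B : Type u} [CommRing B] (i : M) (ev : T →+* B) (hb : ev (ι i) = 1) :
    Away 𝒮 (ι i) →+* B :=
  (Localization.awayLift ev _ (by rw [hb]; exact isUnit_one)).comp
    (algebraMap _ (Localization.Away (ι i)))

theorem chart_mk (hι : ∀ m, ι m ∈ 𝒮 1) {B : Type u} [CommRing B] (i : M) (ev : T →+* B)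
    (hb : ev (ι i) = 1) (d : ℕ) (a : T) (ha : a ∈ 𝒮 (d • 1)) :
    chart (𝒮 := 𝒮) i ev hb (Away.mk 𝒮 (hι i) d a ha) = ev a := by
  rw [chart, RingHom.comp_apply, HomogeneousLocalization.algebraMap_apply, Away.val_mk]
  refine (Localization.awayLift_mk ev _ _ (1 : B) (by rw [mul_one, hb]) d).trans ?_
  rw [one_pow, mul_one]

theorem comp_chart (hι : ∀ m, ι m ∈ 𝒮 1) {B B' : Type u} [CommRing B] [CommRing B'] (i : M) (ev : T →+* B)
    (hb : ev (ι i) = 1) (g : B →+* B') :
    g.comp (chart (𝒮 := 𝒮) i ev hb) = chart i (g.comp ev) (by rw [RingHom.comp_apply, hb, map_one]) := by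
  refine RingHom.ext fun z => ?_
  obtain ⟨d, a, ha, rfl⟩ := Away.mk_surjective 𝒮 (hι i) z
  rw [RingHom.comp_apply, chart_mk hι, chart_mk hι, RingHom.comp_apply]

/-- the point given by chart data is independent of the chart -/
theorem chart_change (hι : ∀ m, ι m ∈ 𝒮 1) (hsym : IsSymmetricAlgebra ι) {B : CommRingCat.{u}} {i j : M}
    (ev ev' : T →+* B) (hb : ev (ι i) = 1) (hb' : ev' (ι j) = 1)
    (hA : ∀ r, ev (algebraMap R T r) = ev' (algebraMap R T r))
    (h : ∀ l, ev (ι l) = ev (ι j) * ev' (ι l)) :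
    Spec.map (CommRingCat.ofHom (chart i ev hb)) ≫ Proj.awayι 𝒮 _ (hι i) one_pos =
      Spec.map (CommRingCat.ofHom (chart j ev' hb')) ≫ Proj.awayι 𝒮 _ (hι j) one_pos := by
  let x : T := ι i * ι j
  have hu : IsUnit (ev (ι j)) := IsUnit.of_mul_eq_one (ev' (ι i)) (by rw [← h i, hb])
  have hxj : ev x = ev (ι j) := by rw [map_mul, hb, one_mul]
  have hx : IsUnit (ev x) := by rwa [hxj]
  obtain ⟨γ, hγdef⟩ : ∃ γ : Away 𝒮 x →+* B,
      γ = (Localization.awayLift ev x hx).comp (algebraMap _ (Localization.Away x)) := ⟨_, rfl⟩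
  have hγ : γ.comp (awayMap 𝒮 (hι j) (rfl : x = _)) = chart i ev hb := by
    refine RingHom.ext fun z => ?_
    obtain ⟨d, a, ha, rfl⟩ := Away.mk_surjective 𝒮 (hι i) z
    rw [chart_mk hι, RingHom.comp_apply, awayMap_mk, hγdef]
    show Localization.awayLift ev x hx _ = _
    rw [HomogeneousLocalization.algebraMap_apply, Away.val_mk]
    obtain ⟨v, hv⟩ := hx
    refine (Localization.awayLift_mk ev _ _ (↑v⁻¹ : B) (by rw [← hv, Units.mul_inv]) d).trans ?_
    rw [map_mul, map_pow, ← hxj, mul_assoc, ← mul_pow, ← hv, Units.mul_inv, one_pow, mul_one]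
  have hγ' : γ.comp (awayMap 𝒮 (hι i) ((rfl : x = _).trans (mul_comm _ _))) = chart j ev' hb' := by
    refine RingHom.ext fun z => ?_
    obtain ⟨d, a, ha, rfl⟩ := Away.mk_surjective 𝒮 (hι j) z
    rw [chart_mk hι, RingHom.comp_apply, awayMap_mk, hγdef]
    show Localization.awayLift ev x hx _ = _
    rw [HomogeneousLocalization.algebraMap_apply, Away.val_mk]
    obtain ⟨v, hv⟩ := hx
    refine (Localization.awayLift_mk ev _ _ (↑v⁻¹ : B) (by rw [← hv, Units.mul_inv]) d).trans ?_
    have ha' : a ∈ 𝒮 d := by simpa using ha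
    rw [map_mul, map_pow, hb, one_pow, mul_one, map_scale hι hsym ev ev' _ hA h ha', ← hxj, ← hv,
      mul_comm (_ ^ d), mul_assoc, ← mul_pow, Units.mul_inv, one_pow, mul_one]
  rw [← hγ, ← hγ', CommRingCat.ofHom_comp, CommRingCat.ofHom_comp, Spec.map_comp, Spec.map_comp,
    Category.assoc, Category.assoc]
  exact congrArg (Spec.map (CommRingCat.ofHom γ) ≫ ·)
    ((Proj.SpecMap_awayMap_awayι 𝒮 (hι i) one_pos (hι j) (rfl : x = _)).trans
      (Proj.SpecMap_awayMap_awayι 𝒮 (hι j) one_pos (hι i) ((rfl : x = _).trans (mul_comm _ _))).symm)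

variable {X : Scheme.{u}} (q : X ⟶ Spec (CommRingCat.of R)) (L : X.Modules)
  (s : M →+ ProjUP.Γm L)

/-- the locus where `s i` generates -/
def U (i : M) : X.Opens := CohB1.genLocus L (homOfSection (s i))

theorem gen_U (i : M) : Gen L (U L s i) (res L le_top (s i)) := by
  have := (le_genLocus_iff (homOfSection (s i)) (U L s i)).mp le_rfl
  rwa [gsec_homOfSection] at this

theorem exists_c (i l : M) :
    ∃ c : Γ(X, U L s i), res L le_top (s l) = c • res L (le_top : U L s i ≤ ⊤) (s i) := by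
  obtain ⟨c, hc⟩ := (gen_U L s i).exists_coeff le_rfl (res L le_top (s l))
  exact ⟨c, by rwa [res_self] at hc⟩

/-- the coordinate functions `s l / s i` -/
def c (i l : M) : Γ(X, U L s i) := (exists_c L s i l).choose

theorem c_spec (i l : M) :
    res L le_top (s l) = c L s i l • res L (le_top : U L s i ≤ ⊤) (s i) := (exists_c L s i l).choose_spec

theorem c_self (i : M) : c L s i i = 1 :=
  (gen_U L s i).smul_inj le_rfl (by rw [res_self, ← c_spec, one_smul])

theorem c_trans (i j l : M) (V : X.Opens) (hi : V ≤ U L s i) (hj : V ≤ U L s j) :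
    resX X hi (c L s i l) = resX X hi (c L s i j) * resX X hj (c L s j l) := by
  refine (gen_U L s i).smul_inj hi ?_
  have h1 := congrArg (res L hi) (c_spec L s i l)
  have h2 := congrArg (res L hj) (c_spec L s j l)
  have h3 := congrArg (res L hi) (c_spec L s i j)
  simp only [res_smul, res_res] at h1 h2 h3 ⊢
  rw [← h1, h2, h3, ← mul_smul, mul_comm]

theorem U_inf (i j : M) : U L s j ⊓ U L s i = X.basicOpen (c L s i j) :=
  genLocus_inf_eq_basicOpen (gen_U L s i) (by rw [gsec_homOfSection]; exact c_spec L s i j)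

theorem iSup_U (hL : PicF.IsInvertible L) (hs : ProjUP.GeneratedBy L s) : ⨆ i, U L s i = ⊤ := by
  refine top_le_iff.mp fun x _ => ?_
  obtain ⟨W, e, -, hxW, he⟩ := exists_affine_gen_mem hL x
  choose a ha using fun i => he.exists_coeff le_rfl (res L (le_top : W ≤ ⊤) (s i))
  by_cases hu : ∃ i, x ∈ X.basicOpen (a i)
  · obtain ⟨i, hi⟩ := hu
    refine Opens.mem_iSup.mpr ⟨i, ?_⟩
    have := genLocus_inf_eq_basicOpen (s := homOfSection (s i)) he (c := a i)
      (by rw [gsec_homOfSection]; simpa using ha i)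
    exact (this.ge hi).1
  exfalso
  push Not at hu
  let m := IsLocalRing.maximalIdeal (X.presheaf.stalk x)
  let g := L.presheaf.germ W x hxW e
  have hgs : ∀ i, L.presheaf.germ ⊤ x trivial (s i) = X.presheaf.germ W x hxW (a i) • g := by
    intro i
    have h1 : L.presheaf.germ W x hxW (res L (le_top : W ≤ ⊤) (s i)) = L.presheaf.germ ⊤ x trivial (s i) :=
      TopCat.Presheaf.germ_res_apply L.presheaf (homOfLE (le_top : W ≤ ⊤)) x hxW (s i)
    rw [← h1, ha i, res_self]
    exact PresheafOfModules.germ_smul (R := X.presheaf)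
      (show PresheafOfModules (X.presheaf ⋙ forget₂ CommRingCat RingCat) from L.val) x W hxW (a i) e
  have hm : ∀ i, X.presheaf.germ W x hxW (a i) ∈ m := fun i => by
    rw [IsLocalRing.mem_maximalIdeal]
    exact fun h => hu i ((X.mem_basicOpen (a i) x hxW).mpr h)
  have hg : g ∈ Submodule.map (LinearMap.toSpanSingleton _ _ g) m := by
    have hsp : Submodule.span (X.presheaf.stalk x)
        (Set.range fun i => (L.presheaf.germ ⊤ x trivial).hom (s i)) ≤
          Submodule.map (LinearMap.toSpanSingleton _ _ g) m := by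
      rw [Submodule.span_le]
      rintro _ ⟨i, rfl⟩
      exact ⟨_, hm i, (hgs i).symm⟩
    exact hsp ((hs x).ge trivial)
  obtain ⟨q, hq, hqg⟩ := hg
  have h0 : g = 0 := by
    have hu1 : IsUnit (1 - q) := IsLocalRing.isUnit_one_sub_self_of_mem_nonunits _
      ((IsLocalRing.mem_maximalIdeal q).mp hq)
    have : (1 - q) • g = 0 := by rw [sub_smul, one_smul, sub_eq_zero]; exact hqg.symm
    exact hu1.smul_eq_zero.mp this
  obtain ⟨W', hxW', i₁, i₂, h⟩ := L.presheaf.germ_eq x hxW hxW e 0 (h0.trans (map_zero _).symm)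
  have he0 : res L i₁.le e = 0 := by
    refine Eq.trans ?_ (map_zero (L.presheaf.map i₂.op).hom)
    exact h
  have h10 : (1 : Γ(X, W')) = 0 := (he.res i₁.le).smul_inj le_rfl (by simp [he0])
  have := (X.mem_basicOpen' (1 : Γ(X, W')) ⟨x, hxW'⟩).mpr (by rw [map_one]; exact isUnit_one)
  rw [h10, Scheme.basicOpen_zero] at this
  exact this

/-- the structure map into a chart -/
def baseMap (i : M) : R →+* Γ(X, U L s i) := (resX X le_top).comp (ProjUP.toGlobal q)

/-- The data: `ι` lands in degree one and is a symmetric algebra, `s` is `R`-linear. -/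
structure Data : Prop where
  mem : ∀ m, ι m ∈ 𝒮 1
  sym : IsSymmetricAlgebra ι
  lin : ∀ (a : R) (m : M), s (a • m) = ProjUP.toGlobal q a • s m

variable {q L s} (H : Data (𝒮 := 𝒮) (ι := ι) q L s)

/-- `c` as a linear map -/
def cLin (i : M) : letI := (baseMap q L s i).toAlgebra; M →ₗ[R] Γ(X, U L s i) :=
  letI := (baseMap q L s i).toAlgebra
  { toFun := c L s i
    map_add' := fun m m' => (gen_U L s i).smul_inj le_rfl (by
      rw [res_self, ← c_spec, add_smul, ← c_spec, ← c_spec, map_add, res_add])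
    map_smul' := fun a m => (gen_U L s i).smul_inj le_rfl (by
      rw [res_self, ← c_spec, H.lin, res_smul, c_spec L s i m, RingHom.id_apply, Algebra.smul_def,
        mul_smul, RingHom.algebraMap_toAlgebra]
      rfl) }

/-- evaluation of the symmetric algebra on a chart -/
def evU (i : M) : T →+* Γ(X, U L s i) :=
  letI := (baseMap q L s i).toAlgebra
  (H.sym.lift (cLin H i)).toRingHom

theorem evU_ι (i l : M) : evU H i (ι l) = c L s i l := by
  letI := (baseMap q L s i).toAlgebra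
  exact H.sym.lift_eq (cLin H i) l

theorem evU_algebraMap (i : M) (r : R) : evU H i (algebraMap R T r) = baseMap q L s i r := by
  letI := (baseMap q L s i).toAlgebra
  exact (H.sym.lift (cLin H i)).commutes r

/-- the chart homomorphism -/
def α (i : M) : Away 𝒮 (ι i) →+* Γ(X, U L s i) :=
  chart i (evU H i) (by rw [evU_ι, c_self])

theorem α_mk (i : M) (d : ℕ) (a : T) (ha : a ∈ 𝒮 (d • 1)) :
    α H i (Away.mk 𝒮 (H.mem i) d a ha) = evU H i a := chart_mk H.mem _ _ _ _ _ _

/-- the local morphism -/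
def rU (i : M) : (U L s i).toScheme ⟶ Proj 𝒮 :=
  (U L s i).toSpecΓ ≫ Spec.map (CommRingCat.ofHom (α H i)) ≫ Proj.awayι 𝒮 _ (H.mem i) one_pos

theorem rU_compat (i j : M) :
    X.homOfLE (inf_le_left : U L s i ⊓ U L s j ≤ U L s i) ≫ rU H i =
      X.homOfLE (inf_le_right : U L s i ⊓ U L s j ≤ U L s j) ≫ rU H j := by
  set V := U L s i ⊓ U L s j
  rw [rU, rU, ← Scheme.Opens.toSpecΓ_SpecMap_presheaf_map_assoc V (U L s i) inf_le_left,
    ← Scheme.Opens.toSpecΓ_SpecMap_presheaf_map_assoc V (U L s j) inf_le_right, ← Spec.map_comp_assoc,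
    ← Spec.map_comp_assoc]
  congr 1
  have key := chart_change H.mem H.sym (B := Γ(X, V)) (i := i) (j := j)
    ((resX X inf_le_left).comp (evU H i)) ((resX X inf_le_right).comp (evU H j))
    (by rw [RingHom.comp_apply, evU_ι, c_self, map_one]) (by rw [RingHom.comp_apply, evU_ι, c_self, map_one])
    (fun r => by
      simp only [RingHom.comp_apply, evU_algebraMap, baseMap]
      exact (resX_resX le_top inf_le_left _).trans (resX_resX le_top inf_le_right _).symm)
    (fun l => by
      simp only [RingHom.comp_apply, evU_ι]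
      exact c_trans L s i j l V inf_le_left inf_le_right)
  refine Eq.trans ?_ (key.trans ?_)
  · congr 2
    apply CommRingCat.hom_ext
    show (resX X inf_le_left).comp (α H i) = _
    rw [α, comp_chart H.mem]
    rfl
  · congr 2
    apply CommRingCat.hom_ext
    show _ = (resX X inf_le_right).comp (α H j)
    rw [α, comp_chart H.mem]
    rfl

theorem exists_r (hU : ⨆ i, U L s i = ⊤) :
    ∃ r : X ⟶ Proj 𝒮, ∀ i, (U L s i).ι ≫ r = rU H i := by
  let cov : X.OpenCover := Scheme.openCoverOfIsOpenCover X (U L s) (TopologicalSpace.IsOpenCover.mk hU)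
  refine ⟨cov.glueMorphisms (fun i => rU H i) fun i j => ?_, fun i => cov.ι_glueMorphisms _ _ i⟩
  let V := U L s i ⊓ U L s j
  let e : pullback (U L s i).ι (U L s j).ι ⟶ V.toScheme := IsOpenImmersion.lift V.ι
    (Limits.pullback.fst _ _ ≫ (U L s i).ι) (by
      rintro _ ⟨z, rfl⟩
      rw [Scheme.Opens.range_ι]
      refine ⟨(Limits.pullback.fst (U L s i).ι (U L s j).ι z).2, ?_⟩
      rw [Limits.pullback.condition]
      exact (Limits.pullback.snd (U L s i).ι (U L s j).ι z).2)
  have he1 : e ≫ X.homOfLE inf_le_left = Limits.pullback.fst (U L s i).ι (U L s j).ι := by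
    rw [← cancel_mono (U L s i).ι, Category.assoc, X.homOfLE_ι, IsOpenImmersion.lift_fac]
  have he2 : e ≫ X.homOfLE inf_le_right = Limits.pullback.snd (U L s i).ι (U L s j).ι := by
    rw [← cancel_mono (U L s j).ι, Category.assoc, X.homOfLE_ι, IsOpenImmersion.lift_fac,
      Limits.pullback.condition]
  change Limits.pullback.fst (U L s i).ι (U L s j).ι ≫ rU H i =
    Limits.pullback.snd (U L s i).ι (U L s j).ι ≫ rU H j
  rw [← he1, ← he2, Category.assoc, Category.assoc, rU_compat]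



theorem r_toSpec {r : X ⟶ Proj 𝒮} (hr : ∀ i, (U L s i).ι ≫ r = rU H i)
    (hU : ⨆ i, U L s i = ⊤) : r ≫ (Proj.toSpecZero 𝒮 ≫ Spec.map (CommRingCat.ofHom (algebraMap R (𝒮 0)))) = q := by
  refine (Scheme.openCoverOfIsOpenCover X (U L s) (TopologicalSpace.IsOpenCover.mk hU)).hom_ext _ _ fun i => ?_
  change (U L s i).ι ≫ r ≫ (Proj.toSpecZero 𝒮 ≫ Spec.map (CommRingCat.ofHom (algebraMap R (𝒮 0)))) = (U L s i).ι ≫ q
  rw [reassoc_of% (hr i), rU, Category.assoc, Category.assoc]
  have h0 : Proj.awayι 𝒮 (ι i) (H.mem i) one_pos ≫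
      Proj.toSpecZero 𝒮 = Spec.map (CommRingCat.ofHom (fromZeroRingHom 𝒮 _)) :=
    Proj.awayι_toSpecZero _ _ _ _
  refine (congrArg (fun t => (U L s i).toSpecΓ ≫ Spec.map (CommRingCat.ofHom (α H i)) ≫ t)
    ((Category.assoc _ _ _).symm.trans (congrArg (· ≫ _) h0))).trans ?_
  rw [← Spec.map_comp, ← Spec.map_comp]
  have : (CommRingCat.ofHom (algebraMap R (𝒮 0)) ≫
      CommRingCat.ofHom (fromZeroRingHom 𝒮 _)) ≫ CommRingCat.ofHom (α H i) =
        (Scheme.ΓSpecIso (CommRingCat.of R)).inv ≫ q.appTop ≫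
          X.presheaf.map (homOfLE (le_top : U L s i ≤ ⊤)).op := by
    apply CommRingCat.hom_ext
    refine RingHom.ext fun r₀ => ?_
    show α H i (fromZeroRingHom 𝒮 _ (algebraMap R (𝒮 0) r₀)) = _
    have he : fromZeroRingHom 𝒮 (Submonoid.powers (ι i))
        (algebraMap R (𝒮 0) r₀) = Away.mk 𝒮 (H.mem i) 0 (algebraMap R T r₀)
          (by simpa using SetLike.algebraMap_mem_graded 𝒮 r₀) := by
      apply val_injective
      rw [Groth.Ega2P2.val_fromZero, Away.val_mk]
      exact congrArg₂ Localization.mk rfl (Subtype.ext (pow_zero _).symm)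
    rw [he, α_mk, evU_algebraMap]
    rfl
  rw [this, Spec.map_comp, Spec.map_comp, ← Category.assoc (U L s i).toSpecΓ,
    ← Category.assoc (U L s i).toSpecΓ, Scheme.Opens.toSpecΓ_SpecMap_presheaf_map_top, Category.assoc,
    Category.assoc, ← Scheme.toSpecΓ_naturality_assoc, toSpecΓ_SpecMap_ΓSpecIso_inv, Category.comp_id]

theorem preimage_D {r : X ⟶ Proj 𝒮} (hr : ∀ i, (U L s i).ι ≫ r = rU H i)
    (hU : ⨆ i, U L s i = ⊤) (i : M) :
    r ⁻¹ᵁ Proj.basicOpen 𝒮 (ι i) = U L s i := by
  have hmem : ∀ (j : M) (z : (U L s j).toScheme),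
      r ((U L s j).ι z) ∈ Proj.basicOpen 𝒮 (ι i) ↔ (U L s j).ι z ∈ X.basicOpen (c L s j i) := by
    intro j z
    rw [← Scheme.Hom.comp_apply, hr j, rU]
    show z ∈ (U L s j).toSpecΓ ⁻¹ᵁ Spec.map (CommRingCat.ofHom (α H j)) ⁻¹ᵁ
      (Proj.awayι 𝒮 _ (H.mem j) one_pos ⁻¹ᵁ Proj.basicOpen 𝒮 (ι i)) ↔ _
    rw [Proj.awayι_preimage_basicOpen 𝒮 (H.mem j) one_pos (H.mem i) one_pos]
    have hval : α H j (Away.isLocalizationElem (H.mem j) (H.mem i)) = c L s j i := by
      have : Away.isLocalizationElem (H.mem j) (H.mem i) = Away.mk 𝒮 (H.mem j) 1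
          (ι i) (by rw [one_smul]; exact H.mem i) := by
        apply val_injective
        simp
      rw [this, α_mk, evU_ι]
    have h2 : Spec.map (CommRingCat.ofHom (α H j)) ⁻¹ᵁ
        PrimeSpectrum.basicOpen (Away.isLocalizationElem (H.mem j) (H.mem i)) =
          PrimeSpectrum.basicOpen (c L s j i) := by
      rw [← hval]; rfl
    rw [h2, Scheme.Opens.toSpecΓ_preimage_basicOpen]
    rfl
  ext x
  obtain ⟨j, hj⟩ := Opens.mem_iSup.mp (hU.ge (Set.mem_univ x))
  have h := hmem j ⟨x, hj⟩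
  rw [← U_inf L s j i] at h
  exact h.trans ⟨fun h => h.1, fun h => ⟨h, hj⟩⟩

theorem appLE_awayToSection {r : X ⟶ Proj 𝒮} (hr : ∀ i, (U L s i).ι ≫ r = rU H i)
    (i : M) (e : U L s i ≤ r ⁻¹ᵁ Proj.basicOpen 𝒮 (ι i))
    (z : Away 𝒮 (ι i)) :
    r.appLE _ _ e (Proj.awayToSection 𝒮 (ι i) z) = α H i z := by
  let D := Proj.basicOpen 𝒮 (ι i)
  have h1 : r.resLE D (U L s i) e ≫ D.toSpecΓ ≫ Spec.map (Proj.awayToSection 𝒮 (ι i)) =
      (U L s i).toSpecΓ ≫ Spec.map (CommRingCat.ofHom (α H i)) := by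
    rw [← cancel_mono (Proj.awayι 𝒮 _ (H.mem i) one_pos)]
    have hι : (D.toSpecΓ ≫ Spec.map (Proj.awayToSection 𝒮 (ι i))) ≫
        Proj.awayι 𝒮 _ (H.mem i) one_pos = D.ι := by
      show Proj.basicOpenToSpec _ _ ≫ _ = _
      rw [← Proj.basicOpenIsoSpec_hom 𝒮 _ (H.mem i) one_pos, Proj.awayι, Iso.hom_inv_id_assoc]
    rw [Category.assoc]
    refine (congrArg (r.resLE D (U L s i) e ≫ ·) hι).trans ?_
    rw [Scheme.Hom.resLE_comp_ι, Category.assoc]
    exact hr i
  have h2 : r.resLE D (U L s i) e ≫ D.toSpecΓ = (U L s i).toSpecΓ ≫ Spec.map (r.appLE D (U L s i) e) := by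
    rw [Scheme.Opens.toSpecΓ, Scheme.toSpecΓ_naturality_assoc, Scheme.Opens.toSpecΓ, Category.assoc,
      ← Spec.map_comp, ← Spec.map_comp]
    congr 2
    rw [Scheme.Hom.appTop, Scheme.Hom.resLE_app_top]
    simp only [Scheme.Opens.topIso_inv, Category.assoc]
    erw [← Functor.map_comp_assoc]
    try simp
  rw [← Category.assoc, h2, Category.assoc, ← Spec.map_comp] at h1
  have h3 := congrArg (fun t => t.appTop) h1
  simp only [Scheme.Hom.comp_appTop, Scheme.Opens.toSpecΓ_appTop] at h3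
  rw [← Category.assoc, ← Category.assoc, Scheme.ΓSpecIso_naturality,
    Scheme.ΓSpecIso_naturality] at h3
  simp only [Category.assoc] at h3
  have h4 := (cancel_epi (Scheme.ΓSpecIso (CommRingCat.of (Away 𝒮 (ι i)))).hom).mp h3
  rw [← Category.assoc] at h4
  have h5 := (cancel_mono (U L s i).topIso.inv).mp h4
  exact ConcreteCategory.congr_hom h5 z

/-- `O(1)` on `Proj` -/
abbrev O1 (𝒮 : ℕ → Submodule R T) [GradedAlgebra 𝒮] : (Proj 𝒮).Modules := Twist.twist 𝒮 1

/-- the global section of `O(1)` given by `m` -/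
abbrev co (hι : ∀ m, ι m ∈ 𝒮 1) (i : M) : Γ((O1 𝒮), ⊤) := Twist.globalOf 𝒮 ⟨ι i, hι i⟩

theorem res_coord (hι : ∀ m, ι m ∈ 𝒮 1) (i l : M) :
    Gen ((O1 𝒮)) (Proj.basicOpen 𝒮 (ι i)) (res _ le_top (co hι i)) ∧
    res ((O1 𝒮)) (le_top : Proj.basicOpen 𝒮 (ι i) ≤ ⊤) (co hι l) =
      (Proj.awayToSection 𝒮 (ι i)) (Away.mk 𝒮 (hι i) 1 (ι l)
        (by rw [one_smul]; exact hι l)) • res _ le_top (co hι i) := by
  have hval : ∀ (k : M) (x : ProjectiveSpectrum 𝒮) (hx : x ∈ (⊤ : (Proj 𝒮).Opens)),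
      Groth.Ega2Proj.wval (co hι k) x hx =
        algebraMap (T) (Twist.Loc 𝒮 x) (ι k) := fun k x hx =>
    Localization.mk_one_eq_algebraMap (ι k)
  refine ⟨?_, ?_⟩
  · have : res _ le_top (co hι i) =
        Groth.Ega2Proj.pwSec (N := 1) (hι i) 1 (by simp) (U := Proj.basicOpen 𝒮 (ι i))
          (fun x hx => hx) := Groth.Ega2Proj.wval_ext fun x hx => by
      refine (Groth.Ega2Proj.wval_res _ _ x hx).trans ((hval i x trivial).trans ?_)
      refine Eq.trans ?_ (Groth.Ega2Proj.wval_pwSec _ _ _ _ x hx).symm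
      rw [zpow_one, Groth.Ega2Proj.coe_funit]
    exact this ▸ Groth.Ega2Proj.gen_pwSec _ _ _ _
  · refine Groth.Ega2Proj.wval_ext fun x hx => ?_
    refine (Groth.Ega2Proj.wval_res _ _ x hx).trans ?_
    refine Eq.trans ?_ (Groth.Ega2Proj.wval_smul _ _ x hx).symm
    rw [hval, Groth.Ega2Proj.wval_res, hval]
    erw [ProjectiveSpectrum.Proj.awayToSection_apply]
    rw [Away.val_mk, Localization.mk_eq_mk', IsLocalization.map_mk', ← IsLocalization.mk'_one
      (M := x.asHomogeneousIdeal.toIdeal.primeCompl) (Twist.Loc 𝒮 x),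
      ← IsLocalization.mk'_one (M := x.asHomogeneousIdeal.toIdeal.primeCompl) (Twist.Loc 𝒮 x)
        (ι i), ← IsLocalization.mk'_mul, IsLocalization.mk'_eq_iff_eq]
    simp
    ring

theorem exists_tau {r : X ⟶ Proj 𝒮} (hr : ∀ i, (U L s i).ι ≫ r = rU H i)
    (hU : ⨆ i, U L s i = ⊤) :
    ∃ τ : (Scheme.Modules.pullback r).obj ((O1 𝒮)) ≅ L,
      ∀ l, τ.hom.app ⊤ (ProjUP.pullSec r ((O1 𝒮)) (co H.mem l)) = s l := by
  let N : (Proj 𝒮).Modules := O1 𝒮
  let D := fun i : M => Proj.basicOpen 𝒮 (ι i)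
  let V : M → X.Opens := fun i => r ⁻¹ᵁ D i
  have hVU : ∀ i, V i ≤ U L s i := fun i => (preimage_D H hr hU i).le
  have hUV : ∀ i, U L s i ≤ V i := fun i => (preimage_D H hr hU i).ge
  have hV : iSup V = ⊤ := top_le_iff.mp (hU.ge.trans (iSup_mono hUV))
  let P : ∀ i, Γ((Scheme.Modules.pullback r).obj N, V i) := fun i =>
    pullSec r N (res N le_top (co H.mem i))
  have hP : ∀ i, Gen _ (V i) (P i) := fun i => Gen.pull r (res_coord H.mem i i).1
  have hPl : ∀ i l, res _ (le_top : V i ≤ ⊤)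
      (ProjUP.pullSec r N (co H.mem l) : Γ((Scheme.Modules.pullback r).obj N, ⊤)) =
        resX X (hVU i) (c L s i l) • P i := by
    intro i l
    have h1 : res _ (le_top : V i ≤ ⊤)
        (ProjUP.pullSec r N (co H.mem l) : Γ((Scheme.Modules.pullback r).obj N, ⊤)) =
          pullSec r N (res N le_top (co H.mem l)) := res_pullSec r N le_top _
    rw [h1, (res_coord H.mem i l).2, pullSec_smul]
    congr 1
    have h2 := appLE_awayToSection H hr i (hUV i) (Away.mk 𝒮 (H.mem i) 1 (ι l)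
      (by rw [one_smul]; exact H.mem l))
    rw [α_mk, evU_ι] at h2
    rw [← h2, Scheme.Hom.appLE, CommRingCat.comp_apply]
    refine Eq.trans ?_ (resX_resX (hUV i) (hVU i) _).symm
    exact (resX_self _ _).symm
  let T : ∀ i, Γ(L, V i) := fun i => res L le_top (s i)
  have hT : ∀ i, Gen L (V i) (T i) := fun i => by
    have := (gen_U L s i).res (hVU i)
    rwa [res_res] at this
  have hs : ∀ i l, res L (le_top : V i ≤ ⊤) (s l) = resX X (hVU i) (c L s i l) • T i := by
    intro i l
    have := congrArg (res L (hVU i)) (c_spec L s i l)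
    rwa [res_smul, res_res, res_res] at this
  obtain ⟨e, he⟩ := exists_iso_of_gen hV P hP T hT fun i j a ha => by
    have hP' := congrArg (res _ (inf_le_right : V i ⊓ V j ≤ V j)) (hPl j i)
    have hPi := congrArg (res _ (inf_le_left : V i ⊓ V j ≤ V i)) (hPl i i)
    simp only [c_self, map_one, one_smul, res_res, res_smul] at hP' hPi
    rw [hPi] at hP'
    rw [hP'] at ha
    have hA := ((hP j).res (inf_le_right : V i ⊓ V j ≤ V j)).smul_inj le_rfl
      (r := _) (r' := a) (by simpa using ha)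
    have hS := congrArg (res L (inf_le_right : V i ⊓ V j ≤ V j)) (hs j i)
    rw [res_res, res_smul] at hS
    show res L inf_le_left (res L le_top (s i)) = _
    rw [res_res, hS, ← hA, resX_resX]
  refine ⟨e, fun l => res_ext V (fun _ => le_top) hV.ge fun i => ?_⟩
  rw [← app_res, hPl i l, Scheme.Modules.Hom.app_smul, he, hs]

end

end Groth.Chow.ToProj
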